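import Cfsg.Agent.Lib.Spor.SuzOut.ChainX
import Cfsg.Agent.Lib.Spor.Suz.Act0.Data

/-!
The orbits of a chain.
-/

set_option autoImplicit false
set_option maxRecDepth 100000
set_option maxHeartbeats 0

namespace CfsgLib.Spor.SuzOut

open CfsgLib.Spor.TC CfsgLib.Spor.ActCert

theorem chainX_ok : chainW CfsgLib.Spor.Suz.Act0.act [] levX = true ∧ chainProd levX = 448345497600 := by
  decide +kernel

end CfsgLib.Spor.SuzOut
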