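import Cfsg.Agent.Lib.Spor.ActCert.Search

/-!
Branches of a search.
-/

set_option autoImplicit false
set_option maxRecDepth 100000
set_option maxHeartbeats 0

namespace CfsgLib.Spor.SuzOut

open CfsgLib.Spor.TC CfsgLib.Spor.ActCert

/-- Branches. -/
def kidsXPart0 : List Branch := [
  .sub [] [.sub [] [.sub [] [.done 0]]],
  .sub [2] [.sub [6, 0, 2, 1, 0, 6] [.out 199]],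
  .sub [1] [.sub [6, 1, 0, 2, 6, 1, 6] [.out 617]],
  .sub [4] [.out 525],
  .sub [3] [.sub [3, 2, 3, 1, 4, 3, 2, 3, 1, 0, 1, 0, 6, 1, 2, 6, 1, 0, 4, 3, 4, 1] [.out 1014]],
  .sub [6] [.out 385],
  .sub [1, 2] [.out 230],
  .sub [4, 2] [.out 783],
  .sub [3, 2] [.out 685],
  .sub [2, 6] [.out 90],
  .sub [2, 1] [.out 230],
  .sub [1, 4] [.out 364],
  .sub [1, 3] [.out 496],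
  .sub [6, 1] [.out 185],
  .sub [3, 4] [.sub [6, 0, 1, 2, 3, 2, 1, 3, 0, 2, 1, 0, 1, 6] [.sub [2, 1, 0, 1, 2, 0, 3, 6, 2, 4, 3, 2, 1, 6, 4, 3, 2, 1, 0, 1, 3, 6, 1, 2, 1, 3, 2, 4, 3, 6] [.out 1404]]],
  .sub [4, 6] [.sub [4, 3, 2, 3, 1, 0, 1, 0, 6, 1, 2, 6, 1, 0, 4, 3, 4, 1] [.sub [1, 6, 2, 1, 3, 2, 1, 0, 6, 2, 3, 1, 2, 4, 3, 2, 3, 1, 2, 0, 4, 1, 0, 3, 2, 0, 1, 3, 6, 2, 1, 4] [.out 1675]]],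
  .sub [4, 3] [.out 334],
  .sub [0] [.out 21],
  .sub [1, 6] [.sub [1, 2, 1, 0, 1, 2] [.out 199]],
  .sub [0, 1, 2] [.out 65],
  .sub [1, 4, 2] [.sub [0, 2, 1, 3, 2, 0, 1, 6] [.out 970]],
  .sub [1, 3, 2] [.out 303],
  .sub [6, 1, 2] [.out 312],
  .sub [3, 4, 2] [.sub [2, 1, 0, 1, 0, 6, 2, 3, 2] [.out 1473]],
  .sub [6, 4, 2] [.out 488],
  .sub [2, 3, 2] [.out 303],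
  .sub [4, 3, 2] [.sub [4, 3, 2, 3, 4, 6, 1, 0, 1, 5, 0, 5, 3, 6, 2, 1, 2, 0, 3, 1, 4] [.out 1014]],
  .sub [0, 1] [.out 615],
  .sub [1, 6, 2] [.out 310],
  .sub [2, 4, 1] [.sub [1, 2, 3, 1, 2, 0, 1, 0, 1, 6, 2] [.out 1019]],
  .sub [6, 2, 1] [.out 90],
  .sub [1, 3, 4] [.sub [6, 0, 3, 0, 1, 2, 3, 1, 4, 2, 3, 2, 1, 0] [.out 1066]],
  .sub [4, 6, 1] [.out 393],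
  .sub [4, 1, 3] [.sub [3, 2, 3, 1, 2, 1, 0, 3, 1, 2, 6, 0, 1, 2, 3, 4, 3, 2, 3, 1, 2, 6] [.out 545]],
  .sub [0, 2] [.out 21],
  .sub [6, 1, 6] [.out 372],
  .sub [2, 3, 4] [.out 1105],
  .sub [3, 4, 3] [.sub [3, 1, 2, 3, 4, 3, 1, 2, 3, 1, 2, 6, 1, 6, 0, 4, 1, 2, 3, 2, 4] [.out 455]],
  .sub [3, 4, 6] [.out 676],
  .sub [1, 4, 6] [.out 410]]

/-- Branches. -/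
def kidsXPart1 : List Branch := [
  .sub [0, 4] [.out 65],
  .sub [1, 0] [.out 171],
  .sub [2, 1, 6] [.out 239],
  .sub [0, 4, 1, 2] [.sub [2, 3, 2, 1, 2, 0, 1, 6, 2] [.sub [2, 1, 0, 1, 2, 0, 3, 6, 2, 4, 3, 2, 1, 6, 4, 3, 2, 1, 0, 1, 3, 6, 1, 2, 1, 3, 2, 4, 3, 6] [.out 1404]]],
  .sub [3, 1, 2, 1] [.out 302],
  .sub [6, 1, 2, 1] [.out 414],
  .sub [1, 3, 2, 4] [.out 1356],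
  .sub [4, 6, 1, 2] [.out 611],
  .sub [2, 1, 3, 2] [.out 488],
  .sub [4, 3, 1, 2] [.out 239],
  .sub [6, 3, 1, 2] [.out 130],
  .sub [6, 1, 6, 2] [.sub [6, 1, 0, 1, 2, 3, 2, 1, 2] [.out 715]],
  .sub [2, 3, 4, 2] [.out 604],
  .sub [4, 3, 4, 2] [.out 790],
  .sub [3, 2, 6, 4] [.out 635],
  .sub [4, 1, 6, 2] [.sub [3, 2, 3, 2, 1, 0, 1, 2, 3, 2, 3, 1] [.out 403]],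
  .sub [1, 2, 3, 2] [.out 406],
  .sub [4, 2, 3, 2] [.out 776],
  .sub [2, 0, 1] [.out 615],
  .sub [4, 0, 1] [.out 613],
  .sub [1, 0, 1] [.out 275],
  .sub [2, 1, 6, 2] [.sub [4, 3, 2, 3, 4, 6, 1, 0, 1, 5, 0, 5, 3, 6, 2, 1, 2, 0, 3, 1, 4] [.sub [1, 6, 2, 1, 3, 2, 1, 0, 6, 2, 3, 1, 2, 4, 3, 2, 3, 1, 2, 0, 4, 1, 0, 3, 2, 0, 1, 3, 6, 2, 1, 4] [.out 1675]]],
  .sub [3, 2, 4, 1] [.out 908],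
  .sub [4, 6, 2, 1] [.out 545],
  .sub [2, 1, 3, 4] [.sub [3, 2, 1, 6, 0, 3, 2, 3, 1] [.out 1073]],
  .sub [3, 2, 4, 3] [.out 1356],
  .sub [6, 3, 4, 1] [.out 1178],
  .sub [4, 1, 6, 1] [.out 640],
  .sub [2, 0, 4] [.out 137],
  .sub [1, 0, 2] [.out 264],
  .sub [0, 1, 6] [.out 239],
  .sub [1, 2, 3, 4] [.out 120],
  .sub [2, 3, 4, 3] [.sub [2, 1, 3, 0, 2, 1, 0, 1, 6] [.out 765]],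
  .sub [3, 2, 3, 4] [.out 937],
  .sub [2, 3, 6, 4] [.out 332],
  .sub [0, 3, 4] [.out 1140],
  .sub [1, 3, 6, 4] [.out 1526],
  .sub [4, 2, 1, 6] [.out 1040],
  .sub [4, 1, 0] [.out 183],
  .sub [2, 1, 0] [.out 254]]

/-- Branches. -/
def kidsXPart2 : List Branch := [
  .sub [3, 2, 1, 6] [.out 59],
  .sub [3, 1, 2, 4, 1] [.out 1266],
  .sub [6, 4, 2, 1, 2] [.out 992],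
  .sub [1, 0, 1, 6] [.out 178],
  .sub [1, 2, 4, 6, 1] [.out 607],
  .sub [1, 6, 1, 2, 1] [.out 312],
  .sub [2, 3, 4, 1, 2] [.out 937],
  .sub [3, 4, 3, 1, 2] [.out 1477],
  .sub [3, 4, 6, 1, 2] [.out 1352],
  .sub [4, 6, 1, 2, 6] [.out 641],
  .sub [0, 1, 2, 6] [.sub [4, 3, 2, 3, 4, 6, 1, 0, 1, 5, 0, 5, 3, 6, 2, 1, 2, 0, 3, 1, 4] [.out 412]],
  .sub [2, 4, 1, 3, 2] [.out 969],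
  .sub [0, 1, 0, 1, 0] [.out 471],
  .sub [2, 3, 6, 1, 2] [.out 129],
  .sub [4, 6, 1, 3, 2] [.sub [1, 2, 1, 0, 1, 2] [.sub [] [.done 1]]],
  .sub [6, 1, 0, 1] [.sub [4, 3, 2, 3, 4, 6, 1, 0, 1, 5, 0, 5, 3, 6, 2, 1, 2, 0, 3, 1, 4] [.out 687]],
  .sub [2, 1, 6, 1, 2] [.out 613],
  .sub [1, 2, 3, 2, 4] [.out 127],
  .sub [2, 3, 4, 3, 2] [.out 195],
  .sub [3, 2, 3, 4, 2] [.out 1039],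
  .sub [2, 3, 6, 2, 4] [.out 566],
  .sub [3, 4, 0, 1] [.out 1286],
  .sub [3, 1, 4, 2, 6] [.out 1411],
  .sub [2, 4, 1, 2, 6] [.out 557],
  .sub [1, 4, 2, 3, 2] [.out 1097],
  .sub [1, 0, 2, 1] [.out 687],
  .sub [6, 1, 2, 3, 2] [.out 439],
  .sub [3, 4, 2, 3, 2] [.out 1021],
  .sub [0, 4, 2, 1] [.sub [] [.out 688]],
  .sub [1, 0, 4, 1] [.out 308],
  .sub [2, 1, 0, 1] [.sub [2, 3, 2, 1, 0, 1, 6, 0, 1, 6] [.out 1297]],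
  .sub [1, 0, 6, 1, 0] [.out 41],
  .sub [2, 3, 4, 2, 1] [.sub [3, 2, 3, 1, 4, 3, 2, 3, 6, 2, 4, 1, 5, 3, 2, 3, 6, 5, 1, 2, 3, 4, 1] [.sub [3, 0, 1, 0, 1, 2, 0, 3, 1, 2, 4, 3, 0, 2, 1, 0, 1, 3, 6, 0, 2, 1, 2, 3, 2, 0, 4, 3] [.out 1253]]],
  .sub [6, 3, 2, 1, 4] [.out 1751],
  .sub [2, 1, 2, 3, 4] [.sub [3, 2, 3, 1, 2, 1, 0, 3, 1, 2, 6, 0, 1, 2, 3, 4, 3, 2, 3, 1, 2, 6] [.out 973]],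
  .sub [2, 4, 3, 4, 1] [.out 1028],
  .sub [3, 2, 1, 3, 4] [.out 675],
  .sub [2, 3, 6, 4, 1] [.out 376],
  .sub [3, 2, 0, 4] [.out 735],
  .sub [3, 6, 1, 6, 4] [.out 807]]

/-- Branches. -/
def kidsXPart3 : List Branch := [
  .sub [0, 1, 6, 4] [.out 524],
  .sub [1, 4, 0, 2] [.out 833],
  .sub [6, 2, 1, 0] [.out 245],
  .sub [0, 1, 0] [.out 395],
  .sub [1, 4, 2, 3, 4] [.sub [6, 0, 3] [.out 199]],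
  .sub [1, 3, 2, 3, 4] [.out 1085],
  .sub [6, 1, 2, 3, 4] [.out 1371],
  .sub [3, 4, 2, 3, 4] [.sub [1, 0, 4, 1, 2, 3, 4, 2, 3, 2, 0, 3, 1, 2, 3, 6, 2] [.out 1377]],
  .sub [2, 3, 4, 0] [.out 141],
  .sub [2, 3, 2, 3, 4] [.out 1348],
  .sub [4, 3, 2, 3, 4] [.out 887],
  .sub [6, 3, 2, 3, 4] [.out 1675],
  .sub [1, 2, 6, 3, 4] [.out 311],
  .sub [1, 3, 0, 4] [.out 1741],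
  .sub [2, 3, 4, 1, 6] [.out 480],
  .sub [3, 4, 2, 1, 6] [.out 1713],
  .sub [2, 1, 0, 4] [.out 1146],
  .sub [3, 2, 1, 0] [.out 120],
  .sub [2, 0, 6, 1, 0] [.out 437],
  .sub [4, 0, 1, 2, 0] [.out 385],
  .sub [2, 3, 0, 4, 1, 2] [.out 648],
  .sub [3, 1, 2, 6, 4, 1] [.out 1208],
  .sub [6, 1, 3, 2, 4, 1] [.out 1311],
  .sub [4, 6, 1, 3, 2, 1] [.sub [1, 0, 6, 3, 1, 2, 0, 1, 2] [.out 1121]],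
  .sub [1, 0, 1, 4, 6] [.out 195],
  .sub [1, 0, 1, 0] [.out 21],
  .sub [6, 1, 0, 1, 6] [.out 394],
  .sub [1, 2, 1, 3, 2, 4] [.out 334],
  .sub [4, 2, 3, 4, 1, 2] [.out 1227],
  .sub [3, 2, 1, 3, 2, 4] [.out 736],
  .sub [6, 2, 3, 1, 4, 2] [.out 1258],
  .sub [4, 6, 3, 4, 1, 2] [.out 1761],
  .sub [6, 1, 6, 3, 4, 2] [.out 1591],
  .sub [6, 4, 2, 1, 6, 2] [.out 1350],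
  .sub [0, 1, 2, 4, 6] [.out 685],
  .sub [0, 1, 0, 1] [.out 290],
  .sub [6, 0, 1, 6, 2] [.sub [4, 1, 0, 1, 2, 3, 4, 2, 1, 0, 1] [.sub [1, 0, 1, 5, 6, 5, 2, 1, 2, 5, 4, 0, 3, 0, 5, 2, 1, 6, 0, 3, 4, 2, 1, 3, 6, 2, 3, 2, 3, 1] [.out 1675]]],
  .sub [3, 4, 2, 1, 3, 2] [.sub [3, 2, 3, 2, 1, 0, 1, 2, 3, 6, 0] [.sub [6, 0, 1, 2, 0, 6, 1, 6, 2, 3, 2, 0, 1, 5, 6, 5, 2, 1, 2, 5, 4, 0, 3, 0, 5, 2, 1, 6, 0, 3, 4, 2, 1, 3, 6, 2, 3, 2, 3, 1] [.done 5]]],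
  .sub [6, 2, 1, 4, 3, 2] [.out 686],
  .sub [1, 4, 0, 1, 0, 1] [.out 468]]

/-- Branches. -/
def kidsXPart4 : List Branch := [
  .sub [3, 2, 6, 3, 1, 2] [.sub [2, 3, 2, 1, 2, 0, 1, 3, 1, 2, 0, 4, 3, 1, 0, 2, 1, 4, 0, 1] [.out 412]],
  .sub [1, 6, 2, 1, 3, 2] [.out 685],
  .sub [4, 6, 1, 0, 1] [.out 307],
  .sub [6, 2, 1, 0, 1] [.out 411],
  .sub [6, 1, 6, 0, 1, 0] [.out 137],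
  .sub [1, 2, 3, 4, 3, 2] [.out 536],
  .sub [3, 1, 2, 3, 2, 4] [.sub [1, 2, 6, 1, 0, 1, 3, 2] [.out 680]],
  .sub [6, 1, 2, 3, 2, 4] [.out 1356],
  .sub [3, 4, 2, 3, 4, 2] [.out 1449],
  .sub [2, 3, 0, 4, 1] [.sub [3, 1, 2, 3, 1, 0, 1, 2, 0, 4, 3, 1, 0, 2, 1, 4, 0, 1] [.out 356]],
  .sub [3, 2, 0, 3, 4] [.out 1047],
  .sub [4, 3, 2, 3, 4, 2] [.sub [3, 1, 2, 3, 6, 1, 0, 1, 2, 3, 2, 1, 2] [.out 1014]],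
  .sub [3, 2, 3, 4, 6, 2] [.out 1675],
  .sub [1, 6, 2, 3, 4, 2] [.sub [4, 1, 0, 1, 2, 3, 4, 2, 1, 0, 1] [.sub [1, 0, 1, 5, 6, 5, 2, 1, 2, 5, 4, 0, 3, 0, 5, 2, 1, 6, 0, 3, 4, 2, 1, 3, 6, 2, 3, 2, 3, 1] [.out 1675]]],
  .sub [1, 3, 0, 1, 4] [.sub [2, 1, 0, 6, 1, 6, 0, 3, 1, 2] [.sub [0, 6, 1, 2, 3, 1, 4, 0, 1, 2, 3, 2, 4, 3, 1, 0, 1, 0, 6, 0, 1, 4, 0, 2, 1, 0, 3, 2, 4, 1, 0] [.out 1377]]],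
  .sub [2, 3, 4, 1, 6, 2] [.sub [3, 2, 3, 2, 1, 0, 1, 2, 3, 2, 1, 6, 0] [.out 1522]],
  .sub [3, 4, 2, 1, 6, 2] [.sub [6, 0, 1, 2, 3, 1, 2, 0, 1, 4, 0, 2, 3, 2, 1, 4, 3, 2, 1, 6] [.out 678]],
  .sub [3, 4, 1, 2, 3, 2] [.out 1203],
  .sub [4, 6, 1, 2, 3, 2] [.out 687],
  .sub [1, 2, 1, 0, 1] [.out 94],
  .sub [1, 2, 0, 1, 4] [.out 904],
  .sub [6, 1, 2, 0, 1] [.sub [4, 0, 1, 2, 3, 4, 2, 1, 6, 3, 4, 1, 0, 1, 2, 3, 4, 2, 1, 0, 1] [.out 1411]],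
  .sub [2, 3, 4, 2, 3, 2] [.out 468],
  .sub [3, 4, 2, 0, 1] [.out 1289],
  .sub [2, 1, 0, 4, 1] [.out 1464],
  .sub [3, 2, 1, 0, 1] [.sub [1, 2, 1, 0, 1, 2] [.sub [1, 0, 1, 5, 6, 5, 2, 1, 2, 5, 4, 0, 3, 0, 5, 2, 1, 6, 0, 3, 4, 2, 1, 3, 6, 2, 3, 2, 3, 1] [.done 3]]],
  .sub [2, 0, 1, 0, 2, 1] [.out 41],
  .sub [1, 0, 1, 2, 4, 0] [.out 126],
  .sub [1, 2, 3, 2, 4, 1] [.out 310],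
  .sub [2, 3, 4, 6, 2, 1] [.out 633],
  .sub [3, 2, 3, 2, 4, 1] [.out 1354],
  .sub [2, 1, 2, 3, 4, 3] [.sub [6, 0, 3] [.sub [] [.done 12]]],
  .sub [1, 3, 2, 1, 3, 4] [.out 1385],
  .sub [6, 2, 1, 2, 3, 4] [.out 1163],
  .sub [3, 4, 2, 1, 3, 4] [.out 1471],
  .sub [2, 3, 4, 0, 2] [.out 135],
  .sub [2, 3, 2, 1, 3, 4] [.out 1347],
  .sub [4, 3, 2, 1, 3, 4] [.out 1417],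
  .sub [3, 2, 6, 3, 4, 1] [.out 892],
  .sub [1, 6, 2, 1, 3, 4] [.out 239]]

/-- Branches. -/
def kidsXPart5 : List Branch := [
  .sub [3, 6, 4, 1, 0] [.out 1394],
  .sub [2, 3, 4, 6, 1, 6] [.out 971],
  .sub [3, 0, 1, 4, 6] [.out 674],
  .sub [1, 4, 2, 1, 0] [.out 799],
  .sub [3, 2, 1, 2, 0] [.out 568],
  .sub [2, 0, 1, 0] [.out 358],
  .sub [0, 1, 4, 0] [.out 566],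
  .sub [1, 3, 2, 3, 4, 3] [.out 820],
  .sub [4, 6, 1, 2, 3, 4] [.out 1634],
  .sub [2, 1, 3, 2, 3, 4] [.sub [6, 0, 3, 1, 0, 1, 2, 0, 4, 3, 1, 0, 2, 1, 4, 0, 1] [.out 356]],
  .sub [1, 4, 3, 2, 3, 4] [.sub [6, 1, 0, 1, 2, 3, 2, 1, 6, 3, 0, 1] [.out 981]],
  .sub [6, 1, 3, 2, 3, 4] [.out 978],
  .sub [6, 1, 6, 2, 3, 4] [.out 1092],
  .sub [3, 4, 3, 2, 3, 4] [.sub [6, 0, 2, 1, 0, 6, 3, 2, 3, 1] [.out 1073]],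
  .sub [1, 2, 0, 3, 4] [.out 569],
  .sub [1, 2, 3, 2, 3, 4] [.sub [1, 6, 3, 0, 2, 4, 3, 2, 1, 3, 2, 3, 2, 4, 6, 3, 1, 2, 3, 1, 0, 6, 4] [.out 688]],
  .sub [4, 2, 3, 2, 3, 4] [.sub [3, 2, 3, 2, 1, 0, 1, 2, 3, 2, 1, 6, 0] [.out 1522]],
  .sub [4, 3, 2, 3, 4, 6] [.out 1130],
  .sub [1, 3, 2, 3, 6, 4] [.sub [6, 0, 3, 4, 3, 2, 1, 3, 2, 3, 2, 4, 6, 3, 1, 2, 3, 1, 0, 6, 4] [.out 723]],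
  .sub [1, 2, 1, 3, 6, 4] [.out 21],
  .sub [2, 3, 4, 1, 0] [.out 1130],
  .sub [3, 2, 1, 3, 6, 4] [.out 1171],
  .sub [2, 3, 4, 2, 1, 6] [.out 308],
  .sub [4, 3, 2, 1, 4, 6] [.sub [3, 2, 1, 6, 0, 3, 1, 2, 3, 0, 1, 6, 1, 0, 2] [.out 1470]],
  .sub [1, 6, 0, 2, 1, 0] [.out 259],
  .sub [0, 4, 2, 6, 1, 0] [.out 137],
  .sub [0, 2, 3, 2, 1, 0] [.out 676],
  .sub [1, 2, 3, 1, 2, 4, 1] [.out 185],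
  .sub [2, 0, 4, 1, 3, 2, 4] [.sub [4, 3, 2, 1, 6, 2, 3, 4, 2, 3, 2, 0, 1, 2, 3, 4] [.sub [2, 4, 3, 2, 1, 3, 2, 0, 1, 4, 3, 2, 1, 3, 4, 6, 3, 2, 0, 1, 2, 0, 6, 1, 6, 2, 3, 2, 1] [.done 10]]],
  .sub [3, 2, 3, 1, 2, 4, 1] [.sub [0, 1, 2, 0, 6, 1, 3, 4, 2, 1, 3, 6, 2, 0, 1, 0] [.out 1093]],
  .sub [6, 2, 1, 3, 2, 4, 1] [.sub [3, 2, 3, 1, 2, 6, 3, 1, 6, 2, 3, 4, 3, 2, 3, 6, 2, 1, 6, 0, 1, 6] [.out 1140]],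
  .sub [3, 6, 1, 6, 2, 1, 4] [.out 1562],
  .sub [4, 6, 1, 0, 1, 6] [.out 431],
  .sub [1, 0, 1, 3, 6, 4] [.sub [2, 6, 1, 0, 2, 1, 2, 3, 2, 3, 2, 1, 6, 0] [.out 1066]],
  .sub [1, 4, 0, 1, 0] [.out 65],
  .sub [6, 1, 0, 1, 0] [.sub [3, 2, 3, 0, 1, 2, 0, 4, 3, 1, 0, 2, 1, 4, 0, 1] [.sub [1, 6, 2, 1, 3, 2, 1, 0, 6, 1, 6, 0, 2, 4, 3, 2, 1, 3, 2, 0, 1, 4, 3, 2, 1, 3, 4, 6, 3, 2, 6] [.out 1194]]],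
  .sub [1, 4, 2, 1, 3, 2, 4] [.sub [0, 2, 1, 3, 2, 0, 1, 6] [.out 617]],
  .sub [3, 2, 1, 2, 3, 2, 4] [.sub [6, 1, 0, 1, 3, 2, 3, 1, 0, 1, 6] [.out 1648]],
  .sub [2, 6, 1, 2, 3, 2, 4] [.out 1383],
  .sub [3, 4, 2, 1, 3, 2, 4] [.out 1518]]

/-- Branches. -/
def kidsXPart6 : List Branch := [
  .sub [4, 2, 3, 4, 6, 1, 2] [.sub [1, 0, 2, 1, 6, 1, 3, 2, 6, 1, 3, 4, 3, 2, 1, 0, 1] [.out 437]],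
  .sub [4, 3, 2, 1, 3, 2, 4] [.out 736],
  .sub [3, 6, 2, 1, 3, 2, 4] [.sub [6, 1, 2, 3, 0, 1, 2, 0, 1, 0, 1, 2, 3, 4, 3, 2, 3, 1, 2, 6] [.sub [6, 0, 1, 2, 0, 6, 1, 6, 2, 3, 2, 0, 1, 5, 6, 5, 2, 1, 2, 5, 4, 0, 3, 0, 5, 2, 1, 6, 0, 3, 4, 2, 1, 3, 6, 2, 3, 2, 3, 1] [.out 1704]]],
  .sub [1, 6, 2, 1, 3, 2, 4] [.sub [4, 3, 2, 3, 4, 6, 1, 0, 1, 5, 0, 5, 3, 6, 2, 1, 2, 0, 3, 1, 4] [.out 412]],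
  .sub [3, 4, 6, 1, 0, 1] [.sub [3, 2, 3, 2, 1, 0, 1, 6, 3, 1, 2, 0, 4, 3, 1, 4, 2, 3, 0, 1, 6, 2] [.out 1128]],
  .sub [2, 3, 6, 1, 4, 2, 6] [.sub [3, 2, 3, 1, 2, 0, 1, 3, 2, 3, 0, 1, 0] [.out 1741]],
  .sub [3, 4, 2, 6, 1, 6, 2] [.out 1604],
  .sub [0, 1, 3, 2, 6, 4] [.sub [3, 2, 3, 1, 2, 6, 3, 1, 6, 2, 3, 4, 3, 2, 3, 6, 2, 1, 6, 0, 1, 6] [.out 1748]],
  .sub [0, 1, 6, 1, 2, 4] [.out 275],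
  .sub [0, 2, 1, 0, 1] [.out 313],
  .sub [0, 1, 0, 1, 4] [.out 581],
  .sub [6, 0, 1, 0, 1] [.out 470],
  .sub [1, 6, 0, 1, 2, 6] [.out 334],
  .sub [2, 3, 4, 2, 1, 3, 2] [.out 127],
  .sub [4, 3, 2, 4, 3, 1, 2] [.out 1748],
  .sub [3, 4, 2, 6, 3, 1, 2] [.out 1343],
  .sub [1, 4, 2, 6, 3, 1, 2] [.sub [3, 2, 3, 1, 2, 6, 3, 1, 6, 2, 3, 4, 3, 2, 3, 6, 2, 1, 6, 0, 1, 6] [.out 1748]],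
  .sub [4, 3, 2, 6, 3, 1, 2] [.out 408],
  .sub [0, 1, 2, 6, 3, 1, 2] [.out 783],
  .sub [1, 6, 2, 1, 0, 1] [.sub [6, 1, 0, 1, 2, 3, 2, 1, 2] [.sub [6, 1, 2, 1, 0, 1, 3, 2, 3, 4, 3, 2, 3, 5, 1, 0, 1, 6, 4, 0, 1, 5, 2, 3, 2, 4] [.out 194]]],
  .sub [6, 2, 1, 4, 0, 1] [.out 1253],
  .sub [3, 2, 6, 1, 0, 1] [.out 473],
  .sub [6, 2, 1, 3, 2, 1, 6] [.out 1001],
  .sub [4, 6, 1, 3, 2, 1, 6] [.out 275],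
  .sub [3, 4, 1, 2, 3, 2, 4] [.out 1626],
  .sub [4, 6, 1, 2, 3, 2, 4] [.out 1152],
  .sub [2, 1, 3, 2, 3, 4, 2] [.out 63],
  .sub [4, 3, 1, 2, 3, 2, 4] [.out 1316],
  .sub [6, 3, 1, 2, 3, 4, 2] [.out 212],
  .sub [1, 6, 1, 2, 3, 2, 4] [.out 730],
  .sub [3, 4, 2, 3, 2, 4, 1] [.out 1238],
  .sub [4, 3, 2, 4, 3, 4, 2] [.out 1449],
  .sub [3, 2, 3, 4, 0, 1] [.out 990],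
  .sub [1, 2, 3, 0, 4, 1] [.out 470],
  .sub [1, 3, 2, 3, 4, 0] [.out 1734],
  .sub [4, 3, 2, 0, 3, 4] [.out 480],
  .sub [2, 4, 3, 2, 3, 4, 3] [.out 1644],
  .sub [1, 3, 2, 3, 6, 2, 4] [.sub [3, 1, 2, 3, 1, 2, 1, 0, 1, 2, 3, 2, 3, 1] [.out 1522]],
  .sub [2, 1, 2, 3, 6, 2, 4] [.out 21],
  .sub [2, 1, 0, 3, 1, 4] [.out 1539]]

/-- Branches. -/
def kidsXPart7 : List Branch := [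
  .sub [3, 2, 3, 1, 4, 2, 6] [.out 339],
  .sub [2, 3, 2, 1, 2, 4, 6] [.out 463],
  .sub [0, 1, 0, 3, 2, 1, 4] [.out 1385],
  .sub [2, 3, 4, 1, 2, 3, 2] [.out 1514],
  .sub [1, 3, 0, 2, 4, 1] [.out 504],
  .sub [3, 4, 6, 1, 2, 3, 2] [.out 1234],
  .sub [4, 6, 1, 2, 0, 1] [.out 994],
  .sub [2, 1, 0, 4, 2, 1] [.out 1376],
  .sub [3, 2, 1, 0, 2, 1] [.sub [1, 0, 6, 3, 1, 2, 0, 1, 2] [.sub [] [.out 1266]]],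
  .sub [6, 2, 1, 2, 0, 1] [.out 128],
  .sub [1, 2, 3, 4, 2, 3, 2] [.out 765],
  .sub [2, 3, 4, 2, 0, 1] [.out 234],
  .sub [2, 3, 2, 6, 1, 3, 4] [.out 1677],
  .sub [1, 2, 1, 0, 6, 1, 0] [.out 313],
  .sub [2, 0, 4, 1, 0, 2, 1] [.out 185],
  .sub [3, 2, 1, 0, 6, 1, 0] [.sub [0, 1, 6, 1, 0, 2] [.sub [0, 1, 4, 0, 2, 1, 0, 3, 2, 4, 1, 6, 1, 2, 3, 1, 4, 0, 1, 2, 3, 2, 4, 3, 1, 0, 1, 0, 6] [.out 675]]],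
  .sub [1, 4, 2, 3, 2, 4, 1] [.out 155],
  .sub [1, 3, 2, 3, 4, 2, 1] [.out 1216],
  .sub [6, 1, 2, 3, 4, 2, 1] [.out 1266],
  .sub [4, 3, 2, 3, 2, 4, 1] [.out 1161],
  .sub [1, 6, 2, 3, 2, 3, 4] [.out 1383],
  .sub [6, 2, 1, 2, 3, 4, 3] [.out 1145],
  .sub [2, 1, 3, 2, 1, 3, 4] [.sub [3, 2, 3, 1, 4, 3, 2, 3, 1, 0, 1, 0, 6, 1, 2, 6, 1, 0, 4, 3, 4, 1] [.sub [2, 1, 0, 2, 1, 3, 6, 2, 4, 3, 2, 1, 0, 6, 1, 3, 0, 2, 1, 2, 3, 6, 2, 0, 4, 1] [.out 1194]]],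
  .sub [4, 3, 2, 1, 2, 3, 4] [.out 1728],
  .sub [3, 2, 6, 1, 2, 3, 4] [.out 1779],
  .sub [6, 1, 6, 2, 1, 3, 4] [.out 1001],
  .sub [3, 4, 3, 2, 1, 3, 4] [.out 1517],
  .sub [1, 2, 3, 4, 0, 2] [.out 225],
  .sub [1, 2, 3, 2, 1, 3, 4] [.out 1059],
  .sub [4, 2, 3, 2, 1, 3, 4] [.sub [4, 3, 2, 1, 3, 2, 3, 2, 4, 6, 3, 1, 2, 3, 1, 0, 6, 4] [.sub [] [.done 11]]],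
  .sub [3, 4, 2, 3, 2, 3, 4] [.out 1534],
  .sub [1, 3, 2, 3, 6, 4, 1] [.out 1179],
  .sub [1, 6, 2, 1, 3, 6, 4] [.out 615],
  .sub [2, 1, 0, 3, 2, 4] [.out 1727],
  .sub [3, 2, 3, 6, 1, 6, 4] [.out 790],
  .sub [2, 3, 4, 0, 1, 6] [.out 1437],
  .sub [0, 3, 4, 1, 0] [.out 1421],
  .sub [2, 0, 4, 1, 0] [.out 681],
  .sub [3, 2, 0, 1, 0] [.out 568],
  .sub [2, 3, 4, 1, 2, 3, 4] [.out 126]]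

/-- Branches. -/
def kidsXPart8 : List Branch := [
  .sub [4, 3, 1, 2, 3, 4, 3] [.sub [2, 6, 3, 1, 0, 6, 2, 1, 4, 3, 0, 1, 0, 4, 2, 6, 1, 6, 3, 2] [.out 1072]],
  .sub [3, 4, 6, 1, 2, 3, 4] [.out 1656],
  .sub [6, 1, 2, 3, 4, 0] [.out 1294],
  .sub [2, 1, 2, 3, 2, 3, 4] [.out 783],
  .sub [2, 4, 1, 3, 2, 3, 4] [.out 744],
  .sub [3, 2, 1, 3, 2, 3, 4] [.out 641],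
  .sub [6, 2, 1, 3, 2, 3, 4] [.sub [1, 0, 1, 0, 6, 2, 3, 1, 2, 4, 1, 6, 0, 3, 2, 1, 0, 1] [.out 1297]],
  .sub [4, 6, 1, 3, 2, 3, 4] [.out 1679],
  .sub [6, 1, 6, 3, 2, 3, 4] [.out 1241],
  .sub [6, 2, 1, 2, 3, 6, 4] [.out 832],
  .sub [2, 1, 2, 3, 4, 0] [.out 385],
  .sub [1, 4, 2, 3, 2, 3, 4] [.out 1245],
  .sub [6, 1, 2, 3, 2, 3, 4] [.out 830],
  .sub [1, 4, 6, 3, 2, 3, 4] [.out 1414],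
  .sub [2, 1, 6, 3, 2, 3, 4] [.out 195],
  .sub [3, 2, 1, 2, 6, 3, 4] [.out 1152],
  .sub [2, 3, 4, 0, 1, 0] [.out 781],
  .sub [4, 3, 2, 1, 3, 6, 4] [.out 1662],
  .sub [1, 2, 3, 4, 2, 1, 6] [.out 615],
  .sub [2, 0, 1, 3, 4, 0, 2] [.out 199],
  .sub [3, 2, 3, 4, 2, 1, 6] [.out 1674],
  .sub [1, 4, 2, 3, 2, 1, 6] [.out 1286],
  .sub [3, 1, 6, 0, 2, 1, 0] [.out 385],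
  .sub [1, 4, 2, 3, 1, 2, 4, 1] [.out 291],
  .sub [1, 3, 2, 3, 0, 4, 1, 2] [.out 410],
  .sub [6, 1, 2, 3, 0, 4, 1, 2] [.out 308],
  .sub [3, 4, 2, 3, 1, 2, 4, 1] [.sub [2, 6, 1, 0, 2, 1, 2, 3, 2, 3, 2, 1, 6, 0] [.sub [6, 1, 0, 6, 1, 0, 1, 2, 3, 2, 0, 4, 1, 0, 2, 1, 3, 2, 6, 0, 1, 2, 4, 0] [.out 1657]]],
  .sub [2, 3, 4, 1, 6, 1, 2, 1] [.out 1194],
  .sub [4, 3, 2, 3, 1, 2, 4, 1] [.sub [0, 1, 2, 0, 6, 1, 3, 4, 2, 1, 3, 6, 2, 0, 1, 0] [.out 800]],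
  .sub [3, 2, 6, 1, 3, 2, 4, 1] [.out 885],
  .sub [1, 6, 2, 3, 1, 2, 4, 1] [.out 171],
  .sub [6, 1, 3, 0, 1, 4, 6] [.out 1426],
  .sub [2, 1, 3, 0, 1, 4, 6] [.out 1333],
  .sub [1, 0, 1, 3, 0, 4] [.out 1149],
  .sub [4, 6, 1, 0, 1, 0] [.out 687],
  .sub [3, 4, 2, 1, 2, 3, 2, 4] [.sub [3, 1, 2, 3, 2, 6, 1, 2, 0, 1, 2, 0, 6, 1] [.out 611]],
  .sub [6, 4, 2, 1, 2, 3, 2, 4] [.sub [6, 1, 2, 3, 0, 1, 2, 0] [.out 1302]],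
  .sub [2, 1, 3, 2, 1, 3, 2, 4] [.out 685],
  .sub [4, 3, 2, 1, 2, 3, 2, 4] [.sub [1, 2, 6, 1, 0, 1, 3, 2, 6, 0, 1, 2, 3] [.out 1132]],
  .sub [6, 1, 3, 2, 1, 3, 2, 4] [.out 1047]]

/-- Branches. -/
def kidsXPart9 : List Branch := [
  .sub [1, 6, 2, 1, 2, 3, 2, 4] [.out 799],
  .sub [3, 2, 1, 0, 1, 3, 6, 4] [.out 934],
  .sub [4, 3, 4, 2, 3, 4, 1, 2] [.sub [3, 2, 3, 6, 1, 0, 2, 1, 6, 1, 0, 1, 2, 3, 4, 3, 2, 3, 1, 2, 6] [.out 1065]],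
  .sub [3, 4, 6, 2, 3, 1, 4, 2] [.sub [6, 1, 2, 3, 2, 4, 1, 2, 0, 6, 3, 4, 2, 1, 2, 3, 2, 1, 6] [.out 364]],
  .sub [1, 4, 6, 2, 3, 1, 4, 2] [.out 611],
  .sub [4, 3, 6, 2, 3, 1, 4, 2] [.sub [6, 1, 2, 3, 0, 1, 2, 0, 1, 0, 1, 2, 3, 4, 3, 2, 3, 1, 2, 6] [.sub [6, 1, 0, 6, 1, 0, 1, 2, 3, 2, 0, 4, 1, 0, 2, 1, 3, 2, 6, 0, 1, 2, 4, 0] [.out 1758]]],
  .sub [1, 3, 6, 2, 3, 1, 4, 2] [.out 555],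
  .sub [1, 6, 2, 3, 1, 4, 2, 6] [.out 65],
  .sub [6, 2, 1, 3, 4, 0, 1] [.out 966],
  .sub [3, 2, 3, 6, 1, 4, 2, 6] [.out 1438],
  .sub [2, 3, 4, 2, 1, 6, 1, 2] [.out 1777],
  .sub [6, 1, 0, 3, 4, 6, 1, 0] [.out 536],
  .sub [2, 0, 1, 3, 6, 2, 4] [.out 1777],
  .sub [3, 0, 1, 0, 1, 4] [.sub [3, 2, 3, 1, 2, 1, 0, 1, 0, 6, 2, 3, 2] [.out 892]],
  .sub [3, 4, 6, 0, 1, 2, 6] [.out 410],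
  .sub [1, 4, 6, 0, 1, 2, 6] [.sub [1, 2, 1, 0, 1, 2, 4, 3, 2, 1, 6, 2, 3, 4, 2, 3, 2, 0, 1, 2, 3, 4] [.out 155]],
  .sub [0, 2, 1, 0, 1, 4] [.out 666],
  .sub [3, 2, 0, 1, 0, 1] [.out 65],
  .sub [2, 6, 0, 1, 0, 1] [.sub [4, 1, 0, 1, 2, 3, 4, 2, 1, 0, 1] [.out 688]],
  .sub [4, 6, 0, 1, 0, 1] [.sub [1, 0, 6, 3, 1, 2, 0, 1, 2] [.out 199]],
  .sub [1, 6, 0, 1, 0, 1] [.out 260],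
  .sub [1, 6, 2, 1, 0, 2, 1] [.out 163],
  .sub [1, 2, 3, 4, 2, 1, 3, 2] [.sub [3, 2, 3, 2, 1, 0, 1, 2, 3, 2, 3, 1] [.out 715]],
  .sub [2, 1, 3, 0, 1, 0, 1, 4] [.out 155],
  .sub [3, 2, 3, 4, 2, 1, 3, 2] [.out 896],
  .sub [2, 3, 4, 2, 3, 6, 1, 2] [.out 472],
  .sub [3, 4, 3, 2, 3, 6, 1, 2] [.out 1343],
  .sub [1, 3, 6, 2, 1, 4, 3, 2] [.out 1286],
  .sub [1, 4, 6, 2, 1, 0, 1] [.out 1669],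
  .sub [4, 0, 1, 2, 3, 6, 1, 2] [.out 810],
  .sub [0, 1, 2, 6, 1, 0, 1] [.out 127],
  .sub [1, 6, 3, 2, 1, 0, 1] [.sub [] [.out 335]],
  .sub [3, 6, 1, 2, 1, 0, 1] [.out 901],
  .sub [6, 4, 2, 1, 0, 6, 1, 0] [.sub [2, 6, 3, 0, 1, 2, 1, 0, 6, 1, 6, 0, 3, 1, 2] [.sub [1, 6, 2, 1, 3, 2, 1, 0, 6, 2, 3, 1, 0, 1, 6, 2, 3, 4, 6, 3, 2, 1, 0, 1, 6, 3, 1, 4, 0, 2, 1, 0, 3, 2, 4, 1, 0] [.done 4]]],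
  .sub [3, 2, 6, 1, 6, 0, 1, 0] [.out 436],
  .sub [2, 3, 4, 1, 2, 3, 2, 4] [.out 289],
  .sub [3, 4, 3, 1, 2, 3, 2, 4] [.out 894],
  .sub [3, 4, 6, 1, 2, 3, 2, 4] [.out 1712],
  .sub [6, 1, 2, 3, 0, 4, 1] [.out 855],
  .sub [2, 1, 3, 2, 0, 3, 4] [.sub [3, 2, 1, 6, 0] [.out 668]]]

/-- Branches. -/
def kidsXPart10 : List Branch := [
  .sub [2, 4, 1, 3, 2, 3, 4, 2] [.out 731],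
  .sub [3, 2, 3, 1, 2, 3, 2, 4] [.sub [1, 0, 3, 2, 1, 0, 2, 6, 1, 6] [.out 1266]],
  .sub [6, 2, 1, 3, 2, 3, 4, 2] [.out 1174],
  .sub [4, 6, 3, 1, 2, 3, 4, 2] [.out 135],
  .sub [6, 1, 3, 2, 3, 4, 6, 2] [.out 1098],
  .sub [6, 2, 1, 2, 3, 6, 2, 4] [.sub [2, 1, 0, 1, 0, 6, 2, 3, 2] [.out 1007]],
  .sub [3, 4, 1, 2, 3, 2, 4, 1] [.out 1347],
  .sub [4, 3, 2, 6, 3, 2, 1, 4] [.out 879],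
  .sub [4, 3, 2, 3, 4, 0, 1] [.out 971],
  .sub [1, 3, 2, 3, 0, 4, 1] [.sub [3, 2, 3, 2, 1, 0, 1, 2, 3, 2, 3, 1] [.sub [3, 0, 1, 0, 1, 2, 0, 3, 1, 2, 4, 3, 0, 2, 1, 0, 1, 3, 6, 0, 2, 1, 2, 3, 2, 0, 4, 3] [.out 438]]],
  .sub [1, 2, 1, 3, 0, 1, 4] [.out 185],
  .sub [4, 3, 1, 2, 0, 3, 4] [.sub [3, 2, 1, 6, 1, 0, 1, 2, 1, 3, 2, 6, 1, 6] [.out 414]],
  .sub [6, 1, 3, 2, 0, 3, 4] [.out 676],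
  .sub [1, 4, 3, 2, 3, 4, 6, 2] [.out 674],
  .sub [2, 1, 3, 2, 3, 4, 6, 2] [.sub [2, 1, 3, 0, 2, 1, 0, 1, 6] [.out 765]],
  .sub [1, 3, 2, 3, 4, 1, 6, 2] [.out 1715],
  .sub [2, 3, 4, 0, 1, 0, 1] [.out 1465],
  .sub [3, 2, 3, 4, 1, 2, 3, 2] [.sub [6, 0, 3, 0, 1, 2, 3, 1, 4, 2, 3, 2, 1, 0] [.out 817]],
  .sub [4, 3, 2, 3, 1, 4, 2, 6] [.out 1658],
  .sub [1, 2, 3, 2, 1, 2, 4, 6] [.sub [1, 0, 6, 3, 1, 2, 0, 1, 2] [.out 688]],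
  .sub [2, 3, 4, 1, 0, 6, 1, 0] [.out 130],
  .sub [3, 2, 3, 2, 1, 2, 4, 6] [.out 1668],
  .sub [2, 1, 2, 3, 4, 2, 3, 2] [.out 783],
  .sub [2, 3, 4, 1, 0, 2, 1] [.out 879],
  .sub [6, 2, 1, 3, 4, 2, 3, 2] [.out 471],
  .sub [3, 4, 6, 1, 0, 2, 1] [.sub [1, 6, 3, 0, 2, 1, 2, 0, 1, 4, 0, 2, 3, 2, 1, 4, 3, 2, 1, 6] [.sub [2, 3, 2, 3, 1, 4, 2, 3, 2, 1, 0, 4, 1, 0, 1, 2, 3, 6, 0, 4, 1, 3, 4, 2, 1, 0, 1, 2, 6, 3, 1, 2, 4, 3, 4, 1, 2] [.out 372]]],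
  .sub [6, 2, 1, 0, 4, 2, 1] [.sub [3, 2, 3, 1, 2, 1, 0, 1, 2, 3, 2, 3] [.sub [0, 1, 4, 0, 2, 1, 0, 3, 2, 4, 1, 6, 1, 2, 3, 1, 4, 0, 1, 2, 3, 2, 4, 3, 1, 0, 1, 0, 6] [.out 675]]],
  .sub [1, 2, 3, 4, 2, 0, 1] [.out 311],
  .sub [1, 6, 2, 3, 2, 1, 3, 4] [.out 1475],
  .sub [6, 1, 2, 3, 4, 2, 3, 2] [.out 967],
  .sub [4, 3, 2, 3, 4, 2, 3, 2] [.out 1534],
  .sub [1, 4, 2, 1, 0, 6, 1, 0] [.out 1721],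
  .sub [1, 3, 2, 0, 1, 0, 2, 1] [.out 196],
  .sub [6, 4, 1, 2, 3, 4, 2, 1] [.out 1762],
  .sub [2, 1, 3, 2, 3, 2, 4, 1] [.out 138],
  .sub [4, 3, 1, 2, 3, 2, 4, 1] [.sub [3, 1, 2, 3, 1, 2, 1, 0, 1, 2, 3, 2, 1, 6, 0] [.sub [1, 6, 2, 1, 3, 0, 1, 2, 6, 1, 2, 4, 3, 2, 3, 1, 2, 6, 1, 3, 2, 1, 3, 6, 4] [.out 660]]],
  .sub [3, 6, 1, 2, 3, 2, 1, 4] [.sub [3, 1, 2, 3, 4, 1, 0, 1, 2, 3, 4, 2, 1, 0, 1] [.out 1370]],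
  .sub [2, 1, 3, 2, 3, 4, 1, 3] [.out 254],
  .sub [1, 4, 2, 6, 3, 2, 3, 4] [.sub [6, 0, 2, 1, 0, 6, 3, 2, 3, 1] [.out 455]],
  .sub [3, 4, 6, 2, 1, 2, 3, 4] [.out 107]]

/-- Branches. -/
def kidsXPart11 : List Branch := [
  .sub [6, 1, 2, 3, 4, 0, 2] [.out 1404],
  .sub [0, 1, 2, 3, 2, 3, 4] [.out 1227],
  .sub [2, 4, 1, 3, 2, 1, 3, 4] [.out 1384],
  .sub [1, 0, 1, 2, 3, 4, 0, 2] [.sub [1, 0, 1, 6, 2, 3, 4, 3, 2, 3, 6, 2, 1, 6, 0, 1, 6] [.out 259]],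
  .sub [6, 2, 1, 3, 2, 1, 3, 4] [.out 106],
  .sub [4, 3, 2, 6, 1, 2, 3, 4] [.sub [4, 3, 2, 3, 2, 1, 0, 1, 2, 5, 3, 5, 4, 1, 2, 3, 4, 5, 6, 2, 5] [.out 1720]],
  .sub [6, 1, 6, 3, 2, 1, 3, 4] [.out 1384],
  .sub [1, 6, 2, 1, 2, 6, 3, 4] [.out 1651],
  .sub [1, 6, 2, 1, 3, 0, 4] [.out 128],
  .sub [1, 4, 2, 3, 2, 1, 3, 4] [.out 1509],
  .sub [6, 1, 2, 3, 2, 1, 3, 4] [.out 848],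
  .sub [1, 4, 6, 3, 2, 1, 3, 4] [.out 1078],
  .sub [2, 1, 3, 2, 6, 3, 4, 1] [.out 307],
  .sub [1, 3, 2, 3, 4, 6, 1, 6] [.sub [2, 1, 3, 0, 2, 1, 0, 1, 6] [.out 1102]],
  .sub [1, 2, 3, 0, 1, 4, 6] [.out 473],
  .sub [2, 4, 1, 3, 4, 2, 3, 4] [.out 1377],
  .sub [3, 2, 1, 3, 2, 3, 4, 3] [.sub [3, 2, 3, 2, 4, 0, 1, 2, 6, 3, 2, 6, 4, 1, 0, 2, 1, 2, 5, 6, 5, 3, 1] [.out 998]],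
  .sub [2, 3, 4, 6, 1, 2, 3, 4] [.out 1656],
  .sub [3, 4, 3, 6, 1, 2, 3, 4] [.sub [6, 1, 2, 3, 0, 1, 2, 0] [.out 1007]],
  .sub [6, 2, 1, 2, 3, 4, 0] [.out 1463],
  .sub [2, 4, 1, 2, 3, 2, 3, 4] [.out 918],
  .sub [0, 1, 2, 3, 4, 2, 0, 1] [.out 354],
  .sub [6, 2, 1, 2, 3, 2, 3, 4] [.out 823],
  .sub [3, 4, 2, 1, 3, 2, 3, 4] [.out 659],
  .sub [6, 2, 1, 4, 3, 2, 3, 4] [.out 495],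
  .sub [2, 3, 2, 3, 1, 2, 3, 4] [.out 102],
  .sub [4, 3, 2, 1, 3, 2, 3, 4] [.out 1541],
  .sub [3, 2, 6, 1, 3, 2, 3, 4] [.out 363],
  .sub [1, 6, 2, 1, 3, 2, 3, 4] [.sub [1, 2, 4, 0, 1, 2, 5, 3, 0, 2, 4, 5, 3, 1, 6, 0, 1, 6] [.out 394]],
  .sub [4, 6, 1, 6, 3, 2, 3, 4] [.sub [6, 1, 2, 3, 0, 1, 2, 0, 1, 0, 1, 2, 3, 4, 3, 2, 3, 1, 2, 6] [.out 1279]],
  .sub [6, 2, 1, 6, 3, 2, 3, 4] [.out 1085],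
  .sub [6, 1, 3, 2, 1, 3, 6, 4] [.out 668],
  .sub [3, 2, 1, 2, 0, 3, 4] [.sub [1, 0, 1, 2, 0, 4, 3, 1, 0, 2, 1, 4, 0, 1] [.out 615]],
  .sub [0, 1, 0, 1, 2, 3, 2, 4] [.out 387],
  .sub [2, 4, 1, 6, 3, 2, 3, 4] [.out 1449],
  .sub [3, 2, 1, 3, 2, 3, 6, 4] [.out 680],
  .sub [2, 1, 3, 2, 1, 3, 6, 4] [.out 339],
  .sub [4, 3, 2, 1, 2, 6, 3, 4] [.sub [6, 0, 3, 1, 0, 4, 1, 2, 3, 4, 2, 3, 2, 0, 3, 1, 2, 3, 6, 2] [.out 851]],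
  .sub [1, 6, 2, 0, 3, 4, 1, 0] [.sub [3, 2, 3, 1, 2, 1, 0, 3, 1, 2, 6, 0, 1, 2, 3, 4, 3, 2, 3, 1, 2, 6] [.out 1327]],
  .sub [1, 3, 2, 3, 4, 2, 1, 6] [.out 1021]]

/-- Branches. -/
def kidsXPart12 : List Branch := [
  .sub [6, 1, 2, 3, 4, 2, 1, 6] [.out 1583],
  .sub [3, 4, 2, 1, 2, 3, 2, 4, 1] [.out 1072],
  .sub [4, 6, 1, 2, 3, 0, 4, 1, 2] [.out 1589],
  .sub [2, 1, 3, 2, 3, 1, 2, 4, 1] [.sub [1, 0, 2, 1, 6, 1, 3, 2, 6, 1, 3, 4, 3, 2, 1, 0, 1] [.out 437]],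
  .sub [4, 3, 2, 1, 2, 3, 2, 4, 1] [.out 1111],
  .sub [6, 1, 3, 2, 3, 1, 2, 4, 1] [.out 990],
  .sub [6, 1, 6, 2, 3, 0, 4, 1, 2] [.out 1489],
  .sub [4, 3, 2, 3, 1, 2, 6, 4, 1] [.out 1330],
  .sub [0, 3, 4, 6, 2, 3, 1, 4, 2] [.out 1351],
  .sub [1, 6, 2, 3, 1, 2, 6, 4, 1] [.out 65],
  .sub [4, 3, 2, 6, 1, 3, 2, 4, 1] [.out 885],
  .sub [1, 0, 3, 6, 2, 1, 3, 2, 4] [.out 1607],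
  .sub [6, 2, 1, 3, 0, 1, 4, 6] [.out 1656],
  .sub [3, 4, 6, 1, 0, 1, 0] [.out 1343],
  .sub [1, 2, 1, 0, 1, 3, 6, 4] [.out 372],
  .sub [2, 3, 4, 1, 0, 1, 0] [.out 153],
  .sub [4, 0, 1, 3, 2, 3, 4, 2] [.out 1352],
  .sub [0, 2, 3, 1, 2, 3, 2, 4] [.out 491],
  .sub [2, 1, 0, 1, 2, 4, 3, 1, 4] [.sub [6, 1, 2, 3, 0, 1, 2, 0] [.out 1007]],
  .sub [4, 6, 1, 2, 6, 3, 4, 1, 2] [.out 1031],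
  .sub [2, 4, 1, 3, 2, 1, 3, 2, 4] [.out 1589],
  .sub [6, 2, 1, 3, 2, 1, 3, 2, 4] [.sub [6, 0, 1, 2, 3, 2, 1, 3, 0, 2, 1, 0, 1, 6] [.out 1675]],
  .sub [4, 6, 1, 3, 2, 1, 3, 2, 4] [.out 1047],
  .sub [6, 1, 3, 6, 2, 1, 3, 2, 4] [.out 403],
  .sub [0, 1, 0, 1, 3, 2, 3, 4] [.out 979],
  .sub [1, 3, 2, 1, 3, 0, 1, 4, 6] [.out 536],
  .sub [4, 3, 2, 1, 0, 1, 3, 6, 4] [.out 668],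
  .sub [2, 3, 4, 6, 2, 3, 1, 4, 2] [.out 610],
  .sub [3, 4, 3, 6, 2, 3, 1, 4, 2] [.out 1338],
  .sub [1, 3, 4, 2, 3, 4, 6, 1, 2] [.out 1343],
  .sub [1, 6, 2, 1, 3, 0, 1, 4] [.out 158],
  .sub [1, 4, 3, 6, 2, 1, 3, 2, 4] [.out 281],
  .sub [2, 1, 3, 6, 2, 1, 3, 2, 4] [.sub [1, 2, 1, 0, 1, 2, 4, 3, 2, 1, 6, 2, 3, 4, 2, 3, 2, 0, 1, 2, 3, 4] [.sub [2, 4, 3, 2, 1, 3, 2, 0, 1, 4, 3, 2, 1, 3, 4, 6, 3, 2, 0, 1, 2, 0, 6, 1, 6, 2, 3, 2, 1] [.done 9]]],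
  .sub [0, 6, 1, 0, 1, 2, 3, 4] [.out 976],
  .sub [2, 6, 3, 0, 1, 0, 1, 4] [.out 155],
  .sub [3, 2, 3, 4, 6, 1, 2, 3, 2] [.out 409],
  .sub [4, 3, 2, 3, 6, 1, 4, 2, 6] [.out 774],
  .sub [1, 6, 2, 3, 2, 1, 2, 4, 6] [.out 275],
  .sub [2, 6, 0, 1, 0, 3, 2, 1, 4] [.out 683],
  .sub [3, 2, 3, 4, 2, 6, 1, 6, 2] [.out 1083]]

/-- Branches. -/
def kidsXPart13 : List Branch := [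
  .sub [1, 2, 0, 1, 3, 2, 6, 4] [.out 312],
  .sub [2, 3, 4, 6, 0, 1, 6, 2] [.out 266],
  .sub [3, 4, 6, 0, 1, 0, 1] [.out 904],
  .sub [1, 6, 0, 1, 3, 2, 6, 4] [.out 1713],
  .sub [1, 6, 2, 1, 2, 0, 1, 4] [.out 890],
  .sub [6, 4, 2, 0, 1, 0, 1] [.sub [] [.sub [1, 6, 2, 1, 3, 2, 1, 0, 6, 1, 6, 0] [.out 1266]]],
  .sub [3, 2, 6, 0, 1, 0, 1] [.out 396],
  .sub [1, 6, 2, 0, 1, 0, 1] [.out 163],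
  .sub [1, 4, 6, 0, 1, 0, 1] [.out 259],
  .sub [2, 1, 6, 0, 1, 0, 1] [.sub [1, 0, 1, 2, 0, 4, 3, 1, 0, 2, 1, 4, 0, 1] [.sub [1, 0, 1, 5, 6, 5, 2, 1, 2, 5, 4, 0, 3, 0, 5, 2, 1, 6, 0, 3, 4, 2, 1, 3, 6, 2, 3, 2, 3, 1] [.done 2]]],
  .sub [3, 6, 1, 6, 2, 1, 0, 1] [.sub [] [.out 688]],
  .sub [1, 4, 2, 3, 4, 2, 1, 3, 2] [.sub [3, 2, 3, 1, 2, 6, 3, 1, 6, 2, 3, 4, 3, 2, 3, 6, 2, 1, 6, 0, 1, 6] [.out 1128]],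
  .sub [1, 3, 2, 3, 4, 2, 1, 3, 2] [.sub [2, 3, 2, 1, 2, 0, 1, 0, 2, 3] [.sub [2, 1, 0, 1, 2, 0, 3, 6, 2, 4, 3, 2, 1, 6, 4, 3, 2, 1, 0, 1, 3, 6, 1, 2, 1, 3, 2, 4, 3, 6] [.out 429]]],
  .sub [6, 1, 2, 3, 4, 2, 1, 3, 2] [.out 1021],
  .sub [3, 4, 2, 3, 4, 2, 1, 3, 2] [.out 1646],
  .sub [6, 2, 1, 3, 0, 1, 0, 1, 4] [.out 198],
  .sub [4, 3, 2, 3, 4, 2, 1, 3, 2] [.out 1307],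
  .sub [3, 2, 3, 4, 2, 6, 3, 1, 2] [.out 1073],
  .sub [1, 6, 2, 3, 4, 2, 1, 3, 2] [.out 109],
  .sub [6, 1, 6, 3, 0, 1, 0, 1, 4] [.out 753],
  .sub [2, 3, 4, 1, 6, 2, 1, 3, 2] [.out 1779],
  .sub [0, 1, 2, 4, 6, 1, 0, 1] [.sub [1, 0, 2, 1, 3, 0, 2, 1, 0, 1, 3] [.out 335]],
  .sub [0, 1, 3, 2, 6, 1, 0, 1] [.out 473],
  .sub [2, 1, 3, 2, 6, 1, 0, 1] [.out 983],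
  .sub [2, 3, 4, 1, 2, 3, 2, 4, 1] [.out 230],
  .sub [2, 3, 4, 3, 1, 2, 3, 2, 4] [.out 1574],
  .sub [6, 2, 1, 3, 4, 2, 3, 4, 2] [.out 657],
  .sub [3, 4, 6, 3, 1, 2, 3, 4, 2] [.out 795],
  .sub [6, 1, 3, 2, 3, 4, 0, 1] [.out 1185],
  .sub [6, 2, 1, 2, 3, 0, 4, 1] [.out 1411],
  .sub [2, 4, 1, 3, 2, 0, 3, 4] [.out 918],
  .sub [3, 2, 1, 3, 2, 3, 4, 0] [.out 148],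
  .sub [6, 2, 1, 3, 2, 0, 3, 4] [.out 1244],
  .sub [2, 0, 4, 1, 2, 3, 2, 4] [.out 387],
  .sub [6, 4, 2, 3, 1, 2, 3, 2, 4] [.sub [2, 1, 3, 6, 2, 1, 0, 3, 1, 2, 6, 3, 1, 2] [.out 1473]],
  .sub [2, 3, 2, 3, 1, 2, 3, 2, 4] [.sub [6, 0, 3, 1, 0, 1, 0, 6, 2, 3, 1, 2, 4, 1, 6, 0, 3, 2, 1, 0, 1] [.out 374]],
  .sub [0, 1, 3, 2, 1, 3, 2, 4] [.sub [3, 2, 3, 1, 6, 1, 0, 1, 2, 0, 1, 6, 0, 1] [.out 342]],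
  .sub [3, 2, 6, 3, 1, 2, 3, 4, 2] [.sub [1, 0, 3, 2, 1, 0, 2, 6, 1, 6] [.out 1121]],
  .sub [1, 6, 2, 3, 1, 2, 3, 2, 4] [.sub [0, 1, 0, 1, 2, 3, 2, 1, 2, 6, 3, 2, 3] [.out 971]],
  .sub [4, 6, 1, 3, 2, 3, 4, 6, 2] [.sub [3, 1, 2, 3, 1, 0, 1, 2, 1, 4, 3, 4, 0, 2, 3, 2, 1, 3, 0, 1] [.out 1682]]]

/-- Branches. -/
def kidsXPart14 : List Branch := [
  .sub [6, 2, 1, 3, 2, 3, 4, 6, 2] [.sub [3, 1, 2, 3, 6, 1, 2, 0, 3, 6, 1, 0] [.out 833]],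
  .sub [0, 1, 0, 1, 2, 0, 3, 4] [.out 1199],
  .sub [3, 4, 3, 1, 2, 3, 2, 4, 1] [.out 1763],
  .sub [3, 4, 6, 1, 2, 3, 2, 4, 1] [.out 364],
  .sub [4, 3, 1, 2, 3, 0, 4, 1] [.out 668],
  .sub [2, 1, 3, 2, 3, 4, 0, 1] [.out 169],
  .sub [3, 2, 1, 2, 3, 0, 4, 1] [.sub [6, 1, 0, 2, 6, 1, 6] [.sub [0, 1, 4, 0, 2, 1, 0, 3, 2, 4, 1, 6, 1, 2, 3, 1, 4, 0, 1, 2, 3, 2, 4, 3, 1, 0, 1, 0, 6] [.out 1194]]],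
  .sub [4, 6, 1, 3, 2, 0, 3, 4] [.out 1713],
  .sub [4, 2, 1, 3, 2, 3, 2, 4, 6] [.sub [1, 0, 4, 1, 2, 3, 4, 2, 3, 2, 0, 3, 1, 2, 3, 6, 2] [.out 1377]],
  .sub [3, 2, 1, 3, 2, 3, 2, 4, 6] [.sub [6, 0, 2, 1, 0, 6, 3, 2, 3, 1] [.out 1234]],
  .sub [2, 1, 3, 2, 3, 1, 4, 2, 6] [.out 739],
  .sub [1, 3, 2, 0, 1, 3, 6, 2, 4] [.sub [1, 2, 4, 0, 1, 2, 3, 2, 4, 1, 3, 2, 3, 2] [.out 371]],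
  .sub [1, 3, 2, 3, 4, 1, 2, 3, 2] [.sub [0, 1, 0, 6, 1, 6, 2, 3, 1, 4, 3, 0, 6, 1, 2, 3, 1, 6, 2] [.out 560]],
  .sub [1, 2, 0, 1, 0, 3, 2, 1, 4] [.out 140],
  .sub [1, 3, 2, 3, 2, 1, 2, 4, 6] [.out 1180],
  .sub [6, 1, 2, 3, 2, 1, 2, 4, 6] [.out 1154],
  .sub [1, 2, 1, 3, 0, 2, 4, 1] [.out 90],
  .sub [6, 2, 1, 2, 3, 4, 2, 3, 2] [.out 1596],
  .sub [2, 6, 1, 3, 2, 0, 1, 4] [.sub [3, 1, 2, 3, 1, 2, 1, 0, 1, 2, 3, 2, 3, 1] [.out 1021]],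
  .sub [1, 6, 2, 3, 4, 1, 2, 3, 2] [.out 107],
  .sub [6, 1, 2, 3, 4, 2, 0, 1] [.out 1106],
  .sub [2, 1, 2, 3, 2, 6, 1, 3, 4] [.out 992],
  .sub [1, 6, 2, 4, 3, 2, 1, 3, 4] [.out 1612],
  .sub [6, 1, 2, 3, 2, 6, 1, 3, 4] [.out 943],
  .sub [2, 4, 1, 3, 2, 3, 2, 4, 1] [.out 1410],
  .sub [3, 2, 1, 3, 2, 3, 4, 2, 1] [.out 439],
  .sub [6, 2, 1, 3, 2, 3, 2, 4, 1] [.out 668],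
  .sub [4, 6, 1, 3, 2, 3, 2, 4, 1] [.sub [3, 1, 2, 3, 4, 1, 0, 1, 2, 3, 4, 2, 1, 0, 1] [.out 1159]],
  .sub [3, 2, 1, 3, 2, 3, 4, 1, 3] [.out 1536],
  .sub [6, 1, 2, 1, 3, 0, 4, 2] [.out 914],
  .sub [4, 0, 1, 2, 3, 2, 3, 4] [.out 918],
  .sub [0, 1, 2, 3, 2, 0, 4] [.out 1355],
  .sub [1, 0, 1, 2, 3, 4, 3, 2] [.out 656],
  .sub [0, 2, 6, 1, 2, 3, 4] [.sub [6, 1, 2, 3, 1, 2, 6, 0, 4, 3, 2, 4, 6, 1, 2, 3, 2, 6] [.out 691]],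
  .sub [0, 1, 3, 2, 1, 3, 4] [.out 1188],
  .sub [3, 2, 0, 1, 3, 2, 3, 4] [.out 1744],
  .sub [1, 0, 1, 6, 2, 1, 3, 4] [.out 1127],
  .sub [4, 3, 0, 1, 2, 4, 3, 1, 4] [.out 1383],
  .sub [4, 6, 0, 1, 2, 3, 4, 2] [.out 1734],
  .sub [6, 1, 6, 4, 3, 2, 1, 3, 4] [.out 856]]

/-- Branches. -/
def kidsXPart15 : List Branch := [
  .sub [6, 2, 1, 3, 2, 6, 3, 4, 1] [.out 1385],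
  .sub [6, 1, 6, 3, 2, 1, 3, 6, 4] [.out 1258],
  .sub [2, 1, 0, 1, 2, 3, 4, 2] [.out 1047],
  .sub [2, 4, 1, 3, 2, 6, 3, 4, 1] [.out 1238],
  .sub [3, 2, 1, 3, 2, 3, 6, 4, 1] [.out 978],
  .sub [4, 6, 1, 3, 2, 1, 3, 6, 4] [.out 376],
  .sub [6, 1, 2, 3, 4, 0, 1, 6] [.out 1687],
  .sub [3, 4, 2, 1, 3, 2, 3, 4, 3] [.sub [6, 1, 2, 3, 1, 2, 6, 5, 4, 5, 1, 3, 4, 2, 6, 3, 2, 1, 2, 6] [.out 1215]],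
  .sub [6, 4, 2, 1, 3, 2, 3, 4, 3] [.out 1154],
  .sub [2, 3, 2, 1, 3, 2, 3, 4, 3] [.sub [2, 1, 0, 1, 2, 0, 1, 6, 2, 3, 4, 3, 2, 3, 6, 2, 1, 6, 0, 1, 6] [.out 981]],
  .sub [4, 3, 2, 1, 3, 2, 3, 4, 3] [.out 1654],
  .sub [1, 6, 2, 0, 1, 0, 2, 3, 4] [.out 567],
  .sub [1, 6, 2, 1, 3, 2, 3, 4, 3] [.out 1345],
  .sub [6, 1, 2, 3, 4, 0, 1, 0] [.out 935],
  .sub [3, 4, 2, 1, 2, 3, 2, 3, 4] [.out 1681],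
  .sub [6, 2, 1, 4, 2, 3, 2, 3, 4] [.out 1751],
  .sub [0, 1, 2, 1, 3, 0, 2, 4, 1] [.out 1509],
  .sub [0, 1, 2, 3, 4, 2, 3, 2] [.out 255],
  .sub [6, 0, 1, 2, 3, 4, 2, 0, 1] [.out 1326],
  .sub [0, 1, 2, 3, 4, 1, 2, 3, 2] [.out 241],
  .sub [2, 3, 4, 2, 1, 3, 2, 3, 4] [.out 1530],
  .sub [4, 3, 2, 1, 4, 3, 2, 3, 4] [.sub [2, 6, 3, 0, 2, 1, 0, 1, 2, 3, 2, 1, 6, 0] [.out 412]],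
  .sub [3, 4, 6, 2, 1, 3, 2, 3, 4] [.out 1536],
  .sub [1, 6, 2, 1, 4, 3, 2, 3, 4] [.out 1488],
  .sub [1, 6, 2, 1, 3, 2, 3, 6, 4] [.out 145],
  .sub [6, 2, 1, 4, 3, 2, 3, 4, 6] [.sub [1, 2, 6, 1, 0, 1, 3, 6, 1, 0, 2, 1, 2, 3, 2] [.out 435]],
  .sub [0, 1, 2, 3, 2, 1, 2, 4, 6] [.out 1031],
  .sub [2, 1, 2, 3, 4, 0, 1, 0] [.out 171],
  .sub [0, 6, 1, 2, 3, 4, 2, 1, 6] [.out 1361],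
  .sub [4, 3, 2, 1, 3, 2, 3, 6, 4] [.sub [0, 1, 6, 1, 0, 2, 1, 0, 1, 2, 3, 4, 3, 2, 3, 1, 2, 6] [.out 324]],
  .sub [6, 1, 2, 0, 1, 3, 4, 0, 2] [.sub [3, 6, 1, 2, 4, 1, 3, 0, 1, 2, 6, 3, 1, 2, 4, 1, 3, 2, 1, 6] [.out 1297]],
  .sub [4, 0, 1, 3, 2, 3, 2, 4, 1] [.out 1311],
  .sub [0, 2, 1, 3, 2, 3, 4, 2, 1] [.sub [3, 2, 1, 6, 0, 3, 2, 3, 1, 2, 6, 3, 0, 1] [.sub [1, 0, 3, 6, 1, 2, 3, 2, 1, 0, 1, 6, 4, 3, 1, 2, 3, 2, 1, 6, 2, 0, 3, 6, 1, 2, 4, 3, 6, 4, 3, 2, 3] [.out 1590]]],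
  .sub [3, 4, 6, 1, 2, 3, 1, 2, 4, 1] [.out 899],
  .sub [6, 1, 6, 2, 0, 4, 1, 3, 2, 4] [.out 1529],
  .sub [2, 4, 1, 3, 2, 3, 1, 2, 4, 1] [.sub [6, 1, 2, 3, 2, 4, 1, 2, 0, 6, 3, 4, 2, 1, 2, 3, 2, 1, 6] [.out 364]],
  .sub [6, 2, 1, 3, 2, 3, 1, 2, 4, 1] [.out 1451],
  .sub [4, 6, 1, 3, 2, 3, 1, 2, 4, 1] [.out 990],
  .sub [6, 1, 6, 3, 2, 3, 1, 2, 4, 1] [.out 848],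
  .sub [4, 3, 2, 3, 6, 1, 6, 2, 1, 4] [.out 1604]]

/-- Branches. -/
def kidsXPart16 : List Branch := [
  .sub [1, 6, 3, 4, 2, 3, 1, 2, 4, 1] [.out 1635],
  .sub [1, 4, 6, 3, 2, 3, 1, 2, 4, 1] [.out 1489],
  .sub [2, 1, 3, 2, 6, 1, 3, 2, 4, 1] [.out 1227],
  .sub [1, 6, 2, 1, 0, 1, 3, 6, 4] [.out 178],
  .sub [6, 2, 1, 0, 3, 4, 1, 0] [.out 130],
  .sub [6, 2, 1, 2, 3, 4, 0, 1, 6] [.sub [3, 1, 2, 3, 1, 0, 1, 2, 0, 4, 3, 1, 4, 2, 3, 0, 1, 6, 2] [.out 823]],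
  .sub [3, 2, 1, 0, 1, 3, 0, 4] [.out 1372],
  .sub [1, 0, 4, 3, 1, 2, 3, 2, 4] [.sub [3, 2, 3, 1, 2, 6, 3, 1, 6, 2, 3, 4, 3, 2, 3, 6, 2, 1, 6, 0, 1, 6] [.out 431]],
  .sub [0, 1, 3, 2, 3, 4, 2] [.out 992],
  .sub [0, 3, 4, 3, 1, 2, 3, 2, 4] [.out 1564],
  .sub [1, 0, 2, 1, 2, 3, 4, 3] [.out 1303],
  .sub [2, 1, 0, 1, 2, 1, 3, 4] [.out 1679],
  .sub [2, 4, 1, 0, 1, 2, 3, 4] [.out 241],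
  .sub [1, 6, 2, 1, 2, 3, 0, 4, 1] [.out 1425],
  .sub [6, 2, 1, 4, 3, 2, 1, 3, 2, 4] [.sub [6, 0, 1, 2, 3, 2, 1, 3, 0, 2, 1, 0, 1, 6] [.out 138]],
  .sub [1, 6, 2, 3, 2, 1, 2, 3, 2, 4] [.out 1071],
  .sub [3, 2, 1, 0, 1, 2, 3, 4] [.out 777],
  .sub [6, 2, 1, 3, 6, 2, 1, 3, 2, 4] [.sub [1, 2, 1, 0, 1, 6, 3, 0, 2, 0, 1, 4, 0, 2, 3, 2, 1, 4, 3, 2, 1, 6] [.out 1581]],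
  .sub [0, 1, 0, 1, 2, 3, 4] [.sub [3, 2, 3, 2, 0, 1, 4, 0, 2, 3, 2, 1, 4, 3, 2, 1, 6] [.out 829]],
  .sub [2, 1, 0, 1, 3, 2, 3, 4, 2] [.sub [6, 0, 3, 1, 6, 2, 1, 0, 3, 1, 2, 3, 6, 0] [.out 1343]],
  .sub [0, 2, 1, 3, 2, 3, 6, 4, 1] [.sub [2, 6, 3, 0, 2, 1, 0, 1, 2, 3, 2, 1, 6, 0] [.out 1651]],
  .sub [4, 3, 2, 1, 0, 1, 3, 0, 4] [.out 1106],
  .sub [2, 3, 4, 3, 6, 2, 1, 3, 2, 4] [.out 1315],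
  .sub [1, 6, 2, 3, 4, 2, 1, 3, 2, 4] [.out 1428],
  .sub [6, 2, 1, 0, 1, 2, 3, 4] [.out 776],
  .sub [4, 6, 1, 0, 1, 2, 3, 4] [.out 702],
  .sub [1, 6, 2, 3, 0, 1, 0, 1, 4] [.out 385],
  .sub [2, 4, 1, 3, 6, 2, 1, 3, 2, 4] [.sub [2, 6, 1, 0, 2, 1, 2, 3, 2, 3, 2, 1, 6, 0] [.sub [6, 1, 0, 6, 1, 0, 1, 2, 3, 2, 0, 4, 1, 0, 2, 1, 3, 2, 6, 0, 1, 2, 4, 0] [.out 1657]]],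
  .sub [0, 2, 6, 1, 0, 1, 2, 3, 4] [.out 883],
  .sub [0, 4, 6, 1, 0, 1, 2, 3, 4] [.out 895],
  .sub [1, 6, 2, 3, 2, 3, 1, 4, 2, 6] [.out 1383],
  .sub [1, 6, 2, 0, 1, 0, 3, 2, 1, 4] [.out 688],
  .sub [1, 3, 2, 3, 4, 2, 1, 6, 1, 2] [.out 1162],
  .sub [6, 1, 6, 2, 3, 2, 1, 2, 4, 6] [.out 937],
  .sub [6, 1, 2, 0, 1, 3, 6, 2, 4] [.sub [0, 1, 6, 1, 0, 2, 1, 0, 1, 2, 3, 4, 3, 2, 3, 1, 2, 6] [.out 1719]],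
  .sub [1, 6, 2, 0, 1, 3, 2, 6, 4] [.out 158],
  .sub [1, 6, 3, 0, 1, 0, 1, 4] [.out 1517],
  .sub [2, 3, 4, 1, 6, 0, 1, 2, 6] [.out 1658],
  .sub [1, 6, 2, 0, 1, 0, 1, 4] [.out 890],
  .sub [1, 0, 3, 2, 6, 1, 0, 1] [.out 396]]

/-- Branches. -/
def kidsXPart17 : List Branch := [
  .sub [2, 1, 2, 6, 0, 1, 0, 1] [.sub [2, 6, 1, 2, 0, 1, 2, 0, 6, 1] [.out 1341]],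
  .sub [2, 4, 1, 6, 0, 1, 0, 1] [.sub [6, 1, 0, 1, 2, 3, 2, 1, 2] [.out 199]],
  .sub [3, 2, 1, 6, 0, 1, 0, 1] [.out 245],
  .sub [2, 3, 6, 1, 6, 2, 1, 0, 1] [.out 481],
  .sub [1, 3, 2, 1, 3, 0, 1, 0, 1, 4] [.out 1669],
  .sub [6, 2, 1, 2, 3, 4, 0, 1, 0, 1] [.out 491],
  .sub [0, 1, 0, 2, 4, 1, 3, 2, 3, 4] [.out 781],
  .sub [0, 1, 2, 1, 3, 0, 1, 2, 3, 4] [.out 1338],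
  .sub [6, 1, 3, 2, 3, 4, 2, 1, 3, 2] [.out 565],
  .sub [6, 1, 2, 3, 4, 2, 3, 6, 1, 2] [.out 561],
  .sub [4, 3, 2, 4, 3, 2, 4, 3, 1, 2] [.out 1384],
  .sub [3, 4, 2, 3, 4, 2, 6, 3, 1, 2] [.out 703],
  .sub [1, 6, 2, 4, 3, 2, 4, 3, 1, 2] [.out 560],
  .sub [4, 3, 2, 3, 4, 2, 6, 3, 1, 2] [.out 966],
  .sub [1, 3, 2, 3, 4, 2, 3, 6, 1, 2] [.out 1072],
  .sub [2, 1, 2, 3, 4, 2, 3, 6, 1, 2] [.out 723],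
  .sub [2, 3, 4, 1, 6, 1, 0, 1, 0, 1] [.out 1106],
  .sub [0, 2, 1, 6, 3, 2, 1, 0, 1] [.out 278],
  .sub [1, 4, 2, 3, 4, 1, 2, 3, 2, 4] [.out 1483],
  .sub [6, 2, 1, 3, 4, 2, 3, 2, 4, 1] [.out 1696],
  .sub [2, 3, 4, 6, 3, 1, 2, 3, 4, 2] [.out 1660],
  .sub [1, 6, 2, 3, 4, 1, 2, 3, 2, 4] [.out 843],
  .sub [4, 6, 1, 3, 2, 3, 4, 0, 1] [.out 1185],
  .sub [6, 2, 1, 3, 2, 3, 4, 0, 1] [.out 1244],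
  .sub [6, 1, 2, 3, 4, 0, 1, 0, 1] [.sub [3, 2, 1, 6, 0, 1, 0, 1, 2, 3, 4, 3, 2, 3, 1, 2, 6] [.out 334]],
  .sub [3, 4, 2, 1, 3, 2, 3, 4, 0] [.out 888],
  .sub [6, 2, 1, 4, 3, 2, 0, 3, 4] [.out 1427],
  .sub [2, 3, 2, 1, 3, 2, 3, 4, 0] [.sub [6, 0, 1, 2, 3, 2, 1, 3, 0, 2, 1, 0, 1, 6] [.out 138]],
  .sub [4, 3, 2, 1, 3, 2, 3, 4, 0] [.out 148],
  .sub [3, 2, 6, 1, 3, 2, 0, 3, 4] [.out 1537],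
  .sub [1, 6, 2, 1, 3, 2, 3, 4, 0] [.sub [3, 2, 3, 6, 1, 0, 2, 1, 6] [.out 1141]],
  .sub [0, 1, 2, 4, 3, 4, 2] [.out 227],
  .sub [0, 1, 2, 1, 3, 2, 4] [.out 493],
  .sub [0, 4, 6, 1, 2, 1, 3, 4, 2] [.sub [1, 6, 3, 0, 2, 1, 6, 3, 0, 2] [.out 1758]],
  .sub [0, 1, 2, 1, 0, 1, 3, 6, 4] [.out 1507],
  .sub [1, 2, 3, 2, 3, 1, 2, 3, 2, 4] [.out 1041],
  .sub [0, 2, 3, 2, 1, 2, 3, 2, 4] [.sub [6, 0, 3, 1, 0, 1, 0, 6, 2, 3, 1, 2, 4, 1, 6, 0, 3, 2, 1, 0, 1] [.out 846]],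
  .sub [3, 2, 6, 0, 1, 2, 3, 4, 2] [.sub [3, 2, 3, 1, 6, 1, 0, 1, 2, 0, 1, 6, 0, 1] [.out 1121]],
  .sub [0, 1, 2, 0, 3, 4, 1, 0] [.out 141],
  .sub [1, 0, 1, 2, 3, 0, 1, 4, 6] [.out 1566]]

/-- Branches. -/
def kidsXPart18 : List Branch := [
  .sub [1, 2, 0, 1, 0, 2, 3, 4] [.out 452],
  .sub [0, 2, 1, 0, 1, 2, 0, 3, 4] [.out 1775],
  .sub [0, 1, 0, 1, 2, 6, 3, 4] [.out 1149],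
  .sub [4, 6, 1, 3, 4, 2, 3, 2, 4, 1] [.out 130],
  .sub [2, 4, 1, 3, 2, 3, 4, 0, 1] [.out 1648],
  .sub [3, 2, 1, 3, 2, 3, 0, 4, 1] [.sub [3, 1, 2, 3, 1, 0, 1, 2, 1, 4, 3, 4, 0, 2, 3, 2, 1, 3, 0, 1] [.sub [2, 0, 3, 6, 1, 2, 0, 1, 6, 1, 0, 4, 0, 3, 2, 1, 3, 6, 0, 2, 3, 4, 3, 2, 4, 0, 3, 1, 2, 3, 4, 2, 3, 2] [.out 429]]],
  .sub [3, 4, 2, 1, 3, 2, 3, 2, 4, 6] [.out 525],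
  .sub [2, 3, 2, 1, 3, 2, 3, 2, 4, 6] [.out 1689],
  .sub [6, 1, 0, 1, 2, 1, 3, 6, 4] [.out 1561],
  .sub [6, 0, 1, 6, 4, 3, 2, 3, 4] [.out 1526],
  .sub [1, 3, 6, 0, 1, 2, 6, 3, 4] [.sub [1, 2, 6, 1, 0, 1, 3, 2] [.out 78]],
  .sub [1, 4, 6, 0, 1, 0, 3, 2, 3, 4] [.out 1014],
  .sub [2, 0, 1, 6, 4, 3, 2, 3, 4] [.out 1013],
  .sub [6, 2, 1, 2, 0, 1, 3, 4, 0, 2] [.sub [3, 2, 3, 1, 0, 2, 1, 3, 2, 0, 1, 6, 3, 1, 2, 3] [.out 1730]],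
  .sub [0, 1, 6, 1, 3, 2, 3, 4] [.out 730],
  .sub [0, 2, 1, 3, 2, 3, 6, 4] [.out 1130],
  .sub [6, 2, 1, 2, 3, 4, 2, 0, 1] [.out 431],
  .sub [6, 1, 6, 2, 3, 4, 1, 2, 3, 2] [.out 1039],
  .sub [1, 6, 2, 1, 3, 0, 2, 4, 1] [.sub [3, 2, 3, 1, 2, 1, 0, 3, 1, 2, 6, 0, 1, 2, 3, 4, 3, 2, 3, 1, 2, 6] [.sub [1, 6, 2, 1, 3, 2, 1, 0, 6, 2, 3, 1, 4, 0, 1, 2, 3, 2, 4, 3, 1, 0, 1, 0, 6] [.out 138]]],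
  .sub [6, 1, 0, 1, 2, 1, 3, 2, 4] [.out 427],
  .sub [2, 1, 0, 1, 2, 1, 3, 2, 4] [.out 135],
  .sub [0, 1, 2, 3, 1, 2, 6, 4, 1] [.out 1448],
  .sub [6, 2, 1, 4, 3, 2, 3, 2, 4, 1] [.out 668],
  .sub [2, 3, 2, 1, 3, 2, 3, 4, 2, 1] [.out 1346],
  .sub [0, 1, 0, 3, 2, 1, 3, 2, 4] [.out 1114],
  .sub [3, 2, 3, 6, 1, 2, 3, 2, 1, 4] [.out 524],
  .sub [1, 2, 3, 6, 1, 2, 3, 2, 1, 4] [.out 1427],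
  .sub [3, 2, 0, 3, 4, 1, 2, 3, 4] [.sub [2, 6, 1, 0, 2, 1, 2, 3, 2, 6, 0, 3] [.out 312]],
  .sub [1, 6, 2, 0, 1, 2, 3, 4] [.out 1128],
  .sub [1, 0, 1, 2, 3, 2, 4] [.out 418],
  .sub [0, 1, 2, 3, 6, 4, 1, 0] [.out 1730],
  .sub [0, 1, 2, 6, 3, 4, 1] [.out 1739],
  .sub [0, 6, 1, 2, 0, 3, 2, 4] [.out 1085],
  .sub [0, 6, 1, 2, 3, 4] [.sub [0, 1, 0, 1, 2, 1, 6, 3, 1, 2, 3, 1, 0, 1] [.out 1128]],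
  .sub [6, 0, 1, 2, 4, 3, 1, 4] [.out 1059],
  .sub [0, 1, 2, 1, 3, 4] [.out 782],
  .sub [6, 0, 1, 2, 3, 4, 2] [.out 1658],
  .sub [0, 1, 0, 1, 2, 3, 2, 4, 1] [.out 255],
  .sub [4, 3, 2, 0, 1, 3, 2, 3, 4] [.out 1085],
  .sub [0, 2, 1, 3, 2, 3, 4] [.out 1465]]

/-- Branches. -/
def kidsXPart19 : List Branch := [
  .sub [3, 2, 0, 3, 6, 1, 2, 3, 4] [.out 1348],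
  .sub [0, 1, 2, 6, 3, 2, 3, 4] [.out 1662],
  .sub [3, 4, 6, 0, 1, 2, 3, 4, 2] [.sub [3, 2, 1, 6, 1, 0, 1, 2, 1, 3, 2, 6, 1, 6] [.out 414]],
  .sub [1, 6, 2, 0, 1, 2, 3, 4, 2] [.out 1211],
  .sub [3, 4, 2, 1, 3, 2, 3, 6, 4, 1] [.out 1723],
  .sub [6, 0, 1, 2, 3, 0, 1, 4, 6] [.out 1354],
  .sub [1, 6, 3, 2, 0, 1, 2, 6, 3, 4] [.out 1489],
  .sub [4, 3, 2, 4, 3, 1, 2, 3, 4, 3] [.out 63],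
  .sub [3, 4, 6, 2, 3, 4, 1, 2, 3, 4] [.sub [1, 2, 0, 1, 4, 0, 2, 3, 2, 1, 4, 3, 2, 1, 6] [.out 1019]],
  .sub [1, 2, 3, 2, 1, 3, 2, 3, 4, 3] [.out 1010],
  .sub [0, 3, 4, 6, 2, 1, 3, 2, 3, 4] [.out 1374],
  .sub [2, 3, 0, 2, 1, 4, 2, 3, 4] [.out 300],
  .sub [4, 3, 2, 4, 0, 1, 3, 2, 3, 4] [.sub [1, 2, 6, 1, 0, 1, 3, 6, 1, 0, 2, 1, 2, 3, 2] [.out 435]],
  .sub [1, 6, 2, 0, 1, 2, 6, 3, 4] [.out 1434],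
  .sub [2, 6, 0, 1, 0, 2, 3, 4] [.sub [1, 2, 1, 0, 1, 2, 6, 0, 1, 2, 3] [.out 1580]],
  .sub [6, 2, 1, 2, 3, 4, 0, 1, 0] [.out 1721],
  .sub [2, 3, 4, 2, 1, 2, 3, 2, 3, 4] [.sub [3, 2, 1, 6, 0, 3, 2, 3, 1, 2, 6, 3, 0, 1] [.out 566]],
  .sub [0, 1, 2, 3, 2, 6, 3, 4, 1] [.out 1716],
  .sub [0, 1, 2, 1, 0, 1, 2, 3, 2, 4] [.out 1089],
  .sub [0, 1, 2, 0, 1, 0, 3, 2, 1, 4] [.out 1677],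
  .sub [1, 2, 3, 4, 2, 1, 3, 2, 3, 4] [.out 106],
  .sub [0, 1, 0, 6, 2, 1, 2, 3, 4, 0] [.sub [6, 0, 1, 2, 3, 1, 2, 0, 1, 4, 0, 2, 3, 2, 1, 4, 3, 2, 1, 6] [.out 1111]],
  .sub [3, 2, 3, 4, 2, 1, 3, 2, 3, 4] [.out 963],
  .sub [2, 3, 4, 6, 2, 1, 3, 2, 3, 4] [.out 1624],
  .sub [1, 0, 1, 2, 3, 2, 1, 2, 4, 6] [.out 1592],
  .sub [0, 1, 2, 3, 4, 2, 1, 6] [.out 1034],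
  .sub [1, 3, 2, 3, 4, 1, 0, 1, 0] [.out 1576],
  .sub [1, 0, 6, 1, 2, 3, 4, 2, 1, 6] [.out 1348],
  .sub [3, 2, 0, 6, 1, 2, 0, 3, 2, 4] [.sub [3, 2, 3, 0, 1, 2, 0, 4, 3, 1, 4, 2, 3, 0, 1, 6, 2] [.out 1732]],
  .sub [0, 2, 3, 2, 1, 2, 6, 3, 4] [.out 1462],
  .sub [0, 1, 3, 2, 3, 2, 4, 1] [.out 305],
  .sub [0, 1, 2, 4, 3, 2, 4, 3, 4, 2] [.out 1528],
  .sub [0, 4, 3, 6, 1, 2, 3, 2, 1, 4] [.out 1266],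
  .sub [0, 2, 3, 6, 1, 2, 3, 2, 1, 4] [.out 1259],
  .sub [6, 1, 6, 3, 4, 2, 3, 1, 2, 4, 1] [.out 285],
  .sub [6, 4, 2, 1, 3, 2, 3, 0, 4, 1, 2] [.out 1121],
  .sub [1, 6, 2, 1, 3, 2, 3, 0, 4, 1, 2] [.out 1516],
  .sub [1, 4, 6, 1, 3, 2, 3, 0, 4, 1, 2] [.out 1053],
  .sub [6, 2, 1, 3, 2, 6, 1, 3, 2, 4, 1] [.out 1427],
  .sub [1, 4, 6, 3, 4, 2, 3, 1, 2, 4, 1] [.out 711]]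

/-- Branches. -/
def kidsXPart20 : List Branch := [
  .sub [2, 3, 4, 1, 6, 2, 3, 1, 2, 4, 1] [.out 41],
  .sub [2, 4, 1, 3, 2, 6, 1, 3, 2, 4, 1] [.out 1518],
  .sub [1, 6, 2, 1, 0, 1, 3, 0, 4] [.out 384],
  .sub [6, 1, 6, 2, 1, 3, 0, 1, 4, 6] [.sub [1, 2, 1, 0, 1, 6, 3, 0, 1] [.out 1029]],
  .sub [3, 2, 3, 4, 6, 1, 0, 1, 0] [.out 695],
  .sub [1, 0, 3, 1, 2, 3, 2, 4] [.out 1351],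
  .sub [0, 1, 2, 6, 1, 2, 3, 4] [.out 1475],
  .sub [0, 1, 3, 2, 6, 3, 4, 1] [.out 635],
  .sub [0, 1, 2, 3, 4, 2] [.out 496],
  .sub [1, 0, 2, 1, 2, 3, 4] [.out 686],
  .sub [2, 0, 4, 3, 4, 1, 2, 3, 2, 4] [.out 1503],
  .sub [0, 3, 4, 1, 2, 3, 2, 4] [.out 1162],
  .sub [1, 3, 0, 1, 2, 4, 3, 1, 4] [.out 1428],
  .sub [0, 1, 2, 4, 3, 1, 4] [.sub [3, 2, 3, 0, 1, 2, 1, 4, 3, 4, 0, 2, 3, 2, 1, 3, 0, 1] [.out 1742]],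
  .sub [2, 1, 0, 1, 2, 3, 4] [.sub [4, 3, 2, 3, 2, 1, 0, 1, 2, 5, 3, 5, 4, 1, 2, 3, 4, 5, 6, 2, 5] [.out 1720]],
  .sub [1, 0, 1, 4, 2, 3, 4] [.out 979],
  .sub [6, 1, 6, 2, 3, 4, 0, 1, 0, 1] [.out 601],
  .sub [1, 6, 2, 4, 3, 2, 1, 2, 3, 2, 4] [.out 1137],
  .sub [1, 6, 2, 1, 3, 6, 2, 3, 1, 4, 2] [.out 387],
  .sub [2, 3, 2, 1, 0, 1, 2, 3, 4] [.sub [4, 3, 2, 1, 3, 2, 3, 2, 4, 6, 3, 1, 2, 3, 1, 0, 6, 4] [.out 218]],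
  .sub [0, 2, 1, 0, 1, 2, 3, 4] [.sub [1, 2, 4, 0, 1, 2, 6, 3, 2, 6, 4, 1, 0, 2, 1, 2, 5, 6, 5, 3, 1] [.out 781]],
  .sub [0, 1, 0, 1, 4, 2, 3, 4] [.out 159],
  .sub [4, 3, 2, 3, 2, 1, 2, 0, 3, 4] [.out 1202],
  .sub [2, 1, 0, 2, 6, 1, 2, 3, 4] [.sub [6, 1, 0, 1, 2, 3, 2, 1, 6, 3, 0, 1] [.out 981]],
  .sub [2, 4, 1, 0, 6, 1, 2, 3, 4] [.sub [2, 6, 3, 0, 1] [.out 455]],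
  .sub [4, 3, 2, 3, 4, 6, 1, 0, 1, 0] [.out 1465],
  .sub [6, 2, 1, 0, 6, 1, 2, 3, 4] [.out 780],
  .sub [6, 1, 6, 4, 0, 1, 2, 3, 4] [.out 1655],
  .sub [6, 1, 0, 1, 2, 3, 4] [.out 1314],
  .sub [3, 4, 6, 1, 0, 1, 2, 3, 4] [.out 534],
  .sub [1, 2, 1, 6, 3, 0, 1, 0, 1, 4] [.out 275],
  .sub [1, 6, 2, 0, 1, 0, 1, 2, 3, 4] [.out 715],
  .sub [0, 3, 4, 1, 6, 2, 1, 3, 2, 4] [.out 1137],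
  .sub [4, 0, 1, 3, 6, 2, 1, 3, 2, 4] [.out 730],
  .sub [1, 4, 2, 0, 1, 6, 3, 2, 3, 4] [.out 273],
  .sub [1, 4, 6, 1, 2, 3, 2, 1, 2, 4, 6] [.out 485],
  .sub [1, 0, 1, 3, 4, 2, 3, 4, 6, 1, 2] [.out 287],
  .sub [1, 2, 0, 1, 6, 3, 2, 3, 4] [.out 1059],
  .sub [0, 1, 0, 1, 3, 2, 3, 4, 3] [.out 896],
  .sub [2, 1, 2, 3, 4, 6, 0, 1, 6, 2] [.out 310]]

/-- Branches. -/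
def kidsXPart21 : List Branch := [
  .sub [2, 3, 4, 1, 6, 0, 1, 0, 1] [.out 198],
  .sub [2, 4, 1, 2, 6, 0, 1, 0, 1] [.out 1406],
  .sub [3, 2, 1, 6, 2, 0, 1, 0, 1] [.out 388],
  .sub [2, 3, 2, 1, 6, 0, 1, 0, 1] [.out 643],
  .sub [3, 2, 0, 1, 3, 2, 3, 4, 0, 1] [.out 1589],
  .sub [4, 3, 2, 3, 2, 1, 2, 3, 0, 4, 1] [.out 943],
  .sub [3, 4, 6, 1, 2, 3, 4, 2, 1, 3, 2] [.out 333],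
  .sub [6, 1, 6, 2, 1, 3, 0, 1, 0, 1, 4] [.out 1559],
  .sub [0, 1, 0, 2, 1, 3, 2, 3, 4] [.sub [2, 6, 3, 1, 6, 2, 3, 4, 3, 2, 3, 6, 2, 1, 6, 0, 1, 6] [.sub [3, 6, 1, 2, 4, 3, 2, 1, 0, 4, 2, 3, 2, 1, 0, 1, 6, 2, 1, 6, 3, 0, 6, 2] [.out 438]]],
  .sub [0, 2, 1, 6, 0, 1, 2, 6, 3, 4] [.out 1487],
  .sub [4, 6, 1, 0, 1, 3, 2, 3, 2, 4, 1] [.out 1491],
  .sub [6, 2, 1, 0, 1, 3, 2, 3, 2, 4, 1] [.out 1178],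
  .sub [6, 1, 6, 3, 2, 3, 4, 2, 1, 3, 2] [.out 916],
  .sub [6, 2, 1, 2, 3, 4, 2, 3, 6, 1, 2] [.sub [0, 1, 4, 0, 2, 1, 0, 3, 4, 2, 3, 1, 6] [.out 1085]],
  .sub [4, 3, 2, 3, 4, 3, 2, 3, 6, 1, 2] [.out 1449],
  .sub [1, 3, 6, 2, 1, 3, 0, 1, 0, 1, 4] [.out 686],
  .sub [1, 6, 2, 1, 6, 3, 0, 1, 0, 1, 4] [.out 21],
  .sub [0, 1, 0, 6, 1, 2, 3, 0, 4, 1, 2] [.out 531],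
  .sub [2, 1, 3, 2, 3, 4, 2, 6, 3, 1, 2] [.out 937],
  .sub [1, 0, 2, 1, 3, 2, 6, 1, 0, 1] [.out 675],
  .sub [6, 2, 1, 4, 3, 2, 6, 3, 2, 1, 4] [.out 1751],
  .sub [6, 1, 6, 2, 3, 4, 1, 2, 3, 2, 4] [.sub [1, 2, 1, 0, 1, 2, 3, 2, 1, 6, 0, 1, 6, 3, 0, 2] [.out 1033]],
  .sub [1, 2, 3, 4, 6, 3, 1, 2, 3, 4, 2] [.out 887],
  .sub [1, 6, 2, 1, 3, 2, 3, 0, 4, 1] [.out 943],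
  .sub [6, 4, 2, 1, 3, 2, 3, 0, 4, 1] [.out 1244],
  .sub [3, 2, 6, 1, 3, 2, 3, 4, 0, 1] [.out 1143],
  .sub [1, 0, 1, 2, 1, 3, 2, 4] [.out 998],
  .sub [1, 3, 2, 6, 0, 1, 2, 3, 4, 2] [.sub [6, 0, 3, 1, 2, 1, 0, 1, 2, 3, 2, 3, 1] [.out 1522]],
  .sub [2, 6, 3, 2, 1, 3, 2, 3, 4, 0] [.out 219],
  .sub [4, 3, 2, 6, 1, 3, 2, 0, 3, 4] [.out 1149],
  .sub [2, 6, 0, 1, 2, 3, 4, 2] [.out 1494],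
  .sub [0, 1, 2, 3, 0, 1, 4, 6] [.out 1510],
  .sub [0, 2, 6, 1, 3, 2, 1, 3, 2, 4] [.out 892],
  .sub [0, 1, 2, 1, 3, 0, 4] [.out 1731],
  .sub [1, 0, 4, 3, 2, 1, 2, 6, 3, 4] [.out 1180],
  .sub [2, 1, 0, 1, 2, 1, 3, 0, 4] [.out 1713],
  .sub [1, 2, 0, 1, 2, 6, 3, 4] [.sub [2, 3, 2, 1, 4, 3, 2, 1, 0, 6, 3, 2, 3, 4, 1, 3, 2, 0, 3, 4] [.sub [2, 0, 3, 6, 1, 2, 0, 1, 6, 1, 0, 4, 0, 3, 2, 1, 3, 6, 0, 2, 3, 4, 3, 2, 4, 0, 3, 1, 2, 3, 4, 2, 3, 2] [.out 1253]]],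
  .sub [0, 1, 0, 2, 1, 0, 3, 1, 4] [.out 267],
  .sub [0, 2, 1, 0, 1, 2, 6, 3, 4] [.sub [0, 1, 0, 6, 1, 6, 2, 3, 1, 4, 3, 0, 6, 1, 2, 3, 1, 6, 2] [.out 408]],
  .sub [1, 0, 1, 2, 1, 3, 0, 1, 4] [.out 1168]]

/-- Branches. -/
def kidsXPart22 : List Branch := [
  .sub [3, 4, 2, 1, 3, 2, 3, 0, 4, 1] [.out 888],
  .sub [2, 3, 2, 1, 3, 2, 3, 0, 4, 1] [.out 1451],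
  .sub [4, 3, 2, 1, 3, 2, 3, 0, 4, 1] [.sub [3, 1, 2, 3, 1, 0, 1, 2, 1, 4, 3, 4, 0, 2, 3, 2, 1, 3, 0, 1] [.sub [1, 0, 1, 0, 6, 1, 2, 4, 3, 4, 2, 0, 1, 0, 6, 1, 2, 6, 1, 6, 2, 1, 3, 2, 1, 0, 6, 1, 6, 0] [.done 8]]],
  .sub [1, 3, 0, 1, 2, 3, 4, 2, 1, 6] [.sub [3, 1, 2, 3, 1, 2, 1, 0, 1, 2, 3, 2, 3, 1] [.out 345]],
  .sub [6, 1, 3, 2, 0, 1, 2, 6, 3, 4] [.sub [6, 0, 1, 2, 3, 1, 2, 0, 1, 4, 0, 2, 3, 2, 1, 4, 3, 2, 1, 6] [.out 1181]],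
  .sub [1, 2, 3, 2, 1, 3, 2, 3, 2, 4, 6] [.out 1158],
  .sub [6, 2, 1, 0, 1, 2, 1, 3, 6, 4] [.sub [3, 2, 3, 1] [.out 781]],
  .sub [6, 2, 1, 0, 1, 0, 2, 3, 4] [.out 810],
  .sub [4, 6, 0, 1, 0, 3, 2, 3, 4] [.out 1741],
  .sub [4, 0, 1, 6, 3, 2, 3, 4] [.out 1001],
  .sub [1, 6, 0, 1, 2, 6, 3, 4] [.out 984],
  .sub [0, 3, 2, 1, 3, 2, 3, 2, 4, 6] [.out 1098],
  .sub [1, 6, 0, 1, 0, 3, 2, 3, 4] [.out 1573],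
  .sub [6, 0, 1, 2, 6, 3, 4] [.sub [6, 0, 3, 1, 2, 6, 1, 0, 1, 3, 2] [.out 680]],
  .sub [0, 1, 6, 3, 2, 3, 4] [.out 1751],
  .sub [6, 1, 2, 6, 1, 3, 2, 0, 1, 4] [.out 1006],
  .sub [0, 1, 2, 6, 3, 2, 1, 4] [.sub [0, 1, 0, 1, 2, 1, 6, 3, 1, 2, 3, 1, 0, 1] [.out 971]],
  .sub [0, 1, 2, 3, 1, 2, 4, 1] [.out 1281],
  .sub [6, 4, 2, 0, 1, 2, 3, 2, 4, 1] [.out 410],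
  .sub [0, 1, 2, 3, 4, 2, 6, 3, 1, 2] [.out 230],
  .sub [0, 2, 3, 2, 1, 0, 1, 2, 3, 4] [.sub [6, 0, 3, 1, 0, 1, 0, 6, 2, 3, 1, 2, 4, 1, 6, 0, 3, 2, 1, 0, 1] [.sub [0, 1, 4, 0, 2, 1, 0, 3, 2, 4, 1, 6, 1, 2, 3, 1, 4, 0, 1, 2, 3, 2, 4, 3, 1, 0, 1, 0, 6] [.out 1266]]],
  .sub [0, 2, 1, 3, 2, 3, 0, 4, 1, 2] [.out 1421],
  .sub [2, 3, 2, 3, 6, 1, 2, 3, 2, 1, 4] [.sub [3, 2, 3, 6, 1, 0, 2, 1, 6] [.out 1190]],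
  .sub [0, 3, 6, 1, 2, 3, 0, 4, 1, 2] [.out 1314],
  .sub [1, 3, 6, 2, 1, 3, 2, 3, 2, 4, 1] [.out 990],
  .sub [1, 3, 2, 3, 4, 0, 1, 2, 3, 4] [.sub [2, 3, 2, 1, 0, 1, 6, 0, 1, 6] [.out 1317]],
  .sub [2, 3, 4, 0, 1, 2, 3, 4] [.out 674],
  .sub [1, 2, 0, 1, 2, 3, 2, 0, 4] [.out 1443],
  .sub [0, 1, 2, 3, 6, 1, 6, 4] [.out 1712],
  .sub [0, 1, 0, 2, 1, 0, 3, 2, 4] [.out 730],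
  .sub [0, 6, 1, 2, 1, 3, 0, 4, 2] [.out 1415],
  .sub [1, 0, 6, 1, 2, 3, 4] [.out 507],
  .sub [0, 4, 6, 1, 2, 3, 4] [.sub [1, 6, 3, 0, 2, 4, 3, 2, 1, 3, 2, 3, 2, 4, 6, 3, 1, 2, 3, 1, 0, 6, 4] [.out 688]],
  .sub [0, 3, 6, 1, 2, 3, 4] [.out 986],
  .sub [0, 1, 2, 3, 4] [.sub [0, 2, 1, 3, 2, 0, 1, 6] [.out 1141]],
  .sub [4, 0, 1, 0, 1, 2, 3, 2, 4, 1] [.out 1396],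
  .sub [1, 0, 2, 1, 3, 2, 3, 4] [.out 895],
  .sub [6, 1, 3, 2, 0, 1, 3, 2, 3, 4] [.out 730],
  .sub [0, 1, 3, 2, 3, 4] [.out 1336],
  .sub [2, 0, 4, 1, 3, 2, 3, 4] [.out 267]]

/-- Branches. -/
def kidsXPart23 : List Branch := [
  .sub [0, 2, 6, 1, 3, 2, 3, 4] [.sub [6, 0, 3, 4, 3, 2, 1, 6, 2, 3, 4, 2, 3, 2, 0, 1, 2, 3, 4] [.out 826]],
  .sub [1, 0, 3, 2, 6, 1, 3, 2, 3, 4] [.out 735],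
  .sub [2, 6, 0, 3, 4, 1, 2, 3, 2, 4] [.out 1278],
  .sub [4, 3, 2, 6, 0, 1, 2, 6, 3, 4] [.out 676],
  .sub [3, 2, 6, 0, 1, 2, 6, 3, 4] [.sub [0, 1, 0, 6, 1, 0, 1, 2, 0, 1, 6, 3, 0] [.out 1055]],
  .sub [1, 4, 2, 3, 2, 1, 3, 2, 3, 4, 3] [.sub [6, 0, 1, 2, 3, 1, 2, 1, 0, 1, 2] [.out 560]],
  .sub [1, 0, 2, 1, 3, 2, 3, 4, 1, 3] [.sub [0, 1, 6, 0, 1, 2, 3, 6, 0, 1, 6, 1, 4, 3, 2, 1, 3, 6, 1, 2] [.out 680]],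
  .sub [0, 1, 0, 6, 2, 1, 3, 2, 3, 4] [.out 719],
  .sub [2, 0, 4, 6, 1, 3, 2, 3, 4] [.out 589],
  .sub [0, 3, 4, 2, 1, 3, 2, 3, 4] [.out 577],
  .sub [2, 1, 6, 0, 1, 0, 2, 3, 4] [.out 420],
  .sub [2, 6, 0, 1, 2, 6, 3, 4] [.out 1462],
  .sub [6, 0, 1, 0, 2, 3, 4] [.out 1463],
  .sub [6, 1, 6, 2, 3, 4, 1, 0, 1, 0] [.out 322],
  .sub [6, 1, 3, 2, 1, 0, 1, 3, 0, 4] [.out 1504],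
  .sub [2, 1, 2, 3, 4, 2, 1, 3, 2, 3, 4] [.sub [6, 0, 3, 4, 3, 2, 1, 6, 2, 3, 4, 2, 3, 2, 0, 1, 2, 3, 4] [.out 826]],
  .sub [0, 1, 2, 1, 3, 2, 3, 6, 4, 1] [.out 1584],
  .sub [4, 3, 2, 0, 6, 3, 1, 2, 3, 0, 4] [.out 1039],
  .sub [0, 1, 0, 1, 2, 1, 3, 2, 4] [.out 652],
  .sub [1, 4, 2, 3, 4, 2, 1, 3, 2, 3, 4] [.out 493],
  .sub [1, 3, 2, 3, 4, 2, 1, 3, 2, 3, 4] [.out 1375],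
  .sub [6, 1, 2, 3, 4, 2, 1, 3, 2, 3, 4] [.out 1392],
  .sub [2, 3, 4, 0, 6, 1, 2, 3, 4] [.out 1513],
  .sub [3, 2, 0, 1, 4, 3, 2, 3, 4, 3] [.out 892],
  .sub [3, 4, 2, 0, 3, 4, 6, 1, 2, 3, 4] [.sub [0, 1, 3, 0, 2, 6, 3, 1, 0, 3, 2, 3, 2, 1, 0, 1, 2] [.out 1596]],
  .sub [4, 3, 2, 0, 1, 4, 3, 2, 3, 4, 3] [.out 1668],
  .sub [1, 6, 2, 3, 4, 2, 1, 3, 2, 3, 4] [.out 473],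
  .sub [0, 1, 0, 1, 4, 2, 1, 3, 2, 4] [.out 1550],
  .sub [1, 0, 1, 2, 3, 4, 2, 1, 6] [.out 1622],
  .sub [0, 1, 3, 2, 3, 4, 2, 1, 6] [.out 843],
  .sub [3, 2, 0, 1, 0, 3, 2, 3, 4] [.out 1307],
  .sub [1, 3, 0, 6, 1, 2, 1, 3, 0, 4, 2] [.out 1366],
  .sub [1, 2, 3, 2, 0, 1, 2, 6, 3, 4] [.out 1262],
  .sub [6, 1, 6, 0, 1, 2, 3, 4, 2, 1, 6] [.sub [0, 2, 1, 3, 2, 0, 1, 6] [.out 1743]],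
  .sub [3, 2, 0, 1, 2, 6, 3, 4] [.out 1539],
  .sub [2, 0, 4, 3, 2, 1, 2, 6, 3, 4] [.sub [2, 6, 3, 1, 0, 6, 2, 1, 4, 3, 0, 1, 0, 4, 2, 6, 1, 6, 3, 2] [.out 1728]],
  .sub [0, 1, 2, 3, 2, 4, 1] [.out 1275],
  .sub [0, 3, 6, 1, 2, 3, 2, 1, 4] [.out 1762],
  .sub [0, 1, 2, 3, 4, 3, 1, 2, 3, 2, 4] [.out 1021],
  .sub [0, 3, 4, 1, 2, 3, 2, 4, 1] [.sub [1, 2, 6, 1, 0, 1, 3, 2, 1, 6, 3, 0, 2] [.out 1777]]]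

/-- Branches. -/
def kidsXPart24 : List Branch := [
  .sub [0, 3, 4, 3, 6, 1, 2, 3, 2, 1, 4] [.out 854],
  .sub [0, 1, 2, 6, 1, 0, 3, 4, 6, 1, 0] [.out 219],
  .sub [1, 6, 2, 0, 1, 3, 2, 3, 2, 4, 1] [.out 1372],
  .sub [1, 0, 1, 6, 2, 1, 0, 1, 3, 0, 4] [.out 773],
  .sub [1, 4, 6, 2, 1, 3, 2, 3, 1, 2, 4, 1] [.out 635],
  .sub [1, 6, 2, 1, 0, 3, 6, 2, 1, 3, 2, 4] [.out 1419],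
  .sub [6, 2, 1, 4, 3, 2, 6, 1, 3, 2, 4, 1] [.out 1427],
  .sub [0, 3, 4, 1, 6, 2, 3, 1, 2, 4, 1] [.out 635],
  .sub [4, 0, 1, 3, 2, 6, 1, 3, 2, 4, 1] [.out 1679],
  .sub [1, 3, 6, 2, 1, 0, 3, 4, 1, 0] [.out 1057],
  .sub [0, 1, 2, 6, 1, 6, 2, 3, 4] [.out 1663],
  .sub [1, 4, 2, 0, 3, 4, 1, 2, 3, 2, 4] [.out 1694],
  .sub [2, 3, 4, 0, 1, 2, 3, 4, 2] [.out 1414],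
  .sub [2, 1, 3, 0, 2, 1, 4, 2, 3, 4] [.out 1676],
  .sub [4, 0, 1, 2, 3, 4] [.out 145],
  .sub [1, 0, 1, 2, 3, 4] [.out 1057],
  .sub [1, 0, 1, 3, 2, 3, 4, 3] [.out 560],
  .sub [6, 2, 1, 2, 6, 3, 0, 1, 0, 1, 4] [.out 1121],
  .sub [1, 2, 3, 2, 1, 0, 1, 2, 3, 4] [.out 699],
  .sub [1, 0, 2, 1, 0, 1, 2, 3, 4] [.out 63],
  .sub [2, 0, 4, 1, 0, 1, 2, 3, 4] [.out 918],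
  .sub [3, 2, 0, 1, 0, 1, 2, 3, 4] [.out 685],
  .sub [4, 3, 2, 0, 1, 0, 3, 2, 3, 4] [.out 1761],
  .sub [3, 2, 1, 6, 2, 0, 1, 2, 3, 4] [.out 1156],
  .sub [2, 1, 0, 6, 1, 2, 3, 4] [.out 1728],
  .sub [1, 4, 6, 0, 1, 2, 3, 4] [.out 1092],
  .sub [3, 2, 6, 1, 6, 0, 1, 2, 3, 4] [.out 1765],
  .sub [6, 1, 6, 0, 1, 2, 3, 4] [.sub [3, 1, 2, 3, 1, 2, 1, 0, 1, 2, 3, 2, 3, 1] [.out 455]],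
  .sub [3, 4, 6, 1, 0, 6, 1, 2, 3, 4] [.sub [2, 3, 2, 1, 0, 6, 1, 2, 5, 3, 6, 5, 1, 2] [.out 185]],
  .sub [6, 1, 0, 1, 3, 2, 3, 4] [.out 684],
  .sub [6, 2, 1, 0, 3, 4, 1, 2, 3, 4] [.out 976],
  .sub [0, 1, 2, 3, 4, 6, 0, 1, 0, 1] [.sub [2, 6, 3, 0, 1, 4, 3, 2, 3, 6, 2, 4, 1, 5, 3, 2, 3, 6, 5, 1, 2, 3, 4, 1] [.out 1300]],
  .sub [1, 0, 1, 4, 3, 6, 2, 1, 3, 2, 4] [.out 1053],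
  .sub [1, 2, 1, 0, 1, 6, 4, 3, 2, 3, 4] [.out 557],
  .sub [4, 0, 1, 6, 2, 3, 1, 4, 2] [.out 1071],
  .sub [2, 0, 4, 1, 3, 6, 2, 3, 1, 4, 2] [.sub [1, 0, 6, 3, 1, 2, 0, 1, 2, 6, 0, 3] [.out 238]],
  .sub [0, 1, 3, 6, 2, 1, 3, 2, 4] [.out 963],
  .sub [1, 0, 1, 4, 6, 2, 3, 1, 4, 2] [.out 605],
  .sub [1, 2, 1, 3, 0, 1, 2, 6, 3, 4] [.out 675],
  .sub [2, 3, 4, 0, 1, 0, 1, 2, 3, 4] [.out 153]]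

/-- Branches. -/
def kidsXPart25 : List Branch := [
  .sub [0, 1, 0, 1, 3, 2, 3, 0, 4, 1, 2] [.out 1626],
  .sub [0, 2, 1, 3, 2, 3, 0, 4, 1] [.sub [6, 0, 1, 2, 3, 2, 6, 3, 1, 2, 0, 4, 3, 1, 4, 2, 3, 0, 1, 6, 2] [.out 1019]],
  .sub [3, 2, 0, 6, 1, 3, 2, 3, 4, 0, 1] [.out 1485],
  .sub [4, 3, 2, 6, 1, 2, 3, 4, 0, 1, 0, 1] [.out 1199],
  .sub [6, 1, 6, 3, 4, 2, 3, 4, 2, 1, 3, 2] [.out 1747],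
  .sub [0, 1, 2, 3, 4, 6, 1, 2, 3, 2, 4] [.sub [4, 0, 1, 2, 3, 4, 2, 1, 6, 3, 4, 1, 0, 1, 2, 3, 4, 2, 1, 0, 1] [.out 1380]],
  .sub [1, 0, 1, 2, 3, 2, 4, 1] [.out 1415],
  .sub [6, 1, 0, 1, 3, 2, 3, 2, 4, 1] [.out 1585],
  .sub [0, 1, 0, 6, 1, 6, 2, 3, 4] [.out 542],
  .sub [1, 3, 0, 1, 2, 6, 3, 2, 1, 4] [.out 1180],
  .sub [2, 3, 2, 1, 0, 1, 2, 6, 3, 4] [.out 1047],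
  .sub [0, 1, 2, 6, 1, 2, 0, 1, 3, 4, 0, 2] [.out 850],
  .sub [4, 6, 1, 3, 2, 3, 4, 2, 6, 3, 1, 2] [.out 1415],
  .sub [6, 2, 1, 3, 2, 3, 4, 2, 6, 3, 1, 2] [.out 1035],
  .sub [1, 4, 6, 3, 4, 2, 3, 4, 2, 1, 3, 2] [.out 702],
  .sub [2, 3, 4, 1, 6, 2, 3, 4, 2, 1, 3, 2] [.out 414],
  .sub [1, 3, 0, 1, 2, 3, 6, 1, 6, 2, 1, 4] [.out 1379],
  .sub [1, 4, 0, 1, 0, 3, 6, 2, 1, 3, 2, 4] [.sub [6, 0, 1, 2, 3, 1, 0, 1, 6, 2, 3, 4, 3, 2, 3, 6, 2, 1, 6, 0, 1, 6] [.out 1716]],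
  .sub [0, 1, 2, 1, 3, 6, 2, 1, 4, 3, 2] [.sub [6, 0, 1, 2, 3, 2, 1, 0, 1, 2, 3, 2, 3] [.out 1672]],
  .sub [1, 4, 2, 6, 1, 3, 2, 3, 4, 0, 1] [.out 1507],
  .sub [1, 3, 6, 2, 1, 3, 2, 3, 4, 0, 1] [.out 1485],
  .sub [3, 4, 2, 6, 1, 3, 2, 3, 4, 0, 1] [.out 1145],
  .sub [3, 2, 1, 0, 1, 6, 4, 3, 2, 3, 4] [.sub [3, 2, 3, 1, 2, 1, 3, 6, 4, 1, 2, 3, 2, 6, 4, 1, 0, 1] [.sub [1, 0, 1, 0, 6, 1, 2, 4, 3, 4, 2, 0, 1, 0, 6, 1, 2, 6, 1, 6, 2, 1, 3, 2, 1, 0, 6, 1, 6, 0] [.out 660]]],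
  .sub [4, 3, 2, 6, 1, 3, 2, 3, 4, 0, 1] [.out 1498],
  .sub [4, 3, 2, 0, 1, 2, 6, 3, 4] [.out 1163],
  .sub [0, 1, 0, 2, 3, 4] [.sub [6, 0, 3, 1, 2, 4, 0, 1, 2, 5, 3, 0, 2, 4, 5, 3, 1, 6, 0, 1, 6] [.out 394]],
  .sub [0, 1, 2, 1, 3, 6, 4] [.out 701],
  .sub [2, 4, 1, 3, 2, 0, 1, 2, 6, 3, 4] [.out 481],
  .sub [1, 0, 3, 2, 1, 2, 6, 3, 4] [.sub [3, 2, 3, 2, 0, 1, 4, 0, 2, 3, 2, 1, 4, 3, 2, 1, 6] [.out 809]],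
  .sub [2, 1, 0, 1, 0, 2, 3, 4] [.out 446],
  .sub [2, 1, 0, 1, 2, 1, 3, 6, 4] [.sub [6, 1, 2, 3, 0, 1, 2, 0, 1, 0, 1, 2, 3, 4, 3, 2, 3, 1, 2, 6] [.out 1279]],
  .sub [0, 1, 2, 0, 1, 3, 2, 6, 4] [.sub [6, 1, 2, 3, 1, 2, 4, 3, 2, 4, 3, 1, 0, 1, 0, 3, 2] [.out 1302]],
  .sub [0, 1, 2, 1, 3, 0, 1, 4] [.out 1324],
  .sub [1, 0, 1, 6, 4, 3, 2, 3, 4] [.out 1440],
  .sub [6, 1, 6, 0, 1, 2, 6, 3, 4] [.out 1093],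
  .sub [0, 1, 2, 0, 1, 0, 2, 3, 4] [.out 1185],
  .sub [1, 0, 2, 1, 2, 3, 6, 2, 4] [.sub [0, 1, 6, 1, 0, 2, 1, 6, 3, 0, 2] [.sub [2, 0, 1, 6, 1, 0, 4, 3, 2, 3, 1, 4, 2, 0, 1, 0, 5, 2, 5, 1, 3, 2, 0, 1, 0, 1, 3, 6, 4] [.out 429]]],
  .sub [0, 1, 0, 1, 2, 3, 4, 2, 1, 6] [.out 278],
  .sub [1, 0, 1, 2, 3, 1, 2, 4, 1] [.sub [1, 2, 6, 1, 0, 1, 3, 2, 1, 6, 3, 0, 2] [.out 1668]],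
  .sub [3, 2, 1, 0, 2, 1, 3, 2, 3, 4] [.out 1121]]

/-- Branches. -/
def kidsXPart26 : List Branch := [
  .sub [1, 3, 0, 1, 2, 3, 6, 1, 6, 4] [.out 918],
  .sub [1, 6, 2, 1, 2, 0, 1, 2, 6, 3, 4] [.sub [1, 2, 6, 1, 0, 1, 3, 6, 1, 0, 2, 1, 2, 3, 2] [.out 163]],
  .sub [1, 6, 2, 1, 0, 1, 2, 0, 3, 4] [.out 1251],
  .sub [0, 1, 0, 6, 1, 2, 3, 4, 0] [.out 1133],
  .sub [6, 1, 0, 1, 0, 2, 3, 4] [.sub [0, 2, 1, 3, 2, 0, 1, 6, 1, 0, 1, 2, 3, 4, 3, 2, 3, 1, 2, 6] [.out 854]],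
  .sub [6, 2, 1, 0, 1, 2, 6, 3, 4] [.sub [1, 2, 1, 0, 1, 2, 3, 6, 0] [.sub [2, 4, 3, 2, 1, 3, 2, 0, 1, 4, 3, 2, 1, 3, 4, 6, 3, 2, 1, 0, 2, 3, 1, 2, 1, 6, 0, 1, 0, 3, 1, 2, 3, 2] [.out 1169]]],
  .sub [6, 4, 2, 0, 1, 0, 3, 2, 3, 4] [.out 1041],
  .sub [0, 6, 3, 1, 2, 3, 0, 4] [.sub [3, 2, 1, 6, 0, 3, 2, 3, 1] [.out 455]],
  .sub [4, 0, 1, 3, 2, 0, 3, 4] [.out 1174],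
  .sub [2, 1, 6, 0, 1, 2, 6, 3, 4] [.sub [6, 0, 3, 1, 0, 4, 1, 2, 3, 4, 2, 3, 2, 0, 3, 1, 2, 3, 6, 2] [.out 851]],
  .sub [1, 6, 0, 1, 0, 2, 3, 4] [.out 1580],
  .sub [1, 3, 0, 2, 1, 3, 2, 3, 2, 4, 6] [.sub [2, 1, 3, 0, 2, 1, 0, 1, 6] [.out 485]],
  .sub [2, 1, 0, 6, 3, 1, 2, 3, 0, 4] [.out 148],
  .sub [0, 2, 1, 3, 2, 3, 2, 4, 6] [.sub [0, 1, 0, 1, 2, 1, 3, 2, 6, 1, 6] [.out 927]],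
  .sub [0, 1, 2, 6, 3, 4] [.out 1345],
  .sub [1, 3, 0, 1, 2, 6, 3, 4] [.out 1099],
  .sub [1, 4, 0, 1, 2, 3, 2, 4, 1] [.sub [3, 2, 3, 2, 4, 0, 1, 2, 6, 3, 2, 6, 4, 1, 0, 2, 1, 2, 5, 6, 5, 3, 1] [.out 566]],
  .sub [4, 6, 0, 1, 2, 3, 2, 4, 1] [.sub [3, 2, 3, 2, 1, 0, 1, 2, 3, 2, 3, 1] [.sub [3, 0, 1, 0, 1, 2, 0, 3, 1, 2, 4, 3, 0, 2, 1, 0, 1, 3, 6, 0, 2, 1, 2, 3, 2, 0, 4, 3] [.out 438]]],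
  .sub [2, 6, 0, 1, 2, 3, 2, 4, 1] [.sub [1, 0, 2, 1, 3, 0, 2, 1, 0, 1, 3] [.sub [2, 1, 0, 1, 2, 0, 3, 6, 2, 4, 3, 2, 1, 6, 4, 3, 2, 1, 0, 1, 3, 6, 1, 2, 1, 3, 2, 4, 3, 6] [.out 429]]],
  .sub [1, 6, 2, 0, 1, 2, 6, 3, 2, 1, 4] [.out 1160],
  .sub [2, 3, 2, 1, 3, 0, 1, 2, 3, 4] [.sub [6, 0, 3, 1, 0, 1, 0, 6, 2, 3, 1, 2, 4, 1, 6, 0, 3, 2, 1, 0, 1] [.sub [2, 1, 2, 3, 2, 1, 0, 1, 6, 0, 1, 2, 4, 1, 3, 6, 2, 1, 4, 0] [.out 429]]],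
  .sub [2, 6, 0, 1, 0, 3, 2, 1, 3, 2, 4] [.sub [3, 0, 1, 0, 2, 1, 3, 0, 2] [.out 678]],
  .sub [2, 0, 4, 1, 0, 3, 6, 2, 1, 3, 2, 4] [.out 882],
  .sub [1, 6, 0, 1, 0, 3, 2, 1, 3, 2, 4] [.out 1254],
  .sub [1, 0, 2, 3, 4, 1, 2, 3, 4] [.out 976],
  .sub [6, 1, 3, 2, 0, 3, 4, 1, 2, 3, 4] [.out 811],
  .sub [0, 3, 4, 1, 2, 3, 4] [.out 866],
  .sub [2, 0, 4, 1, 3, 2, 3, 4, 3] [.out 674],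
  .sub [1, 0, 1, 6, 2, 1, 3, 6, 4] [.sub [1, 2, 1, 0, 1, 2, 3, 2, 3, 1] [.out 560]],
  .sub [1, 0, 1, 6, 2, 0, 3, 4, 1, 0] [.out 1625],
  .sub [6, 1, 0, 1, 2, 3, 6, 4, 1, 0] [.out 1101],
  .sub [0, 1, 2, 3, 2, 1, 3, 6, 4] [.sub [2, 1, 3, 6, 2, 1, 0, 3, 1, 2, 6, 3, 1, 2] [.out 185]],
  .sub [1, 0, 6, 1, 2, 1, 3, 0, 4, 2] [.out 1383],
  .sub [1, 0, 6, 1, 3, 2, 3, 4] [.out 1028],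
  .sub [0, 3, 4, 6, 1, 2, 3, 4] [.out 1245],
  .sub [0, 4, 6, 1, 3, 2, 3, 4] [.sub [6, 0, 3, 0, 1, 2, 3, 1, 4, 2, 3, 2, 1, 0] [.out 1066]],
  .sub [6, 2, 1, 0, 1, 2, 3, 6, 1, 6, 4] [.out 691],
  .sub [1, 2, 1, 3, 0, 1, 2, 3, 4] [.out 1634],
  .sub [1, 4, 2, 0, 1, 3, 2, 3, 4] [.out 195],
  .sub [6, 1, 0, 2, 1, 3, 2, 3, 4] [.out 816]]

/-- Branches. -/
def kidsXPart27 : List Branch := [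
  .sub [0, 1, 0, 2, 1, 3, 2, 3, 4, 1, 3] [.sub [6, 0, 3, 2, 1, 3, 2, 0, 1, 6, 2, 1, 3, 0] [.sub [2, 1, 0, 1, 2, 0, 4, 3, 2, 3, 1, 0, 1, 6, 0, 1, 2, 3, 2, 6, 4] [.out 429]]],
  .sub [1, 3, 0, 1, 2, 3, 4] [.out 1692],
  .sub [4, 0, 1, 3, 2, 3, 4] [.out 1651],
  .sub [1, 6, 2, 0, 1, 3, 2, 3, 4] [.out 1203],
  .sub [1, 6, 2, 0, 3, 4, 1, 2, 3, 2, 4] [.out 1336],
  .sub [1, 6, 2, 4, 0, 1, 3, 2, 3, 4] [.out 1009],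
  .sub [1, 6, 2, 1, 6, 0, 1, 2, 6, 3, 4] [.sub [2, 6, 3, 0, 2, 4, 0, 1, 2, 3, 2, 4, 1, 3, 2, 3, 2] [.out 335]],
  .sub [1, 2, 1, 3, 0, 2, 1, 4, 2, 3, 4] [.out 1163],
  .sub [6, 1, 2, 3, 0, 2, 1, 4, 2, 3, 4] [.sub [3, 1, 2, 3, 1, 2, 1, 0, 1, 2, 6, 0, 1, 2, 3] [.out 1510]],
  .sub [6, 2, 1, 6, 0, 1, 0, 2, 3, 4] [.sub [0, 1, 3, 0, 2, 6, 3, 1, 0, 3, 2, 3, 2, 1, 0, 1, 2] [.sub [2, 0, 1, 2, 3, 4, 6, 3, 2, 1, 0, 2, 6, 1, 0, 1, 2, 3, 0, 2, 1, 2] [.out 1458]]],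
  .sub [4, 3, 2, 1, 0, 6, 1, 2, 3, 4] [.out 1297],
  .sub [3, 2, 0, 6, 3, 1, 2, 3, 0, 4] [.out 1653],
  .sub [1, 2, 0, 1, 2, 3, 2, 6, 3, 4, 1] [.out 1530],
  .sub [1, 4, 6, 3, 2, 0, 1, 0, 3, 2, 3, 4] [.out 1461],
  .sub [6, 2, 1, 2, 3, 4, 2, 1, 3, 2, 3, 4] [.sub [3, 1, 2, 3, 2, 6, 1, 0, 2, 1, 2, 3, 2] [.out 851]],
  .sub [0, 1, 0, 1, 2, 3, 1, 2, 4, 1] [.out 1564],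
  .sub [1, 6, 2, 0, 3, 4, 1, 2, 3, 4] [.out 801],
  .sub [0, 1, 2, 0, 3, 4, 6, 1, 2, 3, 4] [.out 80],
  .sub [1, 0, 1, 2, 3, 2, 0, 1, 2, 6, 3, 4] [.out 816],
  .sub [1, 3, 2, 6, 0, 1, 4, 3, 2, 3, 4, 3] [.out 1193],
  .sub [0, 1, 0, 6, 1, 2, 3, 4, 2, 1, 6] [.sub [3, 2, 1, 6, 1, 0, 1, 2, 1, 3, 2, 6, 1, 6] [.sub [6, 1, 0, 6, 1, 0, 1, 2, 3, 2, 0, 4, 1, 0, 2, 1, 3, 2, 6, 0, 1, 2, 4, 0] [.out 660]]],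
  .sub [2, 6, 0, 1, 4, 3, 2, 3, 4, 3] [.out 1037],
  .sub [1, 3, 2, 0, 4, 1, 3, 2, 3, 4, 3] [.out 927],
  .sub [1, 0, 4, 3, 2, 4, 3, 1, 2, 3, 4, 3] [.out 1741],
  .sub [2, 1, 0, 1, 2, 3, 4, 2, 1, 6] [.out 636],
  .sub [2, 0, 4, 1, 3, 2, 3, 4, 0] [.out 605],
  .sub [6, 1, 0, 1, 2, 3, 4, 2, 1, 6] [.out 1259],
  .sub [0, 2, 1, 3, 2, 3, 4, 0] [.out 1126],
  .sub [0, 1, 0, 3, 2, 1, 3, 2, 3, 4, 3] [.out 1477],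
  .sub [2, 1, 0, 2, 3, 2, 1, 2, 6, 3, 4] [.out 1383],
  .sub [1, 4, 2, 3, 2, 0, 1, 2, 6, 3, 4] [.sub [1, 2, 1, 3, 2, 1, 0, 1, 6] [.out 305]],
  .sub [6, 1, 0, 2, 3, 2, 1, 2, 6, 3, 4] [.out 244],
  .sub [6, 0, 1, 2, 3, 2, 4, 1] [.out 1655],
  .sub [0, 1, 2, 3, 4, 2, 6, 1, 6, 2] [.out 766],
  .sub [2, 1, 0, 1, 0, 6, 1, 6, 2, 3, 4] [.out 1509],
  .sub [0, 1, 2, 3, 4, 1, 2, 3, 2, 4] [.out 1531],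
  .sub [2, 1, 0, 1, 2, 6, 1, 3, 2, 0, 1, 4] [.out 195],
  .sub [3, 4, 6, 0, 1, 2, 3, 2, 4, 1] [.out 668],
  .sub [0, 1, 2, 6, 1, 3, 2, 0, 1, 4] [.out 1224],
  .sub [0, 1, 2, 3, 4, 6, 1, 0, 1, 0] [.out 188]]

/-- Branches. -/
def kidsXPart28 : List Branch := [
  .sub [1, 0, 1, 6, 2, 1, 0, 1, 3, 6, 4] [.out 1669],
  .sub [4, 6, 0, 1, 0, 3, 6, 2, 1, 3, 2, 4] [.out 737],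
  .sub [1, 6, 2, 1, 4, 6, 3, 2, 3, 1, 2, 4, 1] [.out 882],
  .sub [0, 1, 2, 3, 6, 1, 6, 2, 1, 4] [.out 1451],
  .sub [0, 1, 0, 3, 6, 2, 1, 3, 2, 4] [.out 1171],
  .sub [2, 1, 3, 2, 3, 4, 6, 1, 0, 1, 0] [.out 640],
  .sub [1, 6, 2, 0, 1, 2, 6, 3, 4, 1] [.out 1555],
  .sub [1, 2, 0, 3, 4, 1, 2, 3, 2, 4] [.out 1180],
  .sub [6, 2, 1, 0, 1, 2, 6, 1, 6, 2, 3, 4] [.out 1412],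
  .sub [2, 3, 4, 1, 0, 1, 2, 3, 4] [.out 1096],
  .sub [1, 0, 4, 3, 1, 2, 3, 4, 3] [.out 1519],
  .sub [0, 1, 2, 3, 4, 2, 1, 3, 2] [.out 388],
  .sub [2, 1, 0, 1, 6, 4, 3, 2, 3, 4] [.out 1512],
  .sub [2, 4, 1, 0, 1, 3, 2, 3, 4] [.out 983],
  .sub [3, 2, 1, 3, 0, 1, 2, 3, 4] [.out 198],
  .sub [3, 2, 1, 0, 6, 1, 2, 3, 4] [.out 1390],
  .sub [1, 3, 0, 4, 6, 1, 2, 3, 4] [.sub [6, 0, 3, 1, 0, 4, 1, 2, 3, 4, 2, 3, 2, 0, 3, 1, 2, 3, 6, 2] [.out 1194]],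
  .sub [0, 1, 0, 1, 3, 6, 2, 3, 1, 4, 2] [.out 433],
  .sub [6, 1, 6, 0, 1, 3, 2, 3, 4] [.out 1601],
  .sub [0, 1, 0, 1, 4, 6, 2, 3, 1, 4, 2] [.out 1524],
  .sub [6, 1, 6, 0, 1, 4, 3, 2, 3, 4, 3] [.sub [2, 3, 2, 1, 0, 6, 1, 2, 5, 3, 6, 5, 1, 2] [.out 291]],
  .sub [0, 1, 6, 2, 3, 1, 4, 2] [.sub [6, 4, 2, 1, 2, 3, 2, 3, 1, 5, 2, 3, 4, 6, 5, 1, 0, 2, 3, 4] [.out 1121]],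
  .sub [0, 1, 2, 3, 4, 6, 1, 0, 1] [.out 1022],
  .sub [1, 6, 2, 1, 0, 1, 3, 2, 3, 4, 3] [.sub [3, 0, 1, 0, 2, 1, 3, 0, 2, 1, 6, 3, 0, 2] [.out 1128]],
  .sub [0, 1, 2, 1, 6, 3, 0, 1, 0, 1, 4] [.out 597],
  .sub [0, 1, 3, 2, 3, 4, 6, 1, 0, 1, 0] [.sub [6, 0, 1, 2, 3, 1, 0, 1, 6, 2, 3, 4, 3, 2, 3, 6, 2, 1, 6, 0, 1, 6] [.out 973]],
  .sub [1, 0, 1, 3, 6, 2, 3, 1, 4, 2] [.out 1053],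
  .sub [4, 6, 1, 0, 1, 3, 6, 2, 1, 3, 2, 4] [.out 1318],
  .sub [1, 4, 2, 0, 1, 3, 6, 2, 1, 3, 2, 4] [.out 836],
  .sub [0, 2, 1, 3, 6, 2, 3, 1, 4, 2] [.sub [6, 4, 2, 1, 2, 3, 2, 3, 1, 5, 2, 3, 4, 6, 5, 1, 0, 2, 3, 4] [.out 455]],
  .sub [2, 4, 1, 0, 1, 6, 2, 3, 1, 4, 2] [.out 494],
  .sub [1, 0, 1, 6, 2, 1, 3, 2, 4] [.sub [0, 1, 0, 1, 2, 1, 6, 3, 1, 2, 3, 1, 0, 1] [.out 32]],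
  .sub [4, 6, 1, 0, 1, 6, 2, 3, 1, 4, 2] [.out 1540],
  .sub [2, 1, 0, 1, 6, 3, 2, 3, 4] [.out 659],
  .sub [4, 3, 2, 0, 6, 1, 3, 2, 3, 4, 0, 1] [.out 1354],
  .sub [0, 1, 3, 2, 3, 4, 0, 1] [.out 1288],
  .sub [2, 0, 4, 1, 3, 2, 3, 0, 4, 1] [.out 1779],
  .sub [0, 2, 6, 1, 3, 2, 3, 4, 0, 1] [.sub [3, 1, 2, 3, 1, 2, 6, 1, 0, 1, 3, 2] [.out 1474]],
  .sub [6, 1, 6, 3, 2, 0, 1, 0, 3, 2, 3, 4] [.out 557],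
  .sub [3, 4, 6, 1, 3, 2, 3, 4, 2, 3, 6, 1, 2] [.out 1225]]

/-- Branches. -/
def kidsXPart29 : List Branch := [
  .sub [6, 2, 1, 3, 4, 2, 3, 4, 2, 6, 3, 1, 2] [.out 977],
  .sub [2, 1, 0, 1, 2, 3, 2, 4, 1] [.out 990],
  .sub [6, 1, 0, 1, 2, 3, 2, 4, 1] [.sub [1, 6, 1, 0, 1, 2, 3, 1, 0, 1] [.out 1583]],
  .sub [0, 1, 6, 1, 2, 3, 2, 1, 2, 4, 6] [.out 1171],
  .sub [1, 0, 1, 6, 0, 1, 2, 6, 3, 4] [.sub [4, 3, 1, 2, 3, 1, 2, 6, 1, 6, 0, 4, 1, 2, 3, 2, 4] [.out 1670]],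
  .sub [3, 2, 1, 0, 1, 2, 6, 3, 4] [.out 418],
  .sub [3, 4, 6, 1, 0, 1, 2, 3, 2, 4, 1] [.out 1580],
  .sub [0, 6, 1, 2, 6, 1, 3, 2, 0, 1, 4] [.out 555],
  .sub [0, 1, 2, 6, 1, 2, 3, 4, 0, 1, 0] [.out 420],
  .sub [1, 0, 6, 1, 6, 2, 1, 3, 0, 1, 4, 6] [.out 1248],
  .sub [2, 1, 3, 2, 6, 1, 3, 2, 3, 4, 0, 1] [.sub [2, 1, 0, 1, 2, 3, 2, 3] [.out 833]],
  .sub [0, 1, 0, 1, 0, 3, 6, 2, 1, 3, 2, 4] [.out 1038],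
  .sub [1, 4, 2, 1, 6, 0, 1, 2, 3, 2, 4, 1] [.out 1763],
  .sub [1, 0, 1, 6, 2, 3, 1, 2, 6, 4, 1] [.out 409],
  .sub [1, 3, 0, 1, 0, 6, 2, 3, 1, 4, 2] [.sub [6, 0, 1, 2, 3, 1, 0, 1, 6, 2, 3, 4, 3, 2, 3, 6, 2, 1, 6, 0, 1, 6] [.out 78]],
  .sub [6, 1, 6, 0, 1, 2, 3, 1, 2, 6, 4, 1] [.out 1010],
  .sub [1, 4, 6, 3, 2, 1, 3, 2, 3, 0, 4, 1] [.out 1354],
  .sub [0, 6, 1, 0, 1, 2, 3, 4, 2, 1, 6] [.sub [6, 1, 2, 3, 1, 2, 6, 5, 4, 5, 1, 3, 4, 2, 6, 3, 2, 1, 2, 6] [.out 1411]],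
  .sub [6, 1, 0, 1, 2, 3, 1, 2, 4, 1] [.sub [1, 6, 3, 0, 2, 1, 0, 1, 2, 3, 4, 3, 2, 3, 1, 2, 6] [.out 356]],
  .sub [6, 1, 3, 2, 1, 3, 0, 1, 2, 3, 4] [.sub [0, 1, 6, 0, 1, 3, 2, 3, 1, 0, 1] [.out 194]],
  .sub [1, 0, 1, 2, 0, 3, 4] [.sub [0, 1, 3, 0, 2, 6, 3, 1, 0, 3, 2, 3, 2, 1, 0, 1, 2] [.sub [2, 4, 3, 2, 1, 3, 2, 0, 1, 4, 3, 2, 1, 3, 4, 6, 3, 2, 6, 1, 6, 2, 1, 3, 2, 1, 0, 6, 1, 6, 0] [.done 6]]],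
  .sub [0, 1, 0, 3, 2, 3, 4] [.out 851],
  .sub [2, 1, 3, 2, 0, 1, 2, 6, 3, 4] [.sub [2, 3, 2, 1, 2, 0, 1, 6, 2] [.out 1317]],
  .sub [2, 1, 0, 1, 2, 6, 3, 4] [.out 376],
  .sub [4, 3, 2, 1, 0, 1, 2, 6, 3, 4] [.out 1582],
  .sub [6, 1, 0, 1, 2, 6, 3, 4] [.out 1375],
  .sub [0, 1, 2, 3, 4, 0, 1] [.sub [2, 6, 3, 0, 1, 2, 1, 0, 1, 2, 3, 2, 3] [.out 1595]],
  .sub [0, 1, 2, 3, 1, 4, 2, 6] [.sub [1, 6, 1, 0, 1, 2, 3, 6, 2, 3, 4, 3, 2, 3, 6, 2, 1, 6, 0, 1, 6] [.out 1679]],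
  .sub [1, 0, 4, 3, 1, 2, 0, 3, 4] [.sub [6, 0, 3, 4, 3, 2, 1, 6, 2, 3, 4, 2, 3, 2, 0, 1, 2, 3, 4] [.out 1148]],
  .sub [6, 2, 1, 6, 0, 1, 2, 6, 3, 4] [.out 1375],
  .sub [6, 1, 6, 0, 1, 0, 2, 3, 4] [.out 904],
  .sub [2, 1, 0, 1, 2, 3, 4, 0, 1] [.sub [6, 0, 1, 2, 3, 1, 0, 1, 2, 0, 4, 3, 1, 4, 2, 3, 0, 1, 6, 2] [.out 1065]],
  .sub [0, 1, 2, 0, 1, 2, 6, 3, 4] [.sub [1, 2, 0, 1, 0, 2, 3, 4, 2, 3, 1, 2, 0, 1, 0, 3, 1, 3] [.out 1155]],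
  .sub [0, 1, 0, 1, 6, 2, 1, 3, 6, 4] [.out 188],
  .sub [2, 1, 0, 1, 2, 3, 1, 2, 4, 1] [.sub [3, 1, 2, 3, 4, 1, 0, 1, 2, 3, 4, 2, 1, 0, 1] [.out 1159]],
  .sub [0, 1, 0, 1, 3, 2, 3, 4, 2, 1, 6] [.out 708],
  .sub [1, 0, 1, 6, 0, 1, 0, 2, 3, 4] [.out 816],
  .sub [1, 6, 2, 1, 0, 1, 2, 6, 3, 4] [.out 1375],
  .sub [1, 4, 2, 0, 6, 3, 1, 2, 3, 0, 4] [.out 1364],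
  .sub [2, 6, 0, 1, 0, 3, 2, 3, 4] [.out 1469]]

/-- Branches. -/
def kidsXPart30 : List Branch := [
  .sub [1, 6, 0, 1, 2, 0, 1, 2, 6, 3, 4] [.out 1741],
  .sub [1, 2, 0, 1, 3, 2, 3, 4, 6, 2] [.sub [1, 6, 3, 0, 2, 1, 6, 3, 0, 2] [.out 781]],
  .sub [3, 2, 1, 6, 0, 1, 0, 3, 2, 3, 4] [.sub [0, 1, 6, 0, 1, 2, 1, 4, 3, 4, 0, 6, 1, 2, 1, 0, 6, 1, 6, 3] [.out 130]],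
  .sub [0, 1, 3, 2, 3, 4, 6, 2] [.out 887],
  .sub [0, 4, 2, 1, 3, 2, 3, 2, 4, 6] [.sub [2, 3, 2, 1, 2, 0, 1, 3, 1, 2, 0, 4, 3, 1, 0, 2, 1, 4, 0, 1] [.sub [2, 1, 0, 1, 2, 0, 3, 6, 2, 4, 3, 2, 1, 6, 4, 3, 2, 1, 0, 1, 3, 6, 1, 2, 1, 3, 2, 4, 3, 6] [.done 7]]],
  .sub [1, 0, 1, 2, 6, 3, 4] [.out 1067],
  .sub [4, 6, 1, 0, 1, 2, 3, 2, 4, 1] [.out 1562],
  .sub [1, 4, 6, 0, 1, 2, 3, 2, 4, 1] [.out 320],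
  .sub [1, 6, 2, 0, 1, 2, 3, 2, 4, 1] [.out 427],
  .sub [0, 2, 1, 0, 3, 6, 2, 1, 3, 2, 4] [.out 867],
  .sub [2, 1, 2, 3, 4, 0, 1, 2, 3, 4] [.out 1371],
  .sub [1, 2, 0, 1, 4, 3, 2, 3, 4, 3] [.out 473],
  .sub [6, 1, 2, 3, 4, 0, 1, 2, 3, 4] [.out 1692],
  .sub [0, 1, 4, 3, 2, 3, 4, 3] [.out 866],
  .sub [6, 1, 0, 1, 2, 3, 6, 1, 6, 4] [.out 1442],
  .sub [6, 1, 0, 1, 0, 2, 1, 0, 3, 2, 4] [.out 212],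
  .sub [0, 1, 0, 2, 3, 4, 1, 2, 3, 4] [.sub [3, 1, 2, 3, 1, 2, 1, 0, 1, 2, 6, 0, 1, 2, 3] [.out 1000]],
  .sub [2, 1, 0, 3, 6, 1, 2, 3, 4] [.out 1541],
  .sub [1, 4, 6, 0, 1, 3, 2, 3, 4] [.out 918],
  .sub [0, 3, 4, 6, 1, 3, 2, 3, 4] [.out 1730],
  .sub [2, 1, 0, 1, 3, 2, 3, 4] [.out 1219],
  .sub [1, 4, 2, 1, 3, 0, 1, 2, 3, 4] [.out 1656],
  .sub [6, 2, 1, 0, 2, 1, 3, 2, 3, 4] [.sub [2, 6, 3, 0, 2, 1, 0, 1, 2, 3, 6, 0] [.out 1092]],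
  .sub [4, 6, 1, 0, 2, 1, 3, 2, 3, 4] [.sub [6, 0, 1, 2, 3, 2, 6, 1, 2, 0, 1, 2, 0, 6, 1] [.out 312]],
  .sub [6, 1, 6, 0, 2, 1, 3, 2, 3, 4] [.out 1628],
  .sub [0, 1, 2, 1, 3, 0, 1, 2, 4, 3, 1, 4] [.out 1591],
  .sub [1, 0, 1, 4, 3, 2, 3, 4] [.out 1029],
  .sub [1, 2, 1, 0, 6, 1, 3, 2, 3, 4] [.sub [6, 0, 3] [.out 199]],
  .sub [1, 0, 1, 0, 6, 1, 3, 2, 3, 4] [.out 1670],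
  .sub [1, 4, 6, 1, 0, 2, 1, 3, 2, 3, 4] [.sub [6, 0, 1, 2, 3, 1, 0, 1, 2, 0, 4, 3, 1, 4, 2, 3, 0, 1, 6, 2] [.sub [2, 0, 1, 6, 1, 4, 3, 2, 3, 1, 2, 4, 3, 2, 3, 1, 6, 1, 2, 3, 4, 2, 0, 1] [.out 1704]]],
  .sub [6, 2, 1, 2, 3, 0, 2, 1, 4, 2, 3, 4] [.out 1010],
  .sub [4, 2, 3, 2, 1, 0, 6, 1, 2, 3, 4] [.out 1227],
  .sub [1, 3, 2, 6, 0, 1, 0, 3, 2, 3, 4] [.out 536],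
  .sub [6, 1, 0, 1, 2, 1, 3, 2, 3, 6, 4, 1] [.out 1644],
  .sub [1, 2, 3, 2, 1, 0, 6, 1, 2, 3, 4] [.out 1129],
  .sub [0, 1, 2, 3, 2, 1, 0, 6, 1, 2, 3, 4] [.out 1190],
  .sub [6, 1, 0, 1, 0, 1, 2, 1, 3, 2, 4] [.out 1480],
  .sub [2, 1, 2, 3, 4, 0, 6, 1, 2, 3, 4] [.out 120],
  .sub [1, 6, 2, 0, 1, 4, 3, 2, 3, 4, 3] [.sub [6, 1, 2, 3, 1, 2, 6, 0, 4, 3, 2, 4, 6, 1, 2, 3, 2, 6] [.out 967]],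
  .sub [6, 1, 6, 2, 3, 4, 0, 1, 2, 3, 4] [.out 1171]]

/-- Branches. -/
def kidsXPart31 : List Branch := [
  .sub [0, 1, 2, 3, 2, 0, 1, 2, 6, 3, 4] [.sub [2, 6, 3, 0, 2, 1, 0, 1, 2, 3, 2, 1, 6, 0] [.out 1234]],
  .sub [0, 1, 3, 2, 3, 4, 2, 1, 3, 2, 3, 4] [.out 1161],
  .sub [0, 1, 2, 4, 3, 2, 0, 1, 2, 6, 3, 4] [.out 1563],
  .sub [6, 2, 1, 0, 1, 2, 3, 4, 2, 1, 6] [.sub [1, 2, 4, 0, 1, 2, 6, 3, 2, 6, 4, 1, 0, 2, 1, 2, 5, 6, 5, 3, 1] [.sub [0, 1, 4, 0, 2, 1, 0, 3, 2, 4, 1, 0, 3, 0, 1, 0, 1, 2, 0, 3, 1, 2, 4, 3, 0, 2, 1, 0, 1, 3, 6, 0, 2, 1, 2, 3, 2, 0, 4, 3] [.out 1458]]],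
  .sub [6, 1, 6, 0, 1, 2, 3, 6, 1, 6, 4] [.sub [2, 1, 0, 3, 1, 2, 6, 0, 1, 2, 3, 4, 3, 2, 3, 1, 2, 6] [.sub [0, 6, 1, 2, 3, 1, 4, 0, 1, 2, 3, 2, 4, 3, 1, 0, 1, 0, 6] [.out 660]]],
  .sub [1, 6, 0, 1, 2, 3, 2, 4, 1] [.out 927],
  .sub [0, 1, 2, 6, 1, 3, 0, 1, 4, 6] [.out 1071],
  .sub [1, 2, 0, 3, 4, 1, 2, 3, 2, 4, 1] [.out 1285],
  .sub [2, 3, 4, 6, 0, 1, 2, 3, 2, 4, 1] [.out 1114],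
  .sub [0, 1, 2, 3, 4, 6, 1, 2, 3, 2] [.out 1480],
  .sub [4, 0, 1, 6, 1, 2, 3, 0, 4, 1, 2] [.out 811],
  .sub [6, 0, 1, 0, 3, 6, 2, 1, 3, 2, 4] [.out 1213],
  .sub [0, 1, 0, 6, 2, 3, 1, 4, 2] [.out 1516],
  .sub [2, 4, 1, 6, 0, 1, 2, 3, 2, 4, 1] [.sub [6, 0, 1, 2, 3, 2, 6, 3, 1, 2, 0, 4, 3, 1, 4, 2, 3, 0, 1, 6, 2] [.sub [6, 1, 6, 2, 0, 1, 6, 3, 2, 1, 3, 4, 3, 0, 2, 1, 2, 1, 3, 2, 1, 0, 4, 3, 2, 4, 3, 1, 2] [.out 438]]],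
  .sub [0, 1, 2, 1, 0, 1, 3, 2, 3, 4, 3] [.out 1562],
  .sub [2, 1, 0, 1, 4, 3, 2, 3, 4, 3] [.out 1202],
  .sub [2, 3, 2, 1, 0, 6, 1, 2, 3, 4] [.out 701],
  .sub [2, 3, 4, 1, 0, 6, 1, 2, 3, 4] [.out 1654],
  .sub [1, 6, 0, 1, 4, 3, 2, 3, 4, 3] [.out 1741],
  .sub [0, 1, 0, 1, 6, 2, 1, 3, 2, 4] [.out 1524],
  .sub [6, 2, 1, 0, 3, 6, 1, 2, 3, 4] [.out 777],
  .sub [6, 1, 6, 4, 0, 1, 3, 2, 3, 4] [.sub [3, 1, 2, 3, 1, 2, 4, 0, 1, 2, 5, 3, 0, 2, 4, 5, 3, 1, 6, 0, 1, 6] [.out 545]],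
  .sub [0, 1, 0, 1, 6, 2, 3, 1, 2, 6, 4, 1] [.sub [6, 1, 0, 1, 2, 3, 2, 1, 2, 4, 1, 0, 1, 2, 3, 4, 2, 1, 0, 1] [.out 1343]],
  .sub [2, 1, 6, 0, 1, 2, 3, 2, 4, 1] [.out 1111],
  .sub [1, 6, 2, 1, 0, 4, 3, 1, 2, 3, 4, 3] [.sub [2, 6, 3, 0, 1, 2, 1, 0, 1, 2, 3, 2, 3] [.out 364]],
  .sub [1, 0, 1, 2, 0, 3, 4, 1, 2, 3, 2, 4] [.out 1194],
  .sub [2, 1, 0, 1, 3, 6, 2, 1, 3, 2, 4] [.sub [1, 2, 1, 0, 1, 6, 3, 0, 2, 0, 1, 4, 0, 2, 3, 2, 1, 4, 3, 2, 1, 6] [.out 1102]],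
  .sub [4, 3, 2, 0, 1, 0, 6, 1, 2, 3, 4] [.out 776],
  .sub [6, 1, 0, 1, 3, 6, 2, 1, 3, 2, 4] [.out 307],
  .sub [1, 2, 0, 3, 1, 2, 6, 1, 3, 4, 2] [.out 1263],
  .sub [0, 1, 6, 1, 0, 1, 3, 2, 3, 4] [.sub [6, 1, 2, 3, 1, 2, 6, 0, 4, 3, 2, 4, 6, 1, 2, 3, 2, 6] [.out 967]],
  .sub [2, 1, 0, 1, 6, 2, 3, 1, 4, 2] [.out 278],
  .sub [4, 0, 1, 6, 1, 0, 1, 2, 3, 4] [.out 1203],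
  .sub [0, 3, 4, 1, 0, 6, 1, 2, 3, 4] [.out 816],
  .sub [6, 1, 0, 1, 6, 2, 3, 1, 4, 2] [.sub [3, 2, 3, 2, 1, 0, 1, 2, 3, 2, 1, 6, 0] [.sub [3, 0, 1, 0, 1, 2, 0, 3, 1, 2, 4, 3, 0, 2, 1, 0, 1, 3, 6, 0, 2, 1, 2, 3, 2, 0, 4, 3] [.out 429]]],
  .sub [3, 2, 1, 3, 0, 1, 2, 6, 3, 4] [.out 1672],
  .sub [0, 1, 6, 1, 2, 3, 2, 4] [.out 1566],
  .sub [4, 0, 1, 3, 2, 3, 4, 0, 1] [.out 1654],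
  .sub [0, 6, 1, 3, 2, 3, 4, 0, 1] [.sub [3, 2, 1, 6, 1, 2, 4, 1, 3, 0, 1, 2, 6, 3, 1, 2, 4, 1, 3, 2, 1, 6] [.out 854]],
  .sub [2, 1, 0, 1, 3, 2, 3, 4, 6, 2] [.sub [6, 0, 3, 1, 2, 1, 0, 1, 2, 3, 2, 1, 6, 0] [.sub [2, 1, 0, 1, 2, 1, 3, 0, 6, 0, 1, 2, 3, 2, 4, 3, 1, 2, 1, 0] [.out 1194]]]]

/-- Branches. -/
def kidsXPart32 : List Branch := [
  .sub [1, 6, 2, 0, 1, 3, 2, 3, 4, 0, 1] [.out 1149],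
  .sub [0, 1, 3, 2, 0, 6, 3, 1, 2, 3, 0, 4] [.out 1267],
  .sub [0, 1, 0, 3, 2, 1, 0, 6, 1, 2, 3, 4] [.out 1726],
  .sub [1, 0, 1, 6, 2, 0, 1, 0, 3, 2, 3, 4] [.out 1742],
  .sub [6, 2, 1, 0, 1, 2, 3, 2, 4, 1] [.sub [6, 1, 2, 3, 0, 1, 2, 3, 6] [.out 1675]],
  .sub [0, 1, 2, 0, 1, 6, 3, 2, 3, 4] [.sub [3, 2, 3, 1, 0, 2, 1, 2, 3, 2, 1, 6, 4, 3, 2, 1, 0] [.sub [3, 2, 1, 3, 2, 0, 3, 6, 1, 6, 1, 2, 3, 2, 4, 1, 0, 4, 1, 3, 4, 6, 3, 2, 0, 1, 0] [.out 1675]]],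
  .sub [0, 1, 2, 6, 1, 2, 3, 4, 0, 1, 6] [.out 1216],
  .sub [0, 1, 2, 6, 1, 2, 3, 4, 2, 3, 2] [.out 1728],
  .sub [1, 4, 2, 0, 1, 0, 6, 1, 2, 3, 4] [.out 1698],
  .sub [1, 3, 0, 2, 1, 0, 6, 1, 2, 3, 4] [.sub [0, 1, 3, 2, 3, 0, 1, 6, 2, 3] [.sub [2, 0, 1, 6, 1, 4, 3, 2, 3, 1, 2, 4, 3, 2, 3, 1, 6, 1, 2, 3, 4, 2, 0, 1] [.out 1704]]],
  .sub [0, 1, 0, 1, 6, 2, 3, 1, 2, 4, 1] [.out 562],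
  .sub [1, 2, 1, 6, 0, 1, 2, 3, 2, 4, 1] [.sub [3, 1, 2, 3, 1, 2, 1, 0, 1, 2, 3, 2, 1, 6, 0] [.sub [1, 6, 2, 1, 3, 0, 1, 2, 6, 1, 2, 4, 3, 2, 3, 1, 2, 6, 1, 3, 2, 1, 3, 6, 4] [.out 660]]],
  .sub [2, 4, 1, 0, 1, 0, 6, 2, 3, 1, 4, 2] [.out 1073],
  .sub [1, 0, 1, 6, 2, 3, 1, 2, 4, 1] [.out 1487],
  .sub [6, 1, 6, 0, 1, 2, 3, 1, 2, 4, 1] [.out 1130],
  .sub [0, 1, 0, 6, 1, 0, 1, 2, 1, 3, 6, 4] [.out 1160],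
  .sub [6, 2, 1, 0, 1, 2, 3, 1, 2, 4, 1] [.out 846],
  .sub [2, 3, 2, 1, 0, 1, 6, 2, 3, 4, 2] [.out 861],
  .sub [1, 3, 0, 1, 0, 2, 3, 4] [.out 1641],
  .sub [1, 0, 1, 2, 3, 0, 4, 1] [.sub [4, 0, 3, 1, 2, 6, 1, 2, 3, 2, 0, 1, 2, 3, 2, 4, 3, 6, 4, 0, 2] [.sub [2, 1, 0, 1, 2, 0, 4, 3, 2, 3, 1, 0, 1, 6, 0, 1, 2, 3, 2, 6, 4] [.out 608]]],
  .sub [0, 1, 2, 3, 2, 6, 4] [.out 843],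
  .sub [6, 0, 1, 2, 3, 4, 0, 1] [.out 1463],
  .sub [2, 1, 0, 1, 2, 3, 2, 6, 4] [.out 276],
  .sub [0, 1, 0, 3, 2, 1, 2, 6, 3, 4] [.sub [6, 1, 0, 1, 0, 2, 1, 3, 2, 1, 6, 3, 0, 2] [.out 1085]],
  .sub [0, 1, 0, 1, 3, 2, 3, 4, 6, 1, 6] [.out 800],
  .sub [6, 2, 1, 0, 1, 2, 6, 3, 2, 1, 4] [.out 1518],
  .sub [3, 4, 2, 0, 1, 3, 2, 3, 4, 6, 2] [.out 1526],
  .sub [1, 6, 2, 0, 1, 0, 3, 2, 3, 4] [.out 1503],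
  .sub [2, 1, 0, 2, 1, 3, 2, 3, 2, 4, 6] [.out 1513],
  .sub [1, 0, 6, 1, 3, 2, 0, 1, 2, 6, 3, 4] [.out 1718],
  .sub [1, 0, 4, 2, 1, 3, 2, 3, 2, 4, 6] [.sub [2, 1, 0, 6, 1, 6, 0, 3, 1, 2] [.sub [6, 0, 1, 2, 0, 6, 1, 6, 2, 3, 2, 1] [.out 1675]]],
  .sub [1, 0, 1, 3, 2, 3, 6, 2, 4] [.sub [3, 0, 1, 0, 2, 1, 3, 0, 2, 1, 6, 3, 0, 2] [.sub [3, 0, 1, 0, 1, 2, 0, 3, 1, 2, 4, 3, 0, 2, 1, 0, 1, 3, 6, 0, 2, 1, 2, 3, 2, 0, 4, 3] [.out 1675]]],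
  .sub [4, 0, 1, 3, 2, 3, 4, 6, 2] [.out 799],
  .sub [0, 1, 0, 2, 4, 1, 6, 3, 2, 3, 4] [.out 1581],
  .sub [2, 4, 1, 2, 3, 4, 0, 1, 2, 3, 4] [.out 978],
  .sub [0, 1, 2, 0, 3, 4, 1, 2, 3, 2, 4] [.out 1137],
  .sub [0, 1, 0, 1, 6, 2, 1, 2, 6, 3, 4] [.sub [2, 6, 3, 1, 6, 2, 3, 4, 3, 2, 3, 6, 2, 1, 6, 0, 1, 6] [.out 1716]],
  .sub [0, 1, 0, 6, 1, 3, 2, 3, 4] [.sub [2, 6, 3, 0, 1, 2, 1, 0, 1, 2, 3, 2, 3] [.out 364]],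
  .sub [3, 2, 1, 0, 6, 1, 3, 2, 3, 4] [.sub [6, 0, 3, 0, 1, 2, 3, 1, 4, 2, 3, 2, 1, 0] [.out 1612]],
  .sub [6, 2, 1, 0, 2, 6, 1, 3, 2, 3, 4] [.out 1134]]

/-- Branches. -/
def kidsXPart33 : List Branch := [
  .sub [1, 0, 1, 0, 6, 1, 2, 3, 4] [.out 1613],
  .sub [1, 3, 0, 1, 0, 4, 6, 1, 2, 3, 4] [.sub [6, 0, 3, 1, 2, 1, 3, 2, 1, 0, 1, 6] [.out 1412]],
  .sub [2, 1, 3, 2, 0, 6, 3, 1, 2, 3, 0, 4] [.out 1469],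
  .sub [0, 1, 2, 1, 0, 1, 6, 4, 3, 2, 3, 4] [.sub [1, 0, 1, 6, 2, 3, 4, 3, 2, 3, 6, 2, 1, 6, 0, 1, 6] [.out 1181]],
  .sub [2, 1, 2, 6, 0, 1, 4, 3, 2, 3, 4, 3] [.out 1085],
  .sub [6, 1, 2, 3, 2, 1, 0, 6, 1, 2, 3, 4] [.out 1584],
  .sub [0, 1, 2, 1, 0, 1, 3, 2, 3, 6, 2, 4] [.out 342],
  .sub [0, 1, 2, 0, 1, 2, 3, 2, 6, 3, 4, 1] [.out 1346],
  .sub [0, 1, 2, 3, 4, 2, 1, 3, 2, 3, 4] [.out 1247],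
  .sub [0, 1, 2, 3, 4, 6, 2, 3, 1, 4, 2] [.out 908],
  .sub [0, 1, 6, 1, 2, 3, 0, 4, 1, 2] [.out 1072],
  .sub [2, 4, 1, 0, 3, 4, 6, 1, 2, 3, 4] [.out 63],
  .sub [0, 1, 2, 1, 3, 0, 1, 2, 6, 3, 4] [.out 803],
  .sub [0, 1, 2, 0, 1, 0, 4, 6, 1, 2, 3, 4] [.sub [6, 0, 1, 2, 3, 6, 1, 0, 1, 2, 0, 1, 6, 0, 1] [.out 312]],
  .sub [0, 1, 2, 1, 0, 1, 0, 6, 1, 2, 3, 4] [.out 1407],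
  .sub [0, 2, 6, 1, 6, 0, 1, 2, 3, 4] [.out 1148],
  .sub [3, 2, 0, 1, 0, 6, 1, 2, 3, 4] [.out 979],
  .sub [0, 1, 6, 1, 0, 1, 2, 3, 4] [.out 801],
  .sub [0, 1, 0, 4, 6, 1, 2, 3, 4] [.sub [3, 0, 1, 0, 2, 1, 3, 0, 2, 1, 6, 3, 0, 2] [.out 107]],
  .sub [0, 1, 2, 0, 6, 3, 1, 2, 3, 0, 4] [.sub [3, 2, 3, 1, 2, 1, 0, 1, 2, 3, 2, 3] [.out 78]],
  .sub [0, 1, 2, 0, 1, 0, 6, 1, 2, 3, 4] [.out 378],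
  .sub [6, 2, 1, 2, 6, 0, 1, 2, 3, 2, 4, 1] [.sub [2, 6, 1, 0, 2, 1, 2, 3, 2, 3, 2, 1, 6, 0] [.out 403]],
  .sub [0, 1, 2, 0, 1, 3, 2, 3, 4, 6, 2] [.out 952],
  .sub [2, 0, 4, 1, 0, 6, 1, 2, 3, 4] [.out 1104],
  .sub [1, 4, 2, 1, 0, 1, 0, 6, 1, 2, 3, 4] [.sub [2, 3, 2, 1, 0, 6, 1, 2, 5, 3, 6, 5, 1, 2] [.out 291]],
  .sub [1, 2, 0, 1, 0, 6, 1, 2, 3, 4] [.out 1566],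
  .sub [2, 1, 0, 1, 0, 6, 2, 3, 1, 4, 2] [.out 266],
  .sub [0, 1, 0, 3, 2, 1, 3, 2, 3, 2, 4, 6] [.out 1656],
  .sub [1, 2, 3, 2, 1, 0, 1, 6, 2, 3, 4, 2] [.sub [2, 1, 0, 1, 0, 6, 2, 3, 2, 6, 1, 0, 2, 6, 1, 6] [.out 819]],
  .sub [0, 1, 0, 4, 2, 1, 3, 2, 3, 2, 4, 6] [.sub [3, 2, 3, 6, 1, 0, 1, 2, 3, 1, 0, 1] [.sub [1, 0, 3, 6, 1, 2, 3, 2, 1, 0, 1, 6, 4, 3, 1, 2, 3, 2, 1, 6, 2, 0, 3, 6, 1, 2, 4, 3, 6, 4, 3, 2, 3] [.out 435]]],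
  .sub [3, 2, 1, 0, 1, 6, 2, 3, 4, 2] [.sub [1, 6, 3, 0, 2, 1, 2, 0, 1, 4, 0, 2, 3, 2, 1, 4, 3, 2, 1, 6] [.out 1065]],
  .sub [0, 2, 1, 0, 3, 2, 1, 2, 6, 3, 4] [.out 779],
  .sub [1, 0, 1, 6, 2, 3, 4, 2] [.out 1331],
  .sub [1, 3, 0, 4, 2, 1, 3, 2, 3, 2, 4, 6] [.out 1671],
  .sub [0, 1, 0, 2, 3, 4, 3, 1, 2, 3, 2, 4] [.out 1071],
  .sub [0, 1, 0, 6, 1, 2, 3, 4] [.sub [3, 0, 1, 0, 2, 1, 3, 0, 2, 1, 6, 3, 0, 2] [.out 1128]],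
  .sub [2, 1, 0, 1, 0, 6, 1, 2, 3, 4] [.out 1622],
  .sub [1, 0, 1, 4, 6, 0, 1, 2, 3, 4] [.out 700],
  .sub [0, 1, 0, 6, 2, 1, 3, 2, 3, 4, 0, 1] [.sub [1, 0, 2, 3, 1, 0, 1, 2, 1, 0, 3] [.out 1677]],
  .sub [0, 1, 2, 3, 4, 2, 1, 2, 3, 2, 3, 4] [.out 1416]]

/-- Branches. -/
def kidsXPart34 : List Branch := [
  .sub [4, 0, 1, 2, 6, 0, 1, 0, 3, 2, 3, 4] [.out 1780],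
  .sub [0, 2, 1, 0, 6, 1, 2, 3, 4] [.out 1104],
  .sub [2, 4, 1, 0, 1, 0, 6, 1, 2, 3, 4] [.out 1162],
  .sub [1, 2, 1, 0, 1, 0, 6, 1, 2, 3, 4] [.sub [3, 1, 2, 3, 1, 2, 4, 0, 1, 2, 5, 3, 0, 2, 4, 5, 3, 1, 6, 0, 1, 6] [.out 545]],
  .sub [1, 2, 0, 1, 0, 3, 2, 1, 2, 6, 3, 4] [.sub [6, 0, 3, 4, 3, 2, 1, 6, 2, 3, 4, 2, 3, 2, 0, 1, 2, 3, 4] [.out 1465]]]

/-- Branches. -/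
def kidsXPart35 : List Branch := [
  .sub [] (kidsXPart0 ++ kidsXPart1 ++ kidsXPart2 ++ kidsXPart3 ++ kidsXPart4 ++ kidsXPart5 ++ kidsXPart6 ++ kidsXPart7 ++ kidsXPart8 ++ kidsXPart9 ++ kidsXPart10 ++ kidsXPart11 ++ kidsXPart12 ++ kidsXPart13 ++ kidsXPart14 ++ kidsXPart15 ++ kidsXPart16 ++ kidsXPart17 ++ kidsXPart18 ++ kidsXPart19 ++ kidsXPart20 ++ kidsXPart21 ++ kidsXPart22 ++ kidsXPart23 ++ kidsXPart24 ++ kidsXPart25 ++ kidsXPart26 ++ kidsXPart27 ++ kidsXPart28 ++ kidsXPart29 ++ kidsXPart30 ++ kidsXPart31 ++ kidsXPart32 ++ kidsXPart33 ++ kidsXPart34)]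

/-- All branches. -/
def kidsX : List Branch := (kidsXPart35)

/-- The modes. -/
def modesX : List Mode := [.fixd, .free, .det 1 1, .det 1 2, .det 1 3]

/-- The fixed points. -/
def fixX : List ℕ := [995]

end CfsgLib.Spor.SuzOut
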