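import Cfsg.Agent.Lib.Spor.ActCert.Search

/-!
Branches of a search.
-/

set_option autoImplicit false
set_option maxRecDepth 100000
set_option maxHeartbeats 0

namespace CfsgLib.Spor.SuzOut

open CfsgLib.Spor.TC CfsgLib.Spor.ActCert

/-- Branches. -/
def kidsZPart0 : List Branch := [
  .sub [] [.out 149, .sub [] [.out 149, .out 164, .sub [] [.out 149, .out 164, .out 254, .sub [] [.out 149, .out 164, .out 254, .out 995, .sub [] [.sub [] [.done 0], .sub [2, 1, 0, 6, 2, 3, 2, 1, 2] [.done 7], .sub [2, 3, 2, 0, 1, 0, 1, 4, 0, 1, 3, 2, 1, 3, 4, 0] [.done 1], .sub [2, 3, 2, 0, 1, 0, 1, 4, 0, 1, 3, 2, 1, 3, 4, 0, 2, 1, 0, 6, 2, 3, 2, 1, 2] [.done 10], .sub [2, 6, 1, 3, 2, 6, 1, 2, 3, 2, 4, 3, 0, 1, 0, 2, 1, 3, 4, 0] [.done 2],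 .sub [1, 4, 0, 3, 2, 1, 4, 0, 1, 2, 4, 3, 4, 3, 2, 3, 2, 3] [.done 3], .sub [2, 6, 1, 3, 2, 6, 1, 2, 3, 2, 4, 3, 0, 1, 0, 2, 1, 3, 4, 0, 2, 1, 0, 6, 2, 3, 2, 1, 2] [.done 11], .sub [1, 4, 0, 3, 2, 1, 4, 0, 1, 2, 4, 3, 4, 3, 2, 3, 2, 3, 2, 1, 0, 6, 2, 3, 2, 1, 2] [.done 5], .sub [2, 3, 2, 0, 1, 0, 1, 4, 0, 1, 3, 2, 1, 3, 4, 0, 2, 6, 1, 3, 2, 6, 1, 2, 3, 2, 4, 3, 0, 1, 0, 2, 1, 3, 4, 0] [.done 6], .sub [2, 1, 0, 6, 2, 3, 2, 1, 2, 1, 4, 0, 3, 2, 1, 4, 0, 1, 2, 4, 3, 4, 3, 2, 3, 2, 3] [.done 4], .sub [3, 5, 4, 6, 2, 3, 5, 1, 5, 6, 2, 4, 3, 4, 2, 5, 1, 3, 4, 6, 2, 0, 3, 1, 2, 3, 0, 1, 2, 3, 2, 1, 6, 2, 3, 2, 1, 2] [.done 9], .sub [2, 1, 0, 1, 2, 3, 2, 1, 0, 3, 2, 1, 3, 0, 2, 6, 3, 1, 4, 6, 2, 3, 4, 2, 1, 3, 0, 2, 6, 3, 2,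 1, 0, 6, 2, 3, 2, 1, 2] [.done 8]], .out 1736], .out 1587, .out 1736], .out 995, .sub [2, 0, 3, 1, 2, 1, 3, 6, 1, 0, 1, 2, 0, 4, 3, 4, 2, 5, 3, 6, 1, 6, 0, 1] [.out 149, .out 164, .out 1048, .out 614, .out 254, .out 1346], .out 1736], .sub [2, 3, 2, 1] [.out 149, .sub [] [.out 149, .out 254, .out 164, .sub [] [.out 149, .out 254, .out 164, .out 995, .out 1071, .out 1708], .out 1071, .out 1708], .out 164, .out 995, .out 1071, .out 1708], .out 995, .sub [5, 6, 1, 2, 5, 3, 2, 3, 1, 6, 1, 5] [.out 149, .sub [2, 0, 3, 1, 2, 1, 3, 6, 1, 0, 1, 2, 0, 4, 3, 4, 2, 5, 3, 6, 1, 6, 0, 1] [.out 149, .out 254, .out 1163, .out 159, .out 164, .out 1174], .out 170, .out 219, .out 164, .sub [1, 2, 3, 2, 6, 3, 1, 2, 5, 0, 1, 0, 1, 6, 5,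 2, 3, 1, 6] [.out 149, .out 1000, .out 1399, .sub [3, 4, 6, 1, 2, 3, 2, 1, 4, 3, 6, 3, 5, 1, 2, 4, 3, 2, 4, 1, 5, 3] [.out 149, .sub [1, 2, 3, 2, 4, 3, 0, 1, 0, 2, 1, 3, 4, 0, 6, 2, 3, 1, 6, 2] [.sub [] [.out 629], .sub [2, 1, 0, 6, 2, 3, 2, 1, 2] [.out 629], .sub [2, 3, 2, 0, 1, 0, 1, 4, 0, 1, 3, 2, 1, 3, 4, 0] [.out 69], .sub [2, 3, 2, 0, 1, 0, 1, 4, 0, 1, 3, 2, 1, 3, 4, 0, 2, 1, 0, 6, 2, 3, 2, 1, 2] [.out 69], .sub [2, 6, 1, 3, 2, 6, 1, 2, 3, 2, 4, 3, 0, 1, 0, 2, 1, 3, 4, 0] [.out 69], .sub [1, 4, 0, 3, 2, 1, 4, 0, 1, 2, 4, 3, 4, 3, 2, 3, 2, 3] [.out 705], .sub [2, 6, 1, 3, 2, 6, 1, 2, 3, 2, 4, 3, 0, 1, 0, 2, 1, 3, 4, 0, 2, 1, 0, 6, 2, 3, 2, 1, 2] [.out 69], .sub [1, 4, 0, 3, 2, 1, 4, 0, 1, 2, 4, 3, 4, 3, 2, 3, 2,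 3, 2, 1, 0, 6, 2, 3, 2, 1, 2] [.out 705], .sub [2, 3, 2, 0, 1, 0, 1, 4, 0, 1, 3, 2, 1, 3, 4, 0, 2, 6, 1, 3, 2, 6, 1, 2, 3, 2, 4, 3, 0, 1, 0, 2, 1, 3, 4, 0] [.out 705], .sub [2, 1, 0, 6, 2, 3, 2, 1, 2, 1, 4, 0, 3, 2, 1, 4, 0, 1, 2, 4, 3, 4, 3, 2, 3, 2, 3] [.out 705], .sub [3, 5, 4, 6, 2, 3, 5, 1, 5, 6, 2, 4, 3, 4, 2, 5, 1, 3, 4, 6, 2, 0, 3, 1, 2, 3, 0, 1, 2, 3, 2, 1, 6, 2, 3, 2, 1, 2] [.out 705], .sub [2, 1, 0, 1, 2, 3, 2, 1, 0, 3, 2, 1, 3, 0, 2, 6, 3, 1, 4, 6, 2, 3, 4, 2, 1, 3, 0, 2, 6, 3, 2, 1, 0, 6, 2, 3, 2, 1, 2] [.out 69]], .out 191, .out 995, .out 164, .out 254], .out 164, .out 254]], .sub [6, 5, 1, 2, 1, 5, 3, 2, 3, 6, 1, 6, 5] [.out 149, .out 24, .out 692, .out 219, .sub [1, 2, 3, 2, 6, 3, 1, 2, 5, 0, 1, 0, 1,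 6, 5, 2, 3, 1, 6] [.out 149, .out 1474, .out 1127, .sub [3, 4, 6, 1, 2, 3, 2, 1, 4, 3, 6, 3, 5, 1, 2, 4, 3, 2, 4, 1, 5, 3] [.out 149, .out 1346, .out 1405, .out 995, .out 254, .out 164], .out 254, .out 164], .out 164]],
  .sub [5, 6, 1, 4, 3, 6] [.sub [3, 1, 2, 1, 5, 0, 1, 0, 5] [.out 164, .out 149, .sub [6, 0, 1, 3, 2, 0, 1, 3, 2, 6, 4, 3, 5, 6, 1, 2, 3, 1, 0, 5, 1, 6, 1, 2, 4, 3, 2, 3, 1, 6, 0, 4, 2] [.out 164, .out 149, .out 254, .out 1547, .out 1048, .out 237], .out 315, .sub [0, 1, 0, 6, 2, 1, 0, 1, 3, 2, 0, 5, 1, 2, 3, 4, 3, 2, 3, 1, 5, 2, 3] [.out 164, .out 149, .out 1381, .out 1225, .out 254, .sub [0, 1, 5, 6, 1, 2, 3, 2, 1, 0, 5, 4, 6, 1, 6, 2, 1, 0, 5, 4, 3, 2, 5, 1, 6, 5] [.out 164, .out 149, .sub [] [.sub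 [] [.out 705], .sub [2, 1, 0, 6, 2, 3, 2, 1, 2] [.out 705], .sub [2, 3, 2, 0, 1, 0, 1, 4, 0, 1, 3, 2, 1, 3, 4, 0] [.out 629], .sub [2, 3, 2, 0, 1, 0, 1, 4, 0, 1, 3, 2, 1, 3, 4, 0, 2, 1, 0, 6, 2, 3, 2, 1, 2] [.out 629], .sub [2, 6, 1, 3, 2, 6, 1, 2, 3, 2, 4, 3, 0, 1, 0, 2, 1, 3, 4, 0] [.out 629], .sub [1, 4, 0, 3, 2, 1, 4, 0, 1, 2, 4, 3, 4, 3, 2, 3, 2, 3] [.out 69], .sub [2, 6, 1, 3, 2, 6, 1, 2, 3, 2, 4, 3, 0, 1, 0, 2, 1, 3, 4, 0, 2, 1, 0, 6, 2, 3, 2, 1, 2] [.out 629], .sub [1, 4, 0, 3, 2, 1, 4, 0, 1, 2, 4, 3, 4, 3, 2, 3, 2, 3, 2, 1, 0, 6, 2, 3, 2, 1, 2] [.out 69], .sub [2, 3, 2, 0, 1, 0, 1, 4, 0, 1, 3, 2, 1, 3, 4, 0, 2, 6, 1, 3, 2, 6, 1, 2, 3, 2, 4, 3, 0, 1, 0, 2, 1, 3, 4, 0] [.out 69], .sub [2, 1, 0, 6, 2, 3, 2, 1, 2,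 1, 4, 0, 3, 2, 1, 4, 0, 1, 2, 4, 3, 4, 3, 2, 3, 2, 3] [.out 69], .sub [3, 5, 4, 6, 2, 3, 5, 1, 5, 6, 2, 4, 3, 4, 2, 5, 1, 3, 4, 6, 2, 0, 3, 1, 2, 3, 0, 1, 2, 3, 2, 1, 6, 2, 3, 2, 1, 2] [.out 69], .sub [2, 1, 0, 1, 2, 3, 2, 1, 0, 3, 2, 1, 3, 0, 2, 6, 3, 1, 4, 6, 2, 3, 4, 2, 1, 3, 0, 2, 6, 3, 2, 1, 0, 6, 2, 3, 2, 1, 2] [.out 629]], .out 1736, .out 254, .out 995]], .out 706], .out 149, .sub [2, 3, 2, 1, 3, 6, 1, 0, 4, 6, 2, 3, 2, 4, 1, 0, 6, 1, 6] [.sub [6, 2, 0, 1, 3, 2, 4, 3, 4, 2, 1, 5, 1, 5, 2, 3, 6, 2, 1, 6, 0, 5] [.out 254, .out 149, .out 164, .out 1354, .out 1041, .out 863], .out 149, .out 164, .sub [6, 3, 5, 1, 2, 1, 6, 5, 0, 4, 3, 2, 3, 1, 0, 2, 3, 1, 2, 3, 4, 3, 6] [.out 1152, .out 149, .out 164, .out 254, .out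 495, .sub [] [.sub [0, 1, 3, 2, 3, 2, 1, 0, 3, 6, 1, 2, 1, 6, 4, 3, 1, 2, 4, 1, 6, 3] [.sub [] [.done 12], .sub [2, 1, 0, 6, 2, 3, 2, 1, 2] [.done 20], .sub [2, 3, 2, 0, 1, 0, 1, 4, 0, 1, 3, 2, 1, 3, 4, 0] [.done 23], .sub [2, 3, 2, 0, 1, 0, 1, 4, 0, 1, 3, 2, 1, 3, 4, 0, 2, 1, 0, 6, 2, 3, 2, 1, 2] [.done 13], .sub [2, 6, 1, 3, 2, 6, 1, 2, 3, 2, 4, 3, 0, 1, 0, 2, 1, 3, 4, 0] [.done 14], .sub [1, 4, 0, 3, 2, 1, 4, 0, 1, 2, 4, 3, 4, 3, 2, 3, 2, 3] [.done 18], .sub [2, 6, 1, 3, 2, 6, 1, 2, 3, 2, 4, 3, 0, 1, 0, 2, 1, 3, 4, 0, 2, 1, 0, 6, 2, 3, 2, 1, 2] [.done 22], .sub [1, 4, 0, 3, 2, 1, 4, 0, 1, 2, 4, 3, 4, 3, 2, 3, 2, 3, 2, 1, 0, 6, 2, 3, 2, 1, 2] [.done 17], .sub [2, 3, 2, 0, 1, 0, 1, 4, 0, 1, 3, 2, 1, 3, 4, 0, 2, 6, 1,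 3, 2, 6, 1, 2, 3, 2, 4, 3, 0, 1, 0, 2, 1, 3, 4, 0] [.done 16], .sub [2, 1, 0, 6, 2, 3, 2, 1, 2, 1, 4, 0, 3, 2, 1, 4, 0, 1, 2, 4, 3, 4, 3, 2, 3, 2, 3] [.done 15], .sub [3, 5, 4, 6, 2, 3, 5, 1, 5, 6, 2, 4, 3, 4, 2, 5, 1, 3, 4, 6, 2, 0, 3, 1, 2, 3, 0, 1, 2, 3, 2, 1, 6, 2, 3, 2, 1, 2] [.done 19], .sub [2, 1, 0, 1, 2, 3, 2, 1, 0, 3, 2, 1, 3, 0, 2, 6, 3, 1, 4, 6, 2, 3, 4, 2, 1, 3, 0, 2, 6, 3, 2, 1, 0, 6, 2, 3, 2, 1, 2] [.done 21]], .out 149, .out 164, .out 254, .out 495, .out 995]], .out 1273, .out 318], .sub [3, 1, 2, 3, 0, 3, 6, 1, 4, 2, 3, 2, 5, 4, 6, 1, 0, 1, 6] [.out 315, .out 149, .sub [6, 0, 1, 3, 2, 0, 1, 3, 2, 6, 4, 3, 5, 6, 1, 2, 3, 1, 0, 5, 1, 6, 1, 2, 4, 3, 2, 3, 1, 6, 0, 4, 2] [.out 1547, .out 149, .out 254, .out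 164, .out 1411, .sub [1, 0, 1, 2, 3, 0, 2, 1, 5, 0, 4, 1, 2, 5, 3, 2, 1, 4, 2, 3, 5] [.out 1041, .out 149, .out 254, .out 164, .out 302, .out 995]], .out 164, .out 194, .out 1353], .sub [3, 1, 2, 3, 1, 0, 1, 2, 0, 1, 0, 3] [.sub [0, 1, 0, 6, 2, 1, 0, 1, 3, 2, 0, 5, 1, 2, 3, 4, 3, 2, 3, 1, 5, 2, 3] [.out 254, .out 149, .out 1106, .out 690, .out 164, .sub [5, 0, 1, 0, 5, 1, 2, 1, 6, 1, 2, 4, 3, 4, 2, 1, 0, 2, 5, 2, 6, 0, 1, 5, 0] [.out 254, .out 149, .out 1652, .out 137, .out 164, .out 995]], .out 149, .out 276, .out 200, .out 164, .out 1059], .out 1748],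
  .sub [6, 1, 5, 1, 4, 3] [.sub [6, 0, 1, 6, 0, 3] [.out 164, .sub [6, 0, 1, 3, 2, 0, 1, 3, 2, 6, 4, 3, 5, 6, 1, 2, 3, 1, 0, 5, 1, 6, 1, 2, 4, 3, 2, 3, 1, 6, 0, 4, 2] [.out 164, .out 254, .out 149, .out 1533, .sub [1, 0, 1, 2, 3, 0, 2, 1, 5, 0, 4, 1, 2, 5, 3, 2, 1, 4, 2, 3, 5] [.out 164, .out 254, .out 149, .out 1055, .out 995, .out 719], .out 1695], .out 149, .out 689, .out 1353, .out 1724], .sub [2, 0, 3, 5, 1, 2, 3, 1, 4, 3, 2, 5, 6, 1, 0, 1, 5] [.sub [0, 1, 2, 0, 5, 1, 2, 3, 1, 0, 5, 1, 2, 3, 4, 6, 3, 2, 3, 4, 1, 0, 1, 4, 5] [.out 254, .out 164, .out 149, .out 1152, .sub [0, 2, 4, 3, 2, 6, 1, 5, 6, 1, 2, 3, 5, 2, 6, 4] [.out 254, .out 164, .out 149, .sub [2, 1, 0, 1, 2] [.sub [] [.out 705], .sub [2, 1, 0, 6, 2, 3,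 2, 1, 2] [.out 705], .sub [2, 3, 2, 0, 1, 0, 1, 4, 0, 1, 3, 2, 1, 3, 4, 0] [.out 629], .sub [2, 3, 2, 0, 1, 0, 1, 4, 0, 1, 3, 2, 1, 3, 4, 0, 2, 1, 0, 6, 2, 3, 2, 1, 2] [.out 629], .sub [2, 6, 1, 3, 2, 6, 1, 2, 3, 2, 4, 3, 0, 1, 0, 2, 1, 3, 4, 0] [.out 629], .sub [1, 4, 0, 3, 2, 1, 4, 0, 1, 2, 4, 3, 4, 3, 2, 3, 2, 3] [.out 69], .sub [2, 6, 1, 3, 2, 6, 1, 2, 3, 2, 4, 3, 0, 1, 0, 2, 1, 3, 4, 0, 2, 1, 0, 6, 2, 3, 2, 1, 2] [.out 629], .sub [1, 4, 0, 3, 2, 1, 4, 0, 1, 2, 4, 3, 4, 3, 2, 3, 2, 3, 2, 1, 0, 6, 2, 3, 2, 1, 2] [.out 69], .sub [2, 3, 2, 0, 1, 0, 1, 4, 0, 1, 3, 2, 1, 3, 4, 0, 2, 6, 1, 3, 2, 6, 1, 2, 3, 2, 4, 3, 0, 1, 0, 2, 1, 3, 4, 0] [.out 69], .sub [2, 1, 0, 6, 2, 3, 2, 1, 2, 1, 4, 0, 3, 2, 1, 4, 0, 1, 2, 4, 3, 4,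 3, 2, 3, 2, 3] [.out 69], .sub [3, 5, 4, 6, 2, 3, 5, 1, 5, 6, 2, 4, 3, 4, 2, 5, 1, 3, 4, 6, 2, 0, 3, 1, 2, 3, 0, 1, 2, 3, 2, 1, 6, 2, 3, 2, 1, 2] [.out 69], .sub [2, 1, 0, 1, 2, 3, 2, 1, 0, 3, 2, 1, 3, 0, 2, 6, 3, 1, 4, 6, 2, 3, 4, 2, 1, 3, 0, 2, 6, 3, 2, 1, 0, 6, 2, 3, 2, 1, 2] [.out 629]], .out 995, .out 1523], .out 945], .out 164, .out 149, .sub [5, 1, 6, 5, 1, 2, 3, 1, 6, 5, 0, 2, 4, 6, 3, 2, 1, 5, 6, 1, 2, 5, 3, 6, 0, 4] [.out 1678, .out 164, .out 149, .out 254, .out 1427, .out 1745], .out 426, .out 1389], .out 149, .sub [2, 0, 4, 1, 6, 0, 1, 5, 2, 3, 2, 1, 0, 1, 6, 4] [.out 916, .sub [2, 1, 0, 1, 0, 3, 1, 2, 1, 3, 6, 1, 0, 1, 2, 0, 4, 3, 4, 2, 5, 3, 6, 1, 6, 0, 1] [.out 1055, .out 254, .out 149, .out 164, .out 1173,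 .out 1365], .out 149, .out 164, .out 1314, .sub [0, 1, 2, 0, 5, 1, 2, 6, 3, 4, 1, 2, 5, 3, 2, 0, 4, 1, 6, 5, 3, 1] [.out 871, .out 1391, .out 149, .out 164, .sub [5, 0, 1, 0, 5, 1, 2, 1, 6, 1, 2, 4, 3, 4, 2, 1, 0, 2, 5, 2, 6, 0, 1, 5, 0] [.out 1070, .sub [4, 2, 3, 1, 2, 0, 1, 3, 2, 4] [.sub [] [.done 34], .sub [2, 1, 0, 6, 2, 3, 2, 1, 2] [.done 35], .sub [2, 3, 2, 0, 1, 0, 1, 4, 0, 1, 3, 2, 1, 3, 4, 0] [.done 28], .sub [2, 3, 2, 0, 1, 0, 1, 4, 0, 1, 3, 2, 1, 3, 4, 0, 2, 1, 0, 6, 2, 3, 2, 1, 2] [.done 29], .sub [2, 6, 1, 3, 2, 6, 1, 2, 3, 2, 4, 3, 0, 1, 0, 2, 1, 3, 4, 0] [.done 27], .sub [1, 4, 0, 3, 2, 1, 4, 0, 1, 2, 4, 3, 4, 3, 2, 3, 2, 3] [.done 24], .sub [2, 6, 1, 3, 2, 6, 1, 2, 3, 2, 4, 3, 0, 1, 0, 2, 1, 3, 4, 0,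 2, 1, 0, 6, 2, 3, 2, 1, 2] [.done 30], .sub [1, 4, 0, 3, 2, 1, 4, 0, 1, 2, 4, 3, 4, 3, 2, 3, 2, 3, 2, 1, 0, 6, 2, 3, 2, 1, 2] [.done 33], .sub [2, 3, 2, 0, 1, 0, 1, 4, 0, 1, 3, 2, 1, 3, 4, 0, 2, 6, 1, 3, 2, 6, 1, 2, 3, 2, 4, 3, 0, 1, 0, 2, 1, 3, 4, 0] [.done 32], .sub [2, 1, 0, 6, 2, 3, 2, 1, 2, 1, 4, 0, 3, 2, 1, 4, 0, 1, 2, 4, 3, 4, 3, 2, 3, 2, 3] [.done 31], .sub [3, 5, 4, 6, 2, 3, 5, 1, 5, 6, 2, 4, 3, 4, 2, 5, 1, 3, 4, 6, 2, 0, 3, 1, 2, 3, 0, 1, 2, 3, 2, 1, 6, 2, 3, 2, 1, 2] [.done 26], .sub [2, 1, 0, 1, 2, 3, 2, 1, 0, 3, 2, 1, 3, 0, 2, 6, 3, 1, 4, 6, 2, 3, 4, 2, 1, 3, 0, 2, 6, 3, 2, 1, 0, 6, 2, 3, 2, 1, 2] [.done 25]], .out 149, .out 164, .out 995, .out 254], .out 254]], .out 1697, .sub [0, 1, 2, 6, 1, 0, 2, 5, 1,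 0, 3, 2, 1, 5, 3, 0] [.out 1712, .out 202, .out 149, .sub [6, 0, 1, 3, 2, 0, 1, 3, 2, 6, 4, 3, 5, 6, 1, 2, 3, 1, 0, 5, 1, 6, 1, 2, 4, 3, 2, 3, 1, 6, 0, 4, 2] [.out 1424, .out 1474, .out 149, .out 254, .sub [0, 1, 2, 0, 5, 1, 2, 0, 3, 2, 4, 0, 3, 2, 5, 1, 6, 5, 6, 3, 1, 2, 3, 4, 3] [.out 302, .out 1041, .out 149, .out 254, .out 995, .out 164], .out 164], .out 1138, .out 164]],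
  .sub [5, 1, 2, 0, 3, 2, 1, 2, 5, 3] [.out 279, .sub [5, 1, 2, 0, 1, 3, 0, 2, 1, 5] [.out 995, .out 164, .sub [] [.sub [] [.out 995, .out 164, .out 254, .out 149, .out 1419, .out 1163], .out 164, .out 254, .out 149, .out 1419, .out 1163], .out 149, .out 1419, .out 1163], .sub [5, 1, 0, 2, 1, 5, 0, 1, 3, 5] [.out 317, .sub [] [.sub [2, 1, 3, 5, 1, 2] [.out 995, .out 254, .out 164, .out 149, .out 1556, .sub [4, 2, 3, 1, 2, 3, 1, 2, 4] [.sub [] [.out 69], .sub [2, 1, 0, 6, 2, 3, 2, 1, 2] [.out 69], .sub [2, 3, 2, 0, 1, 0, 1, 4, 0, 1, 3, 2, 1, 3, 4, 0] [.out 705], .sub [2, 3, 2, 0, 1, 0, 1, 4, 0, 1, 3, 2, 1, 3, 4, 0, 2, 1, 0, 6, 2, 3, 2, 1, 2] [.out 705], .sub [2, 6, 1, 3, 2, 6, 1, 2, 3, 2, 4, 3, 0, 1, 0, 2, 1, 3, 4, 0]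 [.out 705], .sub [1, 4, 0, 3, 2, 1, 4, 0, 1, 2, 4, 3, 4, 3, 2, 3, 2, 3] [.out 629], .sub [2, 6, 1, 3, 2, 6, 1, 2, 3, 2, 4, 3, 0, 1, 0, 2, 1, 3, 4, 0, 2, 1, 0, 6, 2, 3, 2, 1, 2] [.out 705], .sub [1, 4, 0, 3, 2, 1, 4, 0, 1, 2, 4, 3, 4, 3, 2, 3, 2, 3, 2, 1, 0, 6, 2, 3, 2, 1, 2] [.out 629], .sub [2, 3, 2, 0, 1, 0, 1, 4, 0, 1, 3, 2, 1, 3, 4, 0, 2, 6, 1, 3, 2, 6, 1, 2, 3, 2, 4, 3, 0, 1, 0, 2, 1, 3, 4, 0] [.out 629], .sub [2, 1, 0, 6, 2, 3, 2, 1, 2, 1, 4, 0, 3, 2, 1, 4, 0, 1, 2, 4, 3, 4, 3, 2, 3, 2, 3] [.out 629], .sub [3, 5, 4, 6, 2, 3, 5, 1, 5, 6, 2, 4, 3, 4, 2, 5, 1, 3, 4, 6, 2, 0, 3, 1, 2, 3, 0, 1, 2, 3, 2, 1, 6, 2, 3, 2, 1, 2] [.out 629], .sub [2, 1, 0, 1, 2, 3, 2, 1, 0, 3, 2, 1, 3, 0, 2, 6, 3, 1, 4, 6, 2, 3, 4, 2, 1, 3,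 0, 2, 6, 3, 2, 1, 0, 6, 2, 3, 2, 1, 2] [.out 705]]], .out 254, .out 164, .out 149, .out 170, .out 1587], .out 164, .out 149, .out 170, .sub [2, 0, 3, 1, 2, 1, 3, 6, 1, 0, 1, 2, 0, 4, 3, 4, 2, 5, 3, 6, 1, 6, 0, 1] [.out 1507, .out 1048, .out 164, .out 149, .out 1163, .out 254]], .out 149, .sub [2, 0, 1, 5, 0, 4, 1, 2, 5, 3, 2, 1, 6, 5, 6, 1, 4] [.out 684, .out 1686, .out 1186, .out 149, .out 164, .sub [2, 1, 0, 1, 2, 5, 0, 3, 1, 5, 2, 6, 3, 4, 1, 6, 2, 3, 4, 1, 2, 1, 3, 2, 1, 6, 0] [.sub [3, 4, 6, 1, 2, 3, 2, 1, 4, 3, 6, 3, 5, 1, 2, 4, 3, 2, 4, 1, 5, 3] [.out 995, .out 1230, .out 1745, .out 149, .out 164, .out 254], .out 1229, .out 1554, .out 149, .out 164, .out 254]], .sub [6, 0, 1, 3, 2, 3, 6, 2, 1, 2, 3] [.out 215,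 .out 643, .sub [0, 1, 2, 1, 3, 2, 3, 2, 5, 1, 4, 3, 2, 3, 2, 3, 4, 5, 3, 6, 1, 0, 1, 5] [.out 34, .out 1533, .out 254, .out 149, .out 1434, .out 164], .out 149, .sub [1, 2, 3, 2, 6, 3, 1, 2, 5, 0, 1, 0, 1, 6, 5, 2, 3, 1, 6] [.sub [0, 1, 5, 6, 1, 2, 3, 2, 1, 0, 5, 4, 6, 1, 6, 2, 1, 0, 5, 4, 3, 2, 5, 1, 6, 5] [.out 995, .out 1559, .sub [4, 2, 3, 1, 4, 2, 3, 4, 6, 0, 1, 2] [.sub [] [.done 44], .sub [2, 1, 0, 6, 2, 3, 2, 1, 2] [.done 45], .sub [2, 3, 2, 0, 1, 0, 1, 4, 0, 1, 3, 2, 1, 3, 4, 0] [.done 46], .sub [2, 3, 2, 0, 1, 0, 1, 4, 0, 1, 3, 2, 1, 3, 4, 0, 2, 1, 0, 6, 2, 3, 2, 1, 2] [.done 37], .sub [2, 6, 1, 3, 2, 6, 1, 2, 3, 2, 4, 3, 0, 1, 0, 2, 1, 3, 4, 0] [.done 47], .sub [1, 4, 0, 3, 2, 1, 4, 0, 1, 2, 4, 3, 4, 3, 2,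 3, 2, 3] [.done 42], .sub [2, 6, 1, 3, 2, 6, 1, 2, 3, 2, 4, 3, 0, 1, 0, 2, 1, 3, 4, 0, 2, 1, 0, 6, 2, 3, 2, 1, 2] [.done 38], .sub [1, 4, 0, 3, 2, 1, 4, 0, 1, 2, 4, 3, 4, 3, 2, 3, 2, 3, 2, 1, 0, 6, 2, 3, 2, 1, 2] [.done 40], .sub [2, 3, 2, 0, 1, 0, 1, 4, 0, 1, 3, 2, 1, 3, 4, 0, 2, 6, 1, 3, 2, 6, 1, 2, 3, 2, 4, 3, 0, 1, 0, 2, 1, 3, 4, 0] [.done 39], .sub [2, 1, 0, 6, 2, 3, 2, 1, 2, 1, 4, 0, 3, 2, 1, 4, 0, 1, 2, 4, 3, 4, 3, 2, 3, 2, 3] [.done 41], .sub [3, 5, 4, 6, 2, 3, 5, 1, 5, 6, 2, 4, 3, 4, 2, 5, 1, 3, 4, 6, 2, 0, 3, 1, 2, 3, 0, 1, 2, 3, 2, 1, 6, 2, 3, 2, 1, 2] [.done 43], .sub [2, 1, 0, 1, 2, 3, 2, 1, 0, 3, 2, 1, 3, 0, 2, 6, 3, 1, 4, 6, 2, 3, 4, 2, 1, 3, 0, 2, 6, 3, 2, 1, 0, 6, 2, 3, 2, 1, 2] [.done 36]], .out 149,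 .out 254, .out 164], .out 909, .out 1678, .out 149, .out 254, .out 164], .out 164]],
  .sub [3, 5, 6, 1, 2, 5, 3, 4, 1] [.sub [1, 0, 1, 0, 2, 1, 5, 1, 0] [.out 164, .sub [0, 1, 0, 6, 2, 1, 0, 1, 3, 2, 0, 5, 1, 2, 3, 4, 3, 2, 3, 1, 5, 2, 3] [.out 164, .out 254, .sub [3, 0, 6, 1, 0, 6, 3, 5, 1, 0, 2, 4, 3, 1, 2, 6, 1, 5, 6, 2, 1, 5, 0, 4, 1] [.out 164, .out 254, .out 995, .out 386, .out 149, .sub [2, 6, 1, 3, 2, 6, 1, 2, 3, 2, 4, 3, 0, 1, 0, 2, 1, 3, 4, 0, 6, 2, 3, 1, 6, 2] [.sub [] [.done 50], .sub [2, 1, 0, 6, 2, 3, 2, 1, 2] [.done 58], .sub [2, 3, 2, 0, 1, 0, 1, 4, 0, 1, 3, 2, 1, 3, 4, 0] [.done 51], .sub [2, 3, 2, 0, 1, 0, 1, 4, 0, 1, 3, 2, 1, 3, 4, 0, 2, 1, 0, 6, 2, 3, 2, 1, 2] [.done 52], .sub [2, 6, 1, 3, 2, 6, 1,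 2, 3, 2, 4, 3, 0, 1, 0, 2, 1, 3, 4, 0] [.done 53], .sub [1, 4, 0, 3, 2, 1, 4, 0, 1, 2, 4, 3, 4, 3, 2, 3, 2, 3] [.done 56], .sub [2, 6, 1, 3, 2, 6, 1, 2, 3, 2, 4, 3, 0, 1, 0, 2, 1, 3, 4, 0, 2, 1, 0, 6, 2, 3, 2, 1, 2] [.done 54], .sub [1, 4, 0, 3, 2, 1, 4, 0, 1, 2, 4, 3, 4, 3, 2, 3, 2, 3, 2, 1, 0, 6, 2, 3, 2, 1, 2] [.done 48], .sub [2, 3, 2, 0, 1, 0, 1, 4, 0, 1, 3, 2, 1, 3, 4, 0, 2, 6, 1, 3, 2, 6, 1, 2, 3, 2, 4, 3, 0, 1, 0, 2, 1, 3, 4, 0] [.done 57], .sub [2, 1, 0, 6, 2, 3, 2, 1, 2, 1, 4, 0, 3, 2, 1, 4, 0, 1, 2, 4, 3, 4, 3, 2, 3, 2, 3] [.done 55], .sub [3, 5, 4, 6, 2, 3, 5, 1, 5, 6, 2, 4, 3, 4, 2, 5, 1, 3, 4, 6, 2, 0, 3, 1, 2, 3, 0, 1, 2, 3, 2, 1, 6, 2, 3, 2, 1, 2] [.done 59], .sub [2, 1, 0, 1, 2, 3, 2, 1, 0, 3, 2, 1, 3,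 0, 2, 6, 3, 1, 4, 6, 2, 3, 4, 2, 1, 3, 0, 2, 6, 3, 2, 1, 0, 6, 2, 3, 2, 1, 2] [.done 49]]], .out 643, .out 149, .out 1354], .out 1594, .out 412, .out 149, .sub [1, 2, 3, 2, 6, 3, 1, 2, 5, 0, 1, 0, 1, 6, 5, 2, 3, 1, 6] [.out 164, .out 1174, .out 613, .out 1745, .out 149, .out 254]], .sub [2, 0, 3, 1, 0, 2, 1, 0, 3, 1] [.sub [0, 1, 6, 5, 1, 2, 6, 0, 1, 3, 2, 1, 0, 1, 2, 0, 4, 3, 0, 2, 5, 4, 1, 0, 6, 1] [.out 254, .out 164, .sub [0, 2, 4, 3, 1, 2, 0, 1, 5, 6, 1, 2, 0, 3, 1, 4, 0, 2] [.out 254, .out 164, .out 995, .out 1405, .out 149, .out 1346], .out 441, .out 149, .out 1533], .out 164, .out 1114, .out 1465, .out 149, .out 1225], .out 904, .sub [3, 5, 6, 1, 0, 2, 1, 6, 2, 5, 1] [.out 1630, .out 1753, .out 1121, .out 164,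 .out 149, .sub [5, 1, 6, 5, 1, 2, 3, 1, 6, 5, 0, 2, 4, 6, 3, 2, 1, 5, 6, 1, 2, 5, 3, 6, 0, 4] [.out 1474, .out 651, .sub [0, 2, 4, 3, 1, 2, 0, 1, 5, 6, 1, 2, 0, 3, 1, 4, 0, 2] [.out 1429, .out 1722, .out 995, .out 164, .out 149, .out 254], .out 164, .out 149, .out 254]], .out 149, .sub [0, 3, 1, 2, 6, 3, 1, 0, 2, 1, 5, 2, 1, 0] [.sub [1, 2, 3, 2, 6, 3, 1, 2, 5, 0, 1, 0, 1, 6, 5, 2, 3, 1, 6] [.out 254, .out 1740, .out 351, .out 1729, .out 149, .out 164], .out 552, .out 1281, .sub [0, 1, 2, 0, 5, 1, 2, 6, 3, 4, 1, 2, 5, 3, 2, 0, 4, 1, 6, 5, 3, 1] [.out 1729, .out 951, .sub [5, 1, 2, 3, 4, 2, 3, 2, 5, 1, 4, 3, 5, 3, 6, 1, 2, 3, 2, 4, 3, 0, 6, 2, 1, 3, 6] [.sub [] [.sub [] [.out 705], .sub [2, 1, 0, 6, 2, 3, 2, 1, 2] [.out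 705], .sub [2, 3, 2, 0, 1, 0, 1, 4, 0, 1, 3, 2, 1, 3, 4, 0] [.out 629], .sub [2, 3, 2, 0, 1, 0, 1, 4, 0, 1, 3, 2, 1, 3, 4, 0, 2, 1, 0, 6, 2, 3, 2, 1, 2] [.out 629], .sub [2, 6, 1, 3, 2, 6, 1, 2, 3, 2, 4, 3, 0, 1, 0, 2, 1, 3, 4, 0] [.out 629], .sub [1, 4, 0, 3, 2, 1, 4, 0, 1, 2, 4, 3, 4, 3, 2, 3, 2, 3] [.out 69], .sub [2, 6, 1, 3, 2, 6, 1, 2, 3, 2, 4, 3, 0, 1, 0, 2, 1, 3, 4, 0, 2, 1, 0, 6, 2, 3, 2, 1, 2] [.out 629], .sub [1, 4, 0, 3, 2, 1, 4, 0, 1, 2, 4, 3, 4, 3, 2, 3, 2, 3, 2, 1, 0, 6, 2, 3, 2, 1, 2] [.out 69], .sub [2, 3, 2, 0, 1, 0, 1, 4, 0, 1, 3, 2, 1, 3, 4, 0, 2, 6, 1, 3, 2, 6, 1, 2, 3, 2, 4, 3, 0, 1, 0, 2, 1, 3, 4, 0] [.out 69], .sub [2, 1, 0, 6, 2, 3, 2, 1, 2, 1, 4, 0, 3, 2, 1, 4, 0, 1, 2, 4, 3, 4, 3, 2, 3, 2, 3]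 [.out 69], .sub [3, 5, 4, 6, 2, 3, 5, 1, 5, 6, 2, 4, 3, 4, 2, 5, 1, 3, 4, 6, 2, 0, 3, 1, 2, 3, 0, 1, 2, 3, 2, 1, 6, 2, 3, 2, 1, 2] [.out 69], .sub [2, 1, 0, 1, 2, 3, 2, 1, 0, 3, 2, 1, 3, 0, 2, 6, 3, 1, 4, 6, 2, 3, 4, 2, 1, 3, 0, 2, 6, 3, 2, 1, 0, 6, 2, 3, 2, 1, 2] [.out 629]], .out 1736, .out 995, .out 254, .out 149, .out 164], .out 254, .out 149, .out 164], .out 149, .out 164]],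
  .sub [6, 2, 3, 5, 1, 5, 2, 3, 1, 4] [.sub [1, 0, 1, 0, 2, 1, 5, 1, 0] [.out 164, .out 111, .out 1222, .out 412, .sub [1, 2, 3, 2, 6, 3, 1, 2, 5, 0, 1, 0, 1, 6, 5, 2, 3, 1, 6] [.out 164, .sub [] [.out 164, .out 995, .out 1230, .out 1745, .out 254, .out 149], .out 1230, .out 1745, .out 254, .out 149], .out 149], .out 15, .sub [3, 5, 6, 1, 6, 2, 0, 1, 2, 6, 5] [.out 1701, .out 4, .out 164, .sub [] [.out 1701, .sub [0, 1, 5, 6, 1, 2, 3, 2, 1, 0, 5, 4, 6, 1, 6, 2, 1, 0, 5, 4, 3, 2, 5, 1, 6, 5] [.out 1675, .out 995, .out 164, .out 254, .out 700, .out 149], .out 164, .out 254, .out 1474, .out 149], .out 1474, .out 149], .sub [3, 5, 6, 1, 0, 2, 1, 6, 2, 5, 1] [.out 1630, .out 4, .sub [] [.out 1630, .sub [0, 1, 5, 6, 1, 2, 3,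 2, 1, 0, 5, 4, 6, 1, 6, 2, 1, 0, 5, 4, 3, 2, 5, 1, 6, 5] [.out 1052, .out 995, .out 254, .out 164, .sub [4, 2, 3, 1, 4, 2, 3, 4, 6, 1, 2] [.sub [] [.out 69], .sub [2, 1, 0, 6, 2, 3, 2, 1, 2] [.out 69], .sub [2, 3, 2, 0, 1, 0, 1, 4, 0, 1, 3, 2, 1, 3, 4, 0] [.out 705], .sub [2, 3, 2, 0, 1, 0, 1, 4, 0, 1, 3, 2, 1, 3, 4, 0, 2, 1, 0, 6, 2, 3, 2, 1, 2] [.out 705], .sub [2, 6, 1, 3, 2, 6, 1, 2, 3, 2, 4, 3, 0, 1, 0, 2, 1, 3, 4, 0] [.out 705], .sub [1, 4, 0, 3, 2, 1, 4, 0, 1, 2, 4, 3, 4, 3, 2, 3, 2, 3] [.out 629], .sub [2, 6, 1, 3, 2, 6, 1, 2, 3, 2, 4, 3, 0, 1, 0, 2, 1, 3, 4, 0, 2, 1, 0, 6, 2, 3, 2, 1, 2] [.out 705], .sub [1, 4, 0, 3, 2, 1, 4, 0, 1, 2, 4, 3, 4, 3, 2, 3, 2, 3, 2, 1, 0, 6, 2, 3, 2, 1, 2] [.out 629], .sub [2, 3,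 2, 0, 1, 0, 1, 4, 0, 1, 3, 2, 1, 3, 4, 0, 2, 6, 1, 3, 2, 6, 1, 2, 3, 2, 4, 3, 0, 1, 0, 2, 1, 3, 4, 0] [.out 629], .sub [2, 1, 0, 6, 2, 3, 2, 1, 2, 1, 4, 0, 3, 2, 1, 4, 0, 1, 2, 4, 3, 4, 3, 2, 3, 2, 3] [.out 629], .sub [3, 5, 4, 6, 2, 3, 5, 1, 5, 6, 2, 4, 3, 4, 2, 5, 1, 3, 4, 6, 2, 0, 3, 1, 2, 3, 0, 1, 2, 3, 2, 1, 6, 2, 3, 2, 1, 2] [.out 629], .sub [2, 1, 0, 1, 2, 3, 2, 1, 0, 3, 2, 1, 3, 0, 2, 6, 3, 1, 4, 6, 2, 3, 4, 2, 1, 3, 0, 2, 6, 3, 2, 1, 0, 6, 2, 3, 2, 1, 2] [.out 705]], .out 149], .out 254, .out 164, .out 1434, .out 149], .out 164, .sub [5, 1, 6, 5, 1, 2, 3, 1, 6, 5, 0, 2, 4, 6, 3, 2, 1, 5, 6, 1, 2, 5, 3, 6, 0, 4] [.out 1474, .out 678, .out 1000, .out 164, .out 254, .out 149], .out 149], .sub [0, 3, 1, 2, 6, 3,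 1, 0, 2, 1, 5, 2, 1, 0] [.sub [1, 2, 3, 2, 6, 3, 1, 2, 5, 0, 1, 0, 1, 6, 5, 2, 3, 1, 6] [.out 254, .sub [] [.out 254, .out 995, .out 1559, .sub [4, 2, 3, 1, 4, 2, 3, 4, 6, 0, 1, 2] [.sub [] [.done 60], .sub [2, 1, 0, 6, 2, 3, 2, 1, 2] [.done 68], .sub [2, 3, 2, 0, 1, 0, 1, 4, 0, 1, 3, 2, 1, 3, 4, 0] [.done 71], .sub [2, 3, 2, 0, 1, 0, 1, 4, 0, 1, 3, 2, 1, 3, 4, 0, 2, 1, 0, 6, 2, 3, 2, 1, 2] [.done 61], .sub [2, 6, 1, 3, 2, 6, 1, 2, 3, 2, 4, 3, 0, 1, 0, 2, 1, 3, 4, 0] [.done 62], .sub [1, 4, 0, 3, 2, 1, 4, 0, 1, 2, 4, 3, 4, 3, 2, 3, 2, 3] [.done 66], .sub [2, 6, 1, 3, 2, 6, 1, 2, 3, 2, 4, 3, 0, 1, 0, 2, 1, 3, 4, 0, 2, 1, 0, 6, 2, 3, 2, 1, 2] [.done 70], .sub [1, 4, 0, 3, 2, 1, 4, 0, 1, 2, 4, 3, 4, 3, 2, 3, 2, 3, 2, 1,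 0, 6, 2, 3, 2, 1, 2] [.done 65], .sub [2, 3, 2, 0, 1, 0, 1, 4, 0, 1, 3, 2, 1, 3, 4, 0, 2, 6, 1, 3, 2, 6, 1, 2, 3, 2, 4, 3, 0, 1, 0, 2, 1, 3, 4, 0] [.done 64], .sub [2, 1, 0, 6, 2, 3, 2, 1, 2, 1, 4, 0, 3, 2, 1, 4, 0, 1, 2, 4, 3, 4, 3, 2, 3, 2, 3] [.done 63], .sub [3, 5, 4, 6, 2, 3, 5, 1, 5, 6, 2, 4, 3, 4, 2, 5, 1, 3, 4, 6, 2, 0, 3, 1, 2, 3, 0, 1, 2, 3, 2, 1, 6, 2, 3, 2, 1, 2] [.done 67], .sub [2, 1, 0, 1, 2, 3, 2, 1, 0, 3, 2, 1, 3, 0, 2, 6, 3, 1, 4, 6, 2, 3, 4, 2, 1, 3, 0, 2, 6, 3, 2, 1, 0, 6, 2, 3, 2, 1, 2] [.done 69]], .out 164, .out 149], .out 1559, .out 1729, .out 164, .out 149], .out 111, .out 45, .sub [0, 1, 2, 0, 5, 1, 2, 6, 3, 4, 1, 2, 5, 3, 2, 0, 4, 1, 6, 5, 3, 1] [.out 1729, .out 351, .out 1740, .out 254, .out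 164, .out 149], .out 164, .out 149], .out 149]]

/-- All branches. -/
def kidsZ : List Branch := (kidsZPart0)

/-- The modes. -/
def modesZ : List Mode := [.fixd, .fixd, .fixd, .fixd, .fixd, .free, .det 5 1]

/-- The fixed points. -/
def fixZ : List ℕ := [149, 164, 254, 995, 1587, 1736]

end CfsgLib.Spor.SuzOut
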