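import Cfsg.Agent.Lib.Spor.ActCert.Out

/-!
The named elements.
-/

set_option autoImplicit false
set_option maxRecDepth 100000
set_option maxHeartbeats 0

namespace CfsgLib.Spor.SuzOut

open CfsgLib.Spor.TC CfsgLib.Spor.ActCert

/-- The element of prime order. -/
def xWord : List ℕ := [4, 6, 3, 2, 0, 1, 6, 2, 6]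

/-- The generators as words in the pair. -/
def gensWord : List (List ℕ) := [
    [0, 0, 0, 0, 0, 0, 1, 0, 0, 0, 1, 0, 1, 0, 0, 0, 1, 0, 1, 0, 0, 0, 0, 0, 1, 0, 0, 0, 0, 1, 0, 0, 0, 1, 0, 1, 0, 1, 0, 1, 0, 0, 1, 0, 0, 0, 1, 0, 0, 1, 0, 0, 1, 0, 0, 1, 0, 0, 1, 0, 0],
    [0, 0, 1, 0, 0, 1, 0, 1, 0, 0, 1, 0, 0, 0, 0, 1, 0, 0, 0, 1, 0, 0, 0, 0, 0, 1, 0, 0, 1, 0, 0, 1, 0, 1, 0, 0, 1, 0, 0, 0, 1, 0, 1, 0, 0, 1, 0, 0, 1, 0, 0, 0, 0, 0, 0, 0, 0, 1, 0, 0, 0],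
    [1, 0, 0, 0, 0, 0, 1, 0, 0, 1, 0, 1, 0, 1, 0, 0, 1, 0, 0, 0, 1, 0, 1, 0, 0, 1, 0, 1, 0, 1, 0, 0, 0, 0, 0, 0, 1, 0, 0, 1, 0, 0, 0, 0, 0, 0, 0, 0, 1, 0, 0, 1, 0, 1, 0, 0, 0],
    [0, 1, 0, 0, 1, 0, 0, 1, 0, 1, 0, 1, 0, 0, 1, 0, 0, 0, 0, 1, 0, 0, 0, 1, 0, 0, 0, 0, 1, 0, 0, 1, 0, 0, 0, 1, 0, 0, 0, 1, 0, 0, 1, 0, 0, 1, 0, 0, 1, 0, 1, 0, 1, 0, 0, 0, 1],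
    [1, 0, 0, 1, 0, 0, 0, 0, 1, 0, 0, 1, 0, 1, 0, 0, 1, 0, 0, 0, 0, 1, 0, 0, 0, 1, 0, 1, 0, 0, 0, 1, 0, 0, 0, 0, 0, 0, 0, 0, 0, 0, 0, 1, 0, 1, 0, 0, 1, 0, 0, 0, 0, 0, 1, 0, 1, 0, 0, 0, 0, 0, 1, 0],
    [0, 0, 0, 0, 1, 0, 0, 0, 0, 1, 0, 0, 1, 0, 1, 0, 0, 0, 1, 0, 1, 0, 0, 0, 1, 0, 0, 0, 1, 0, 1, 0, 0, 1, 0, 0, 1, 0, 1, 0, 0, 0, 1, 0, 0, 0, 0, 1, 0, 1, 0, 0, 0, 0, 1, 0, 0, 0, 0, 0, 1, 0, 0, 0, 0, 1],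
    [0, 0, 1, 0, 1, 0, 0, 1, 0, 0, 1, 0, 0, 0, 1, 0, 1, 0, 0, 0, 0, 0, 1, 0, 0, 0, 0, 1, 0, 0, 1, 0, 1, 0, 0, 0, 1, 0, 0, 1, 0, 0, 0, 0, 0, 1, 0, 0, 0, 1, 0, 0, 0, 0]]

/-- The generators as words in the images. -/
def gensTwoWord : List (List ℕ) := [
    [0, 0, 0, 1, 0, 0, 1, 0, 0, 1, 0, 1, 0, 1, 0, 0, 0, 1, 0, 0, 0, 1, 0, 0, 0, 1, 0, 0, 0, 1, 0, 0, 0, 1, 0, 1, 0, 1, 0, 0, 1, 0, 0, 1, 0, 0],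
    [1, 0, 0, 0, 0, 1, 0, 0, 0, 0, 1, 0, 1, 0, 0, 1, 0, 0, 0, 1, 0, 0, 0, 1, 0, 0, 0, 1, 0, 0, 0, 0, 0, 0, 1, 0, 1, 0, 0, 1, 0, 0, 0, 1, 0, 0, 0, 1, 0, 0, 0, 1, 0, 0, 1, 0, 0, 0, 0, 0, 0, 0, 0, 0, 1],
    [0, 0, 0, 0, 1, 0, 1, 0, 0, 1, 0, 1, 0, 1, 0, 0, 0, 1, 0, 0, 0, 0, 0, 1, 0, 0, 0, 1, 0, 0, 0, 1, 0, 0, 0, 0, 1, 0, 1, 0, 0, 0, 0, 0, 0, 0, 0, 1, 0, 1, 0, 0, 0, 1, 0, 1, 0, 1, 0, 1, 0],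
    [1, 0, 0, 1, 0, 0, 1, 0, 0, 0, 0, 0, 0, 0, 0, 0, 1, 0, 0, 0, 0, 0, 1, 0, 0, 1, 0, 1, 0, 0, 0, 0, 0, 0, 1, 0, 0, 0, 1, 0, 0, 0, 0, 1, 0, 0, 1, 0, 0],
    [1, 0, 1, 0, 0, 1, 0, 0, 1, 0, 0, 0, 1, 0, 1, 0, 1, 0, 1, 0, 1, 0, 0, 0, 0, 0, 0, 0, 0, 1, 0, 0, 1, 0, 0, 1, 0, 0, 0, 0, 0, 0, 1, 0, 0, 0, 1, 0, 1, 0, 0, 0, 0, 1, 0, 0, 0, 1],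
    [1, 0, 1, 0, 0, 0, 0, 1, 0, 0, 0, 1, 0, 1, 0, 1, 0, 0, 0, 0, 1, 0, 0, 0, 0, 0, 0, 0, 1, 0, 0, 0, 1, 0, 0, 1, 0, 0, 1, 0, 1, 0, 1, 0, 1, 0, 1, 0, 0],
    [0, 0, 0, 1, 0, 1, 0, 1, 0, 0, 0, 0, 1, 0, 1, 0, 0, 0, 0, 0, 1, 0, 0, 0, 0, 0, 0, 0, 1, 0, 0, 0, 0, 0, 1, 0, 0, 0, 0, 0, 0, 0, 1, 0, 0, 1, 0, 0, 1, 0, 0, 0, 0, 0, 0, 0, 0, 0, 0, 0, 1, 0, 0, 1, 0, 1, 0, 0, 0, 1, 0]]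

/-- The data. -/
def dat : OutData where
  p := 13
  r := 4
  d := 1
  xw := xWord
  yw := [2, 3, 2, 0, 1, 0, 1, 4, 0, 1, 3, 2, 1, 3, 4, 0, 2, 6, 1, 3, 2, 6, 1, 2, 3, 2, 4, 3, 0, 1, 0, 2, 1, 3, 4, 0, 2, 1, 0, 1, 2, 3, 2, 1, 0, 3, 2, 1, 3, 0, 2, 6, 3, 1, 4, 6, 2, 3, 4, 2, 1, 3, 0, 2, 6, 3]
  ww := [5, 1, 2, 0, 3, 2, 1, 2, 5, 3, 6, 0, 1, 3, 2, 3, 6, 2, 1, 2, 3, 1, 2, 3, 2, 6, 3, 1, 2, 5, 0, 1, 0, 1, 6, 5, 2, 3, 1, 6, 0, 1, 5, 6, 1, 2, 3, 2, 1, 0, 5, 4, 6, 1, 6, 2, 1, 0, 5, 4, 3, 2, 5, 1, 6, 5, 4, 2, 3, 1, 4, 2, 3, 4, 6, 0, 1, 2, 1, 4, 0, 3, 2, 1, 4, 0, 1, 2, 4, 3, 4, 3, 2, 3, 2, 3, 2, 1, 0, 6, 2, 3, 2, 0, 1, 2,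 3, 2, 1, 0, 3, 2, 1, 3, 0, 2, 6, 3, 1, 4, 6, 2, 3, 4, 2, 1, 3, 0, 2, 6, 3]
  S := [1, 2]
  forms := [([1], 13)]
  gens := gensWord
  s2 := 2
  w2 := [5, 1, 2, 0, 3, 2, 1, 2, 5, 3, 6, 0, 1, 3, 2, 3, 6, 2, 1, 2, 3, 1, 2, 3, 2, 6, 3, 1, 2, 5, 0, 1, 0, 1, 6, 5, 2, 3, 1, 6, 0, 1, 5, 6, 1, 2, 3, 2, 1, 0, 5, 4, 6, 1, 6, 2, 1, 0, 5, 4, 3, 2, 5, 1, 6, 5, 4, 2, 3, 1, 4, 2, 3, 4, 6, 0, 1, 3, 2, 0, 1, 0, 1, 4, 0, 1, 3, 2, 1, 3, 4, 0, 2, 6, 1, 3, 2, 6, 1, 2, 3, 2, 4, 3, 0, 1, 0, 2, 1, 3, 4, 0, 2, 1, 0, 1, 2, 3, 2, 1, 0, 3, 2, 1, 3, 0, 2, 6, 3, 1, 4, 6, 2, 3, 4, 2, 1, 3, 0, 2, 6, 3]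
  gens2 := gensTwoWord
  sigma := [
    [2, 3, 4, 2, 1, 5, 2, 1, 0, 2, 1, 3, 5, 6, 2, 0, 6, 2, 1, 0, 1, 3, 2, 0, 5, 1, 2, 3, 4, 3, 2, 3, 1, 5, 2, 3, 6, 3, 5, 1, 2, 0, 3, 1, 6, 5, 1, 2, 3, 2, 1, 5, 0, 4, 1, 2, 6, 3, 4, 1, 5, 2, 0, 1, 3, 5, 2, 6, 1, 3, 2, 6, 1, 2, 3, 2, 4, 3, 0, 1, 0, 2, 1, 3, 4, 0, 2, 1, 0, 6, 2, 3, 2, 1, 2, 3, 5, 4, 6, 2, 3, 5, 1, 5, 6, 2, 4, 3, 4, 2, 5, 1, 3, 4, 6, 2, 0, 3, 1, 2, 3, 0, 1, 2, 3, 2, 1, 0, 1, 2],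
    [3, 6, 1, 2, 0, 1, 6, 3, 1, 2, 3, 1, 5, 6, 2, 1, 0, 3, 2, 1, 5, 6, 1, 0, 6, 3, 5, 1, 2, 1, 6, 5, 0, 4, 3, 2, 3, 1, 0, 2, 3, 1, 2, 3, 4, 3, 6, 3, 2, 1, 0, 1, 2, 1, 5, 3, 0, 1, 2, 4, 3, 2, 3, 5, 1, 2, 3, 2, 1, 4, 3, 5, 2, 3, 4, 6, 2, 3, 1, 6, 3, 2, 0, 1, 0, 1, 4, 0, 1, 3, 2, 1, 3, 4, 0, 2, 6, 1, 3, 2, 6, 1, 2, 3, 2, 4, 3, 0, 1, 0, 2, 1, 3, 4, 0, 3, 5, 4, 6, 2, 3, 5, 1, 5, 6, 2, 4, 3, 4, 2, 5, 1, 3, 4, 6, 2, 0, 3, 1, 2, 3, 0, 1, 2, 3, 2, 1, 0, 1, 2],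
    [2, 3, 4, 2, 1, 5, 2, 1, 0, 1, 2, 3, 0, 1, 3, 2, 0, 5, 1, 2, 3, 4, 3, 2, 3, 1, 5, 2, 3, 6, 3, 5, 1, 2, 0, 3, 1, 6, 5, 1, 2, 3, 2, 1, 5, 0, 4, 1, 2, 6, 3, 4, 1, 5, 2, 0, 1, 3, 5, 4, 2, 3, 1, 2, 0, 1, 3, 2, 4, 1, 4, 0, 3, 2, 1, 4, 0, 1, 2, 4, 3, 4, 3, 2, 3, 2, 5, 4, 6, 2, 3, 5, 1, 5, 6, 2, 4, 3, 4, 2, 5, 1, 3, 4, 6, 2, 0, 3, 1, 2, 3, 0, 1, 2, 3, 2, 1, 0, 1, 2],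
    [1, 2, 3, 6, 4, 3, 2, 1, 5, 0, 2, 1, 0, 1, 2, 3, 0, 6, 3, 5, 1, 2, 1, 6, 5, 0, 4, 3, 2, 3, 1, 0, 2, 3, 1, 2, 3, 4, 3, 6, 2, 3, 2, 0, 1, 0, 1, 4, 0, 1, 3, 2, 1, 3, 4, 0, 2, 1, 0, 6, 1, 3, 2, 1, 4, 0, 3, 2, 1, 4, 0, 1, 2, 4, 3, 4, 3, 2, 3, 2, 3, 2, 1, 0, 6, 2, 3, 2, 0, 1, 2, 3, 2, 1, 0, 3, 2, 1, 3, 0, 2, 6, 3, 1, 4, 6, 2, 3, 4, 2, 1, 3, 0, 2, 6, 3],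
    [1, 4, 0, 1, 2, 3, 4, 1, 2, 1, 6, 3, 5, 1, 0, 1, 2, 1, 6, 3, 5, 1, 0, 6, 2, 0, 1, 3, 2, 4, 3, 4, 2, 1, 5, 1, 5, 2, 3, 6, 2, 1, 6, 0, 5, 2, 3, 2, 0, 1, 0, 1, 4, 0, 1, 3, 2, 1, 3, 4, 0, 2, 1, 0, 6, 1, 2, 0, 1, 0, 1, 4, 0, 1, 3, 2, 1, 3, 4, 0, 2, 6, 1, 3, 2, 6, 1, 2, 3, 2, 4, 3, 0, 1, 0, 2, 1, 3, 4, 0, 3, 5, 4, 6, 2, 3, 5, 1, 5, 6, 2, 4, 3, 4, 2, 5, 1, 3, 4, 6, 2, 0, 3, 1, 2, 3, 0, 1, 2, 3, 2, 1, 0, 1, 2],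
    [1, 4, 2, 1, 3, 5, 6, 4, 2, 1, 6, 5, 1, 3, 2, 1, 0, 1, 5, 2, 3, 2, 6, 1, 3, 1, 2, 0, 5, 1, 2, 3, 1, 0, 5, 1, 2, 3, 4, 6, 3, 2, 3, 4, 1, 0, 1, 4, 5, 3, 2, 1, 0, 1, 2, 1, 5, 3, 0, 1, 2, 4, 3, 2, 3, 5, 1, 2, 3, 2, 1, 4, 3, 5, 2, 3, 4, 2, 1, 0, 6, 2, 3, 2, 1, 2, 1, 4, 0, 3, 2, 1, 4, 0, 1, 2, 4, 3, 4, 3, 2, 3, 2, 3, 2, 1, 0, 1, 2, 3, 2, 1, 0, 3, 2, 1, 3, 0, 2, 6, 3, 1, 4, 6, 2, 3, 4, 2, 1, 3, 0, 2, 6, 3],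
    [6, 1, 2, 1, 3, 4, 3, 2, 1, 0, 1, 6, 2, 3, 1, 0, 6, 2, 1, 0, 1, 3, 2, 0, 1, 0, 1, 4, 0, 1, 3, 2, 1, 3, 4, 0, 6, 2, 3, 1, 6, 3, 2, 0, 1, 0, 1, 4, 0, 1, 3, 2, 1, 3, 4, 0, 2, 6, 1, 3, 2, 6, 1, 2, 3, 2, 4, 3, 0, 1, 0, 2, 1, 3, 4, 0, 3, 5, 4, 6, 2, 3, 5, 1, 5, 6, 2, 4, 3, 4, 2, 5, 1, 3, 4, 6, 2, 0, 3, 1, 2, 3, 0, 1, 2, 3, 2, 1, 0, 1, 2]]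

/-- The centralizer of the power of the normalizing element. -/
def allowed : List (List ℕ) := [
    [],
    [2, 3, 2, 0, 1, 0, 1, 4, 0, 1, 3, 2, 1, 3, 4, 0, 3, 5, 4, 6, 2, 3, 5, 1, 5, 6, 2, 4, 3, 4, 2, 5, 1, 3, 4, 6, 2, 0, 3, 1, 2, 3, 0, 1, 2, 3, 2, 1, 0, 1, 2],
    [2, 6, 1, 3, 2, 6, 1, 2, 3, 2, 4, 3, 0, 1, 0, 2, 1, 3, 4, 0, 3, 5, 4, 6, 2, 3, 5, 1, 5, 6, 2, 4, 3, 4, 2, 5, 1, 3, 4, 6, 2, 0, 3, 1, 2, 3, 0, 1, 2, 3, 2, 1, 0, 1, 2],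
    [1, 4, 0, 3, 2, 1, 4, 0, 1, 2, 4, 3, 4, 3, 2, 3, 2, 3, 2, 1, 0, 1, 2, 3, 2, 1, 0, 3, 2, 1, 3, 0, 2, 6, 3, 1, 4, 6, 2, 3, 4, 2, 1, 3, 0, 2, 6, 3],
    [2, 1, 0, 6, 2, 3, 2, 1, 2, 1, 4, 0, 3, 2, 1, 4, 0, 1, 2, 4, 3, 4, 3, 2, 3, 2, 3, 2, 1, 0, 1, 2, 3, 2, 1, 0, 3, 2, 1, 3, 0, 2, 6, 3, 1, 4, 6, 2, 3, 4, 2, 1, 3, 0, 2, 6, 3],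
    [1, 4, 0, 3, 2, 1, 4, 0, 1, 2, 4, 3, 4, 3, 2, 3, 2, 3, 2, 1, 0, 6, 2, 3, 2, 0, 1, 2, 3, 2, 1, 0, 3, 2, 1, 3, 0, 2, 6, 3, 1, 4, 6, 2, 3, 4, 2, 1, 3, 0, 2, 6, 3],
    [2, 3, 2, 0, 1, 0, 1, 4, 0, 1, 3, 2, 1, 3, 4, 0, 2, 6, 1, 3, 2, 6, 1, 2, 3, 2, 4, 3, 0, 1, 0, 2, 1, 3, 4, 0, 2, 1, 0, 1, 2, 3, 2, 1, 0, 3, 2, 1, 3, 0, 2, 6, 3, 1, 4, 6, 2, 3, 4, 2, 1, 3, 0, 2, 6, 3],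
    [2, 1, 0, 6, 2, 3, 2, 1, 2],
    [2, 1, 0, 1, 2, 3, 2, 1, 0, 3, 2, 1, 3, 0, 2, 6, 3, 1, 4, 6, 2, 3, 4, 2, 1, 3, 0, 2, 6, 3, 2, 1, 0, 6, 2, 3, 2, 1, 2, 3, 5, 4, 6, 2, 3, 5, 1, 5, 6, 2, 4, 3, 4, 2, 5, 1, 3, 4, 6, 2, 0, 3, 1, 2, 3, 0, 1, 2, 3, 2, 1, 0, 1, 2],
    [3, 5, 4, 6, 2, 3, 5, 1, 5, 6, 2, 4, 3, 4, 2, 5, 1, 3, 4, 6, 2, 0, 3, 1, 2, 3, 0, 1, 2, 3, 2, 1, 6, 2, 3, 2, 0, 1, 2, 3, 2, 1, 0, 3, 2, 1, 3, 0, 2, 6, 3, 1, 4, 6, 2, 3, 4, 2, 1, 3, 0, 2, 6, 3],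
    [2, 3, 2, 0, 1, 0, 1, 4, 0, 1, 3, 2, 1, 3, 4, 0, 2, 1, 0, 6, 2, 3, 2, 1, 2, 3, 5, 4, 6, 2, 3, 5, 1, 5, 6, 2, 4, 3, 4, 2, 5, 1, 3, 4, 6, 2, 0, 3, 1, 2, 3, 0, 1, 2, 3, 2, 1, 0, 1, 2],
    [2, 6, 1, 3, 2, 6, 1, 2, 3, 2, 4, 3, 0, 1, 0, 2, 1, 3, 4, 0, 2, 1, 0, 6, 2, 3, 2, 1, 2, 3, 5, 4, 6, 2, 3, 5, 1, 5, 6, 2, 4, 3, 4, 2, 5, 1, 3, 4, 6, 2, 0, 3, 1, 2, 3, 0, 1, 2, 3, 2, 1, 0, 1, 2],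
    [5, 6, 1, 4, 3, 6, 2, 3, 2, 1, 3, 6, 1, 0, 4, 6, 2, 3, 2, 4, 1, 0, 6, 1, 3, 5, 1, 2, 1, 6, 5, 0, 4, 3, 2, 3, 1, 0, 2, 3, 1, 2, 3, 4, 3, 6, 0, 1, 3, 2, 3, 2, 1, 0, 3, 6, 1, 2, 1, 6, 4, 3, 1, 2, 4, 1, 6, 3, 2, 1, 0, 1, 2, 3, 2, 1, 0, 3, 2, 1, 3, 0, 2, 6, 3, 1, 4, 6, 2, 3, 4, 2, 1, 3, 0, 2, 6, 3],
    [5, 6, 1, 4, 3, 6, 2, 3, 2, 1, 3, 6, 1, 0, 4, 6, 2, 3, 2, 4, 1, 0, 6, 1, 3, 5, 1, 2, 1, 6, 5, 0, 4, 3, 2, 3, 1, 0, 2, 3, 1, 2, 3, 4, 3, 6, 0, 1, 3, 2, 3, 2, 1, 0, 3, 6, 1, 2, 1, 6, 4, 3, 1, 2, 4, 1, 6, 3, 2, 3, 2, 0, 1, 0, 1, 4, 0, 1, 3, 2, 1, 3, 4, 0, 2, 1, 0, 6, 2, 3, 2, 1, 2],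
    [5, 6, 1, 4, 3, 6, 2, 3, 2, 1, 3, 6, 1, 0, 4, 6, 2, 3, 2, 4, 1, 0, 6, 1, 3, 5, 1, 2, 1, 6, 5, 0, 4, 3, 2, 3, 1, 0, 2, 3, 1, 2, 3, 4, 3, 6, 0, 1, 3, 2, 3, 2, 1, 0, 3, 6, 1, 2, 1, 6, 4, 3, 1, 2, 4, 1, 6, 3, 2, 6, 1, 3, 2, 6, 1, 2, 3, 2, 4, 3, 0, 1, 0, 2, 1, 3, 4, 0],
    [5, 6, 1, 4, 3, 6, 2, 3, 2, 1, 3, 6, 1, 0, 4, 6, 2, 3, 2, 4, 1, 0, 6, 1, 3, 5, 1, 2, 1, 6, 5, 0, 4, 3, 2, 3, 1, 0, 2, 3, 1, 2, 3, 4, 3, 6, 0, 1, 3, 2, 3, 2, 1, 0, 3, 6, 1, 2, 1, 6, 4, 3, 1, 2, 4, 1, 6, 3, 2, 1, 0, 6, 2, 3, 2, 1, 2, 1, 4, 0, 3, 2, 1, 4, 0, 1, 2, 4, 3, 4, 3, 2, 3, 2, 5, 4, 6, 2, 3, 5, 1, 5, 6, 2, 4, 3, 4, 2, 5, 1, 3, 4, 6, 2,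 0, 3, 1, 2, 3, 0, 1, 2, 3, 2, 1, 0, 1, 2],
    [5, 6, 1, 4, 3, 6, 2, 3, 2, 1, 3, 6, 1, 0, 4, 6, 2, 3, 2, 4, 1, 0, 6, 1, 3, 5, 1, 2, 1, 6, 5, 0, 4, 3, 2, 3, 1, 0, 2, 3, 1, 2, 3, 4, 3, 6, 0, 1, 3, 2, 3, 2, 1, 0, 3, 6, 1, 2, 1, 6, 4, 3, 1, 2, 4, 1, 6, 3, 2, 3, 2, 0, 1, 0, 1, 4, 0, 1, 3, 2, 1, 3, 4, 0, 2, 6, 1, 3, 2, 6, 1, 2, 3, 2, 4, 3, 0, 1, 0, 2, 1, 3, 4, 0, 3, 5, 4, 6, 2, 3, 5, 1, 5, 6, 2, 4, 3, 4, 2, 5, 1, 3, 4, 6, 2, 0, 3, 1, 2, 3, 0, 1, 2, 3, 2, 1, 0, 1, 2],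
    [5, 6, 1, 4, 3, 6, 2, 3, 2, 1, 3, 6, 1, 0, 4, 6, 2, 3, 2, 4, 1, 0, 6, 1, 3, 5, 1, 2, 1, 6, 5, 0, 4, 3, 2, 3, 1, 0, 2, 3, 1, 2, 3, 4, 3, 6, 0, 1, 3, 2, 3, 2, 1, 0, 3, 6, 1, 2, 1, 6, 4, 3, 1, 2, 4, 1, 6, 3, 1, 4, 0, 3, 2, 1, 4, 0, 1, 2, 4, 3, 4, 3, 2, 3, 2, 3, 2, 1, 0, 6, 2, 3, 2, 1, 2, 3, 5, 4, 6, 2, 3, 5, 1, 5, 6, 2, 4, 3, 4, 2, 5, 1, 3, 4, 6, 2, 0, 3, 1, 2, 3, 0, 1, 2, 3, 2, 1, 0, 1, 2],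
    [5, 6, 1, 4, 3, 6, 2, 3, 2, 1, 3, 6, 1, 0, 4, 6, 2, 3, 2, 4, 1, 0, 6, 1, 3, 5, 1, 2, 1, 6, 5, 0, 4, 3, 2, 3, 1, 0, 2, 3, 1, 2, 3, 4, 3, 6, 0, 1, 3, 2, 3, 2, 1, 0, 3, 6, 1, 2, 1, 6, 4, 3, 1, 2, 4, 1, 6, 3, 1, 4, 0, 3, 2, 1, 4, 0, 1, 2, 4, 3, 4, 3, 2, 3, 2, 5, 4, 6, 2, 3, 5, 1, 5, 6, 2, 4, 3, 4, 2, 5, 1, 3, 4, 6, 2, 0, 3, 1, 2, 3, 0, 1, 2, 3, 2, 1, 0, 1, 2],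
    [5, 6, 1, 4, 3, 6, 2, 3, 2, 1, 3, 6, 1, 0, 4, 6, 2, 3, 2, 4, 1, 0, 6, 1, 3, 5, 1, 2, 1, 6, 5, 0, 4, 3, 2, 3, 1, 0, 2, 3, 1, 2, 3, 4, 3, 6, 0, 1, 3, 2, 3, 2, 1, 0, 3, 6, 1, 2, 1, 6, 4, 3, 1, 2, 4, 1, 6, 5, 4, 6, 2, 3, 5, 1, 5, 6, 2, 4, 3, 4, 2, 5, 1, 3, 4, 6, 2, 0, 3, 1, 2, 3, 0, 1, 2, 3, 2, 1, 6, 2, 3, 2, 1, 2, 3, 5, 4, 6, 2, 3, 5, 1, 5, 6, 2, 4, 3, 4, 2, 5, 1, 3, 4, 6, 2, 0, 3, 1, 2, 3, 0, 1, 2, 3, 2, 1, 0, 1, 2],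
    [5, 6, 1, 4, 3, 6, 2, 3, 2, 1, 3, 6, 1, 0, 4, 6, 2, 3, 2, 4, 1, 0, 6, 1, 3, 5, 1, 2, 1, 6, 5, 0, 4, 3, 2, 3, 1, 0, 2, 3, 1, 2, 3, 4, 3, 6, 0, 1, 3, 2, 3, 2, 1, 0, 3, 6, 1, 2, 1, 6, 4, 3, 1, 2, 4, 1, 6, 3, 2, 1, 0, 6, 2, 3, 2, 0, 1, 2, 3, 2, 1, 0, 3, 2, 1, 3, 0, 2, 6, 3, 1, 4, 6, 2, 3, 4, 2, 1, 3, 0, 2, 6, 3],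
    [5, 6, 1, 4, 3, 6, 2, 3, 2, 1, 3, 6, 1, 0, 4, 6, 2, 3, 2, 4, 1, 0, 6, 1, 3, 5, 1, 2, 1, 6, 5, 0, 4, 3, 2, 3, 1, 0, 2, 3, 1, 2, 3, 4, 3, 6, 0, 1, 3, 2, 3, 2, 1, 0, 3, 6, 1, 2, 1, 6, 4, 3, 1, 2, 4, 1, 6, 3, 2, 1, 0, 1, 2, 3, 2, 1, 0, 3, 2, 1, 3, 0, 2, 6, 3, 1, 4, 6, 2, 3, 4, 2, 1, 3, 0, 2, 6, 3, 2, 1, 0, 6, 2, 3, 2, 1, 2],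
    [5, 6, 1, 4, 3, 6, 2, 3, 2, 1, 3, 6, 1, 0, 4, 6, 2, 3, 2, 4, 1, 0, 6, 1, 3, 5, 1, 2, 1, 6, 5, 0, 4, 3, 2, 3, 1, 0, 2, 3, 1, 2, 3, 4, 3, 6, 0, 1, 3, 2, 3, 2, 1, 0, 3, 6, 1, 2, 1, 6, 4, 3, 1, 2, 4, 1, 6, 3, 2, 6, 1, 3, 2, 6, 1, 2, 3, 2, 4, 3, 0, 1, 0, 2, 1, 3, 4, 0, 2, 1, 0, 6, 2, 3, 2, 1, 2],
    [5, 6, 1, 4, 3, 6, 2, 3, 2, 1, 3, 6, 1, 0, 4, 6, 2, 3, 2, 4, 1, 0, 6, 1, 3, 5, 1, 2, 1, 6, 5, 0, 4, 3, 2, 3, 1, 0, 2, 3, 1, 2, 3, 4, 3, 6, 0, 1, 3, 2, 3, 2, 1, 0, 3, 6, 1, 2, 1, 6, 4, 3, 1, 2, 4, 1, 6, 3, 2, 3, 2, 0, 1, 0, 1, 4, 0, 1, 3, 2, 1, 3, 4, 0],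
    [6, 1, 5, 1, 4, 3, 2, 0, 4, 1, 6, 0, 1, 5, 2, 3, 2, 1, 0, 1, 6, 4, 0, 1, 2, 0, 5, 1, 2, 6, 3, 4, 1, 2, 5, 3, 2, 0, 4, 1, 6, 5, 3, 1, 5, 0, 1, 0, 5, 1, 2, 1, 6, 1, 2, 4, 3, 4, 2, 1, 0, 2, 5, 2, 6, 0, 1, 5, 0, 4, 2, 3, 1, 2, 0, 1, 3, 2, 4, 1, 4, 0, 3, 2, 1, 4, 0, 1, 2, 4, 3, 4, 3, 2, 3, 2, 5, 4, 6, 2, 3, 5, 1, 5, 6, 2, 4, 3, 4, 2, 5, 1, 3, 4, 6, 2, 0, 3, 1, 2, 3, 0, 1, 2, 3, 2, 1, 0, 1, 2],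
    [6, 1, 5, 1, 4, 3, 2, 0, 4, 1, 6, 0, 1, 5, 2, 3, 2, 1, 0, 1, 6, 4, 0, 1, 2, 0, 5, 1, 2, 6, 3, 4, 1, 2, 5, 3, 2, 0, 4, 1, 6, 5, 3, 1, 5, 0, 1, 0, 5, 1, 2, 1, 6, 1, 2, 4, 3, 4, 2, 1, 0, 2, 5, 2, 6, 0, 1, 5, 0, 4, 2, 3, 1, 2, 0, 1, 3, 2, 4, 2, 1, 0, 1, 2, 3, 2, 1, 0, 3, 2, 1, 3, 0, 2, 6, 3, 1, 4, 6, 2, 3, 4, 2, 1, 3, 0, 2, 6, 3, 2, 1, 0, 6, 2, 3, 2, 1, 2],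
    [6, 1, 5, 1, 4, 3, 2, 0, 4, 1, 6, 0, 1, 5, 2, 3, 2, 1, 0, 1, 6, 4, 0, 1, 2, 0, 5, 1, 2, 6, 3, 4, 1, 2, 5, 3, 2, 0, 4, 1, 6, 5, 3, 1, 5, 0, 1, 0, 5, 1, 2, 1, 6, 1, 2, 4, 3, 4, 2, 1, 0, 2, 5, 2, 6, 0, 1, 5, 0, 4, 2, 3, 1, 2, 0, 1, 3, 2, 4, 3, 5, 4, 6, 2, 3, 5, 1, 5, 6, 2, 4, 3, 4, 2, 5, 1, 3, 4, 6, 2, 0, 3, 1, 2, 3, 0, 1, 2, 3, 2, 1, 6, 2, 3, 2, 1, 2, 3, 5, 4, 6, 2, 3, 5, 1, 5, 6, 2, 4, 3, 4, 2, 5, 1, 3, 4, 6, 2, 0, 3, 1, 2, 3, 0, 1, 2, 3, 2, 1, 0, 1, 2],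
    [6, 1, 5, 1, 4, 3, 2, 0, 4, 1, 6, 0, 1, 5, 2, 3, 2, 1, 0, 1, 6, 4, 0, 1, 2, 0, 5, 1, 2, 6, 3, 4, 1, 2, 5, 3, 2, 0, 4, 1, 6, 5, 3, 1, 5, 0, 1, 0, 5, 1, 2, 1, 6, 1, 2, 4, 3, 4, 2, 1, 0, 2, 5, 2, 6, 0, 1, 5, 0, 4, 2, 3, 1, 2, 0, 1, 3, 2, 4, 2, 6, 1, 3, 2, 6, 1, 2, 3, 2, 4, 3, 0, 1, 0, 2, 1, 3, 4, 0],
    [6, 1, 5, 1, 4, 3, 2, 0, 4, 1, 6, 0, 1, 5, 2, 3, 2, 1, 0, 1, 6, 4, 0, 1, 2, 0, 5, 1, 2, 6, 3, 4, 1, 2, 5, 3, 2, 0, 4, 1, 6, 5, 3, 1, 5, 0, 1, 0, 5, 1, 2, 1, 6, 1, 2, 4, 3, 4, 2, 1, 0, 2, 5, 2, 6, 0, 1, 5, 0, 4, 2, 3, 1, 2, 0, 1, 3, 2, 4, 2, 3, 2, 0, 1, 0, 1, 4, 0, 1, 3, 2, 1, 3, 4, 0],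
    [6, 1, 5, 1, 4, 3, 2, 0, 4, 1, 6, 0, 1, 5, 2, 3, 2, 1, 0, 1, 6, 4, 0, 1, 2, 0, 5, 1, 2, 6, 3, 4, 1, 2, 5, 3, 2, 0, 4, 1, 6, 5, 3, 1, 5, 0, 1, 0, 5, 1, 2, 1, 6, 1, 2, 4, 3, 4, 2, 1, 0, 2, 5, 2, 6, 0, 1, 5, 0, 4, 2, 3, 1, 2, 0, 1, 3, 2, 4, 2, 3, 2, 0, 1, 0, 1, 4, 0, 1, 3, 2, 1, 3, 4, 0, 2, 1, 0, 6, 2, 3, 2, 1, 2],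
    [6, 1, 5, 1, 4, 3, 2, 0, 4, 1, 6, 0, 1, 5, 2, 3, 2, 1, 0, 1, 6, 4, 0, 1, 2, 0, 5, 1, 2, 6, 3, 4, 1, 2, 5, 3, 2, 0, 4, 1, 6, 5, 3, 1, 5, 0, 1, 0, 5, 1, 2, 1, 6, 1, 2, 4, 3, 4, 2, 1, 0, 2, 5, 2, 6, 0, 1, 5, 0, 4, 2, 3, 1, 2, 0, 1, 3, 2, 4, 2, 6, 1, 3, 2, 6, 1, 2, 3, 2, 4, 3, 0, 1, 0, 2, 1, 3, 4, 0, 2, 1, 0, 6, 2, 3, 2, 1, 2],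
    [6, 1, 5, 1, 4, 3, 2, 0, 4, 1, 6, 0, 1, 5, 2, 3, 2, 1, 0, 1, 6, 4, 0, 1, 2, 0, 5, 1, 2, 6, 3, 4, 1, 2, 5, 3, 2, 0, 4, 1, 6, 5, 3, 1, 5, 0, 1, 0, 5, 1, 2, 1, 6, 1, 2, 4, 3, 4, 2, 1, 0, 2, 5, 2, 6, 0, 1, 5, 0, 4, 2, 3, 1, 2, 0, 1, 3, 2, 4, 2, 1, 0, 6, 2, 3, 2, 1, 2, 1, 4, 0, 3, 2, 1, 4, 0, 1, 2, 4, 3, 4, 3, 2, 3, 2, 5, 4, 6, 2, 3, 5, 1, 5, 6, 2, 4, 3, 4, 2, 5, 1, 3, 4, 6, 2, 0, 3, 1, 2, 3, 0, 1, 2, 3, 2, 1, 0, 1, 2],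
    [6, 1, 5, 1, 4, 3, 2, 0, 4, 1, 6, 0, 1, 5, 2, 3, 2, 1, 0, 1, 6, 4, 0, 1, 2, 0, 5, 1, 2, 6, 3, 4, 1, 2, 5, 3, 2, 0, 4, 1, 6, 5, 3, 1, 5, 0, 1, 0, 5, 1, 2, 1, 6, 1, 2, 4, 3, 4, 2, 1, 0, 2, 5, 2, 6, 0, 1, 5, 0, 4, 2, 3, 1, 2, 0, 1, 3, 2, 4, 2, 3, 2, 0, 1, 0, 1, 4, 0, 1, 3, 2, 1, 3, 4, 0, 2, 6, 1, 3, 2, 6, 1, 2, 3, 2, 4, 3, 0, 1, 0, 2, 1, 3, 4, 0, 3, 5, 4, 6, 2, 3, 5, 1, 5, 6, 2, 4, 3, 4, 2, 5, 1, 3, 4, 6, 2, 0, 3, 1, 2, 3, 0, 1, 2, 3, 2, 1, 0, 1, 2],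
    [6, 1, 5, 1, 4, 3, 2, 0, 4, 1, 6, 0, 1, 5, 2, 3, 2, 1, 0, 1, 6, 4, 0, 1, 2, 0, 5, 1, 2, 6, 3, 4, 1, 2, 5, 3, 2, 0, 4, 1, 6, 5, 3, 1, 5, 0, 1, 0, 5, 1, 2, 1, 6, 1, 2, 4, 3, 4, 2, 1, 0, 2, 5, 2, 6, 0, 1, 5, 0, 4, 2, 3, 1, 2, 0, 1, 3, 2, 4, 1, 4, 0, 3, 2, 1, 4, 0, 1, 2, 4, 3, 4, 3, 2, 3, 2, 3, 2, 1, 0, 6, 2, 3, 2, 1, 2, 3, 5, 4, 6, 2, 3, 5, 1, 5, 6, 2, 4, 3, 4, 2, 5, 1, 3, 4, 6, 2, 0, 3, 1, 2, 3, 0, 1, 2, 3, 2, 1, 0, 1, 2],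
    [6, 1, 5, 1, 4, 3, 2, 0, 4, 1, 6, 0, 1, 5, 2, 3, 2, 1, 0, 1, 6, 4, 0, 1, 2, 0, 5, 1, 2, 6, 3, 4, 1, 2, 5, 3, 2, 0, 4, 1, 6, 5, 3, 1, 5, 0, 1, 0, 5, 1, 2, 1, 6, 1, 2, 4, 3, 4, 2, 1, 0, 2, 5, 2, 6, 0, 1, 5, 0, 4, 2, 3, 1, 2, 0, 1, 3, 2, 4, 2, 1, 0, 1, 2, 3, 2, 1, 0, 3, 2, 1, 3, 0, 2, 6, 3, 1, 4, 6, 2, 3, 4, 2, 1, 3, 0, 2, 6, 3],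
    [6, 1, 5, 1, 4, 3, 2, 0, 4, 1, 6, 0, 1, 5, 2, 3, 2, 1, 0, 1, 6, 4, 0, 1, 2, 0, 5, 1, 2, 6, 3, 4, 1, 2, 5, 3, 2, 0, 4, 1, 6, 5, 3, 1, 5, 0, 1, 0, 5, 1, 2, 1, 6, 1, 2, 4, 3, 4, 2, 1, 0, 2, 5, 2, 6, 0, 1, 5, 0, 4, 2, 3, 1, 2, 0, 1, 3, 2, 4, 2, 1, 0, 6, 2, 3, 2, 0, 1, 2, 3, 2, 1, 0, 3, 2, 1, 3, 0, 2, 6, 3, 1, 4, 6, 2, 3, 4, 2, 1, 3, 0, 2, 6, 3],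
    [5, 1, 2, 0, 3, 2, 1, 2, 5, 3, 6, 0, 1, 3, 2, 3, 6, 2, 1, 2, 3, 1, 2, 3, 2, 6, 3, 1, 2, 5, 0, 1, 0, 1, 6, 5, 2, 3, 1, 6, 0, 1, 5, 6, 1, 2, 3, 2, 1, 0, 5, 4, 6, 1, 6, 2, 1, 0, 5, 4, 3, 2, 5, 1, 6, 5, 4, 2, 3, 1, 4, 2, 3, 4, 6, 1, 2, 3, 2, 1, 0, 3, 2, 1, 3, 0, 2, 6, 3, 1, 4, 6, 2, 3, 4, 2, 1, 3, 0, 2, 6, 3, 2, 1, 0, 6, 2, 3, 2, 1, 2, 3, 5, 4, 6, 2, 3, 5, 1, 5, 6, 2, 4, 3, 4, 2, 5, 1, 3, 4, 6, 2, 0, 3, 1, 2, 3, 0, 1, 2, 3, 2, 1, 0, 1, 2],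
    [5, 1, 2, 0, 3, 2, 1, 2, 5, 3, 6, 0, 1, 3, 2, 3, 6, 2, 1, 2, 3, 1, 2, 3, 2, 6, 3, 1, 2, 5, 0, 1, 0, 1, 6, 5, 2, 3, 1, 6, 0, 1, 5, 6, 1, 2, 3, 2, 1, 0, 5, 4, 6, 1, 6, 2, 1, 0, 5, 4, 3, 2, 5, 1, 6, 5, 4, 2, 3, 1, 4, 2, 3, 4, 6, 0, 1, 3, 2, 0, 1, 0, 1, 4, 0, 1, 3, 2, 1, 3, 4, 0, 2, 1, 0, 6, 2, 3, 2, 1, 2, 3, 5, 4, 6, 2, 3, 5, 1, 5, 6, 2, 4, 3, 4, 2, 5, 1, 3, 4, 6, 2, 0, 3, 1, 2, 3, 0, 1, 2, 3, 2, 1, 0, 1, 2],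
    [5, 1, 2, 0, 3, 2, 1, 2, 5, 3, 6, 0, 1, 3, 2, 3, 6, 2, 1, 2, 3, 1, 2, 3, 2, 6, 3, 1, 2, 5, 0, 1, 0, 1, 6, 5, 2, 3, 1, 6, 0, 1, 5, 6, 1, 2, 3, 2, 1, 0, 5, 4, 6, 1, 6, 2, 1, 0, 5, 4, 3, 2, 5, 1, 6, 5, 4, 2, 3, 1, 4, 2, 3, 4, 6, 0, 1, 6, 1, 3, 2, 6, 1, 2, 3, 2, 4, 3, 0, 1, 0, 2, 1, 3, 4, 0, 2, 1, 0, 6, 2, 3, 2, 1, 2, 3, 5, 4, 6, 2, 3, 5, 1, 5, 6, 2, 4, 3, 4, 2, 5, 1, 3, 4, 6, 2, 0, 3, 1, 2, 3, 0, 1, 2, 3, 2, 1, 0, 1, 2],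
    [5, 1, 2, 0, 3, 2, 1, 2, 5, 3, 6, 0, 1, 3, 2, 3, 6, 2, 1, 2, 3, 1, 2, 3, 2, 6, 3, 1, 2, 5, 0, 1, 0, 1, 6, 5, 2, 3, 1, 6, 0, 1, 5, 6, 1, 2, 3, 2, 1, 0, 5, 4, 6, 1, 6, 2, 1, 0, 5, 4, 3, 2, 5, 1, 6, 5, 4, 2, 3, 1, 4, 2, 3, 4, 6, 0, 1, 3, 2, 0, 1, 0, 1, 4, 0, 1, 3, 2, 1, 3, 4, 0, 2, 6, 1, 3, 2, 6, 1, 2, 3, 2, 4, 3, 0, 1, 0, 2, 1, 3, 4, 0, 2, 1, 0, 1, 2, 3, 2, 1, 0, 3, 2, 1, 3, 0, 2, 6, 3, 1, 4, 6, 2, 3, 4, 2, 1, 3, 0, 2, 6, 3],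
    [5, 1, 2, 0, 3, 2, 1, 2, 5, 3, 6, 0, 1, 3, 2, 3, 6, 2, 1, 2, 3, 1, 2, 3, 2, 6, 3, 1, 2, 5, 0, 1, 0, 1, 6, 5, 2, 3, 1, 6, 0, 1, 5, 6, 1, 2, 3, 2, 1, 0, 5, 4, 6, 1, 6, 2, 1, 0, 5, 4, 3, 2, 5, 1, 6, 5, 4, 2, 3, 1, 4, 2, 3, 4, 6, 0, 1, 2, 1, 4, 0, 3, 2, 1, 4, 0, 1, 2, 4, 3, 4, 3, 2, 3, 2, 3, 2, 1, 0, 6, 2, 3, 2, 0, 1, 2, 3, 2, 1, 0, 3, 2, 1, 3, 0, 2, 6, 3, 1, 4, 6, 2, 3, 4, 2, 1, 3, 0, 2, 6, 3],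
    [5, 1, 2, 0, 3, 2, 1, 2, 5, 3, 6, 0, 1, 3, 2, 3, 6, 2, 1, 2, 3, 1, 2, 3, 2, 6, 3, 1, 2, 5, 0, 1, 0, 1, 6, 5, 2, 3, 1, 6, 0, 1, 5, 6, 1, 2, 3, 2, 1, 0, 5, 4, 6, 1, 6, 2, 1, 0, 5, 4, 3, 2, 5, 1, 6, 5, 4, 2, 3, 1, 4, 2, 3, 4, 2, 3, 2, 1, 2, 1, 4, 0, 3, 2, 1, 4, 0, 1, 2, 4, 3, 4, 3, 2, 3, 2, 3, 2, 1, 0, 1, 2, 3, 2, 1, 0, 3, 2, 1, 3, 0, 2, 6, 3, 1, 4, 6, 2, 3, 4, 2, 1, 3, 0, 2, 6, 3],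
    [5, 1, 2, 0, 3, 2, 1, 2, 5, 3, 6, 0, 1, 3, 2, 3, 6, 2, 1, 2, 3, 1, 2, 3, 2, 6, 3, 1, 2, 5, 0, 1, 0, 1, 6, 5, 2, 3, 1, 6, 0, 1, 5, 6, 1, 2, 3, 2, 1, 0, 5, 4, 6, 1, 6, 2, 1, 0, 5, 4, 3, 2, 5, 1, 6, 5, 4, 2, 3, 1, 4, 2, 3, 4, 6, 0, 1, 2, 1, 4, 0, 3, 2, 1, 4, 0, 1, 2, 4, 3, 4, 3, 2, 3, 2, 3, 2, 1, 0, 1, 2, 3, 2, 1, 0, 3, 2, 1, 3, 0, 2, 6, 3, 1, 4, 6, 2, 3, 4, 2, 1, 3, 0, 2, 6, 3],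
    [5, 1, 2, 0, 3, 2, 1, 2, 5, 3, 6, 0, 1, 3, 2, 3, 6, 2, 1, 2, 3, 1, 2, 3, 2, 6, 3, 1, 2, 5, 0, 1, 0, 1, 6, 5, 2, 3, 1, 6, 0, 1, 5, 6, 1, 2, 3, 2, 1, 0, 5, 4, 6, 1, 6, 2, 1, 0, 5, 4, 3, 2, 5, 1, 6, 5, 4, 2, 3, 1, 4, 2, 3, 4, 6, 0, 1, 2, 3, 5, 4, 6, 2, 3, 5, 1, 5, 6, 2, 4, 3, 4, 2, 5, 1, 3, 4, 6, 2, 0, 3, 1, 2, 3, 0, 1, 2, 3, 2, 1, 6, 2, 3, 2, 0, 1, 2, 3, 2, 1, 0, 3, 2, 1, 3, 0, 2, 6, 3, 1, 4, 6, 2, 3, 4, 2, 1, 3, 0, 2, 6, 3],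
    [5, 1, 2, 0, 3, 2, 1, 2, 5, 3, 6, 0, 1, 3, 2, 3, 6, 2, 1, 2, 3, 1, 2, 3, 2, 6, 3, 1, 2, 5, 0, 1, 0, 1, 6, 5, 2, 3, 1, 6, 0, 1, 5, 6, 1, 2, 3, 2, 1, 0, 5, 4, 6, 1, 6, 2, 1, 0, 5, 4, 3, 2, 5, 1, 6, 5, 4, 2, 3, 1, 4, 2, 3, 4, 6, 0, 1, 2],
    [5, 1, 2, 0, 3, 2, 1, 2, 5, 3, 6, 0, 1, 3, 2, 3, 6, 2, 1, 2, 3, 1, 2, 3, 2, 6, 3, 1, 2, 5, 0, 1, 0, 1, 6, 5, 2, 3, 1, 6, 0, 1, 5, 6, 1, 2, 3, 2, 1, 0, 5, 4, 6, 1, 6, 2, 1, 0, 5, 4, 3, 2, 5, 1, 6, 5, 4, 2, 3, 1, 4, 2, 3, 4, 2, 3, 2, 1, 2],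
    [5, 1, 2, 0, 3, 2, 1, 2, 5, 3, 6, 0, 1, 3, 2, 3, 6, 2, 1, 2, 3, 1, 2, 3, 2, 6, 3, 1, 2, 5, 0, 1, 0, 1, 6, 5, 2, 3, 1, 6, 0, 1, 5, 6, 1, 2, 3, 2, 1, 0, 5, 4, 6, 1, 6, 2, 1, 0, 5, 4, 3, 2, 5, 1, 6, 5, 4, 2, 3, 1, 4, 2, 3, 4, 6, 0, 1, 3, 2, 0, 1, 0, 1, 4, 0, 1, 3, 2, 1, 3, 4, 0, 3, 5, 4, 6, 2, 3, 5, 1, 5, 6, 2, 4, 3, 4, 2, 5, 1, 3, 4, 6, 2, 0, 3, 1, 2, 3, 0, 1, 2, 3, 2, 1, 0, 1, 2],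
    [5, 1, 2, 0, 3, 2, 1, 2, 5, 3, 6, 0, 1, 3, 2, 3, 6, 2, 1, 2, 3, 1, 2, 3, 2, 6, 3, 1, 2, 5, 0, 1, 0, 1, 6, 5, 2, 3, 1, 6, 0, 1, 5, 6, 1, 2, 3, 2, 1, 0, 5, 4, 6, 1, 6, 2, 1, 0, 5, 4, 3, 2, 5, 1, 6, 5, 4, 2, 3, 1, 4, 2, 3, 4, 6, 0, 1, 6, 1, 3, 2, 6, 1, 2, 3, 2, 4, 3, 0, 1, 0, 2, 1, 3, 4, 0, 3, 5, 4, 6, 2, 3, 5, 1, 5, 6, 2, 4, 3, 4, 2, 5, 1, 3, 4, 6, 2, 0, 3, 1, 2, 3, 0, 1, 2, 3, 2, 1, 0, 1, 2],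
    [3, 5, 6, 1, 2, 5, 3, 4, 0, 1, 0, 2, 1, 5, 0, 6, 2, 1, 0, 1, 3, 2, 0, 5, 1, 2, 3, 4, 3, 2, 3, 1, 5, 2, 0, 6, 1, 0, 6, 3, 5, 1, 0, 2, 4, 3, 1, 2, 6, 1, 5, 6, 2, 1, 5, 0, 4, 1, 2, 6, 1, 3, 2, 6, 1, 2, 3, 2, 4, 3, 0, 1, 0, 2, 1, 3, 4, 0, 6, 2, 3, 1, 6, 2, 1, 4, 0, 3, 2, 1, 4, 0, 1, 2, 4, 3, 4, 3, 2, 3, 2, 3, 2, 1, 0, 6, 2, 3, 2, 1, 2, 3, 5, 4, 6, 2, 3, 5, 1, 5, 6, 2, 4, 3, 4, 2, 5, 1, 3, 4, 6, 2, 0, 3, 1, 2, 3, 0, 1, 2, 3, 2, 1, 0, 1, 2],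
    [3, 5, 6, 1, 2, 5, 3, 4, 0, 1, 0, 2, 1, 5, 0, 6, 2, 1, 0, 1, 3, 2, 0, 5, 1, 2, 3, 4, 3, 2, 3, 1, 5, 2, 0, 6, 1, 0, 6, 3, 5, 1, 0, 2, 4, 3, 1, 2, 6, 1, 5, 6, 2, 1, 5, 0, 4, 1, 2, 6, 1, 3, 2, 6, 1, 2, 3, 2, 4, 3, 0, 1, 0, 2, 1, 3, 4, 0, 6, 2, 3, 1, 6, 1, 0, 1, 2, 3, 2, 1, 0, 3, 2, 1, 3, 0, 2, 6, 3, 1, 4, 6, 2, 3, 4, 2, 1, 3, 0, 2, 6, 3, 2, 1, 0, 6, 2, 3, 2, 1, 2],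
    [3, 5, 6, 1, 2, 5, 3, 4, 0, 1, 0, 2, 1, 5, 0, 6, 2, 1, 0, 1, 3, 2, 0, 5, 1, 2, 3, 4, 3, 2, 3, 1, 5, 2, 0, 6, 1, 0, 6, 3, 5, 1, 0, 2, 4, 3, 1, 2, 6, 1, 5, 6, 2, 1, 5, 0, 4, 1, 2, 6, 1, 3, 2, 6, 1, 2, 3, 2, 4, 3, 0, 1, 0, 2, 1, 3, 4, 0, 6, 2, 3, 1, 6, 1, 0, 1, 2, 3, 2, 1, 0, 3, 2, 1, 3, 0, 2, 6, 3, 1, 4, 6, 2, 3, 4, 2, 1, 3, 0, 2, 6, 3],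
    [3, 5, 6, 1, 2, 5, 3, 4, 0, 1, 0, 2, 1, 5, 0, 6, 2, 1, 0, 1, 3, 2, 0, 5, 1, 2, 3, 4, 3, 2, 3, 1, 5, 2, 0, 6, 1, 0, 6, 3, 5, 1, 0, 2, 4, 3, 1, 2, 6, 1, 5, 6, 2, 1, 5, 0, 4, 1, 2, 6, 1, 3, 2, 6, 1, 2, 3, 2, 4, 3, 0, 1, 0, 2, 1, 3, 4, 0, 6, 2, 3, 1, 6, 3, 2, 0, 1, 0, 1, 4, 0, 1, 3, 2, 1, 3, 4, 0],
    [3, 5, 6, 1, 2, 5, 3, 4, 0, 1, 0, 2, 1, 5, 0, 6, 2, 1, 0, 1, 3, 2, 0, 5, 1, 2, 3, 4, 3, 2, 3, 1, 5, 2, 0, 6, 1, 0, 6, 3, 5, 1, 0, 2, 4, 3, 1, 2, 6, 1, 5, 6, 2, 1, 5, 0, 4, 1, 2, 6, 1, 3, 2, 6, 1, 2, 3, 2, 4, 3, 0, 1, 0, 2, 1, 3, 4, 0, 6, 2, 3, 1, 6, 3, 2, 0, 1, 0, 1, 4, 0, 1, 3, 2, 1, 3, 4, 0, 2, 1, 0, 6, 2, 3,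 2, 1, 2],
    [3, 5, 6, 1, 2, 5, 3, 4, 0, 1, 0, 2, 1, 5, 0, 6, 2, 1, 0, 1, 3, 2, 0, 5, 1, 2, 3, 4, 3, 2, 3, 1, 5, 2, 0, 6, 1, 0, 6, 3, 5, 1, 0, 2, 4, 3, 1, 2, 6, 1, 5, 6, 2, 1, 5, 0, 4, 1, 2, 6, 1, 3, 2, 6, 1, 2, 3, 2, 4, 3, 0, 1, 0, 2, 1, 3, 4, 0, 1, 2, 3, 2, 4, 3, 0, 1, 0, 2, 1, 3, 4, 0],
    [3, 5, 6, 1, 2, 5, 3, 4, 0, 1, 0, 2, 1, 5, 0, 6, 2, 1, 0, 1, 3, 2, 0, 5, 1, 2, 3, 4, 3, 2, 3, 1, 5, 2, 0, 6, 1, 0, 6, 3, 5, 1, 0, 2, 4, 3, 1, 2, 6, 1, 5, 6, 2, 1, 5, 0, 4, 1, 2, 6, 1, 3, 2, 6, 1, 2, 3, 2, 4, 3, 0, 1, 0, 2, 1, 3, 4, 0, 1, 2, 3, 2, 4, 3, 0, 1, 0, 2, 1, 3, 4, 0, 2, 1, 0, 6, 2, 3, 2, 1, 2],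
    [3, 5, 6, 1, 2, 5, 3, 4, 0, 1, 0, 2, 1, 5, 0, 6, 2, 1, 0, 1, 3, 2, 0, 5, 1, 2, 3, 4, 3, 2, 3, 1, 5, 2, 0, 6, 1, 0, 6, 3, 5, 1, 0, 2, 4, 3, 1, 2, 6, 1, 5, 6, 2, 1, 5, 0, 4, 1, 2, 6, 1, 3, 2, 6, 1, 2, 3, 2, 4, 3, 0, 1, 0, 2, 1, 3, 4, 0, 6, 2, 3, 1, 6, 1, 0, 6, 2, 3, 2, 1, 2, 1, 4, 0, 3, 2, 1, 4, 0, 1, 2, 4, 3, 4, 3, 2, 3, 2, 5, 4, 6, 2, 3, 5, 1, 5, 6, 2, 4, 3, 4, 2, 5, 1, 3, 4, 6, 2, 0, 3, 1, 2, 3, 0, 1, 2, 3, 2, 1, 0, 1, 2],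
    [3, 5, 6, 1, 2, 5, 3, 4, 0, 1, 0, 2, 1, 5, 0, 6, 2, 1, 0, 1, 3, 2, 0, 5, 1, 2, 3, 4, 3, 2, 3, 1, 5, 2, 0, 6, 1, 0, 6, 3, 5, 1, 0, 2, 4, 3, 1, 2, 6, 1, 5, 6, 2, 1, 5, 0, 4, 1, 2, 6, 1, 3, 2, 6, 1, 2, 3, 2, 4, 3, 0, 1, 0, 2, 1, 3, 4, 0, 6, 2, 3, 1, 6, 2, 1, 4, 0, 3, 2, 1, 4, 0, 1, 2, 4, 3, 4, 3, 2, 3, 2, 5, 4, 6, 2, 3, 5, 1, 5, 6, 2, 4, 3, 4, 2, 5, 1, 3, 4, 6, 2, 0, 3, 1, 2, 3, 0, 1, 2, 3, 2, 1, 0, 1, 2],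
    [3, 5, 6, 1, 2, 5, 3, 4, 0, 1, 0, 2, 1, 5, 0, 6, 2, 1, 0, 1, 3, 2, 0, 5, 1, 2, 3, 4, 3, 2, 3, 1, 5, 2, 0, 6, 1, 0, 6, 3, 5, 1, 0, 2, 4, 3, 1, 2, 6, 1, 5, 6, 2, 1, 5, 0, 4, 1, 2, 6, 1, 3, 2, 6, 1, 2, 3, 2, 4, 3, 0, 1, 0, 2, 1, 3, 4, 0, 6, 2, 3, 1, 6, 3, 2, 0, 1, 0, 1, 4, 0, 1, 3, 2, 1, 3, 4, 0, 2, 6, 1, 3, 2, 6, 1, 2, 3, 2, 4, 3, 0, 1, 0, 2, 1, 3, 4, 0, 3, 5, 4, 6, 2, 3, 5, 1, 5, 6, 2, 4, 3, 4, 2, 5, 1, 3, 4, 6, 2, 0, 3, 1, 2, 3, 0, 1, 2, 3, 2, 1, 0, 1, 2],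
    [3, 5, 6, 1, 2, 5, 3, 4, 0, 1, 0, 2, 1, 5, 0, 6, 2, 1, 0, 1, 3, 2, 0, 5, 1, 2, 3, 4, 3, 2, 3, 1, 5, 2, 0, 6, 1, 0, 6, 3, 5, 1, 0, 2, 4, 3, 1, 2, 6, 1, 5, 6, 2, 1, 5, 0, 4, 1, 2, 6, 1, 3, 2, 6, 1, 2, 3, 2, 4, 3, 0, 1, 0, 2, 1, 3, 4, 0, 6, 2, 3, 1, 6, 1, 0, 6, 2, 3, 2, 0, 1, 2, 3, 2, 1, 0, 3, 2, 1, 3, 0, 2, 6, 3, 1, 4, 6, 2, 3, 4, 2, 1, 3, 0, 2, 6, 3],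
    [3, 5, 6, 1, 2, 5, 3, 4, 0, 1, 0, 2, 1, 5, 0, 6, 2, 1, 0, 1, 3, 2, 0, 5, 1, 2, 3, 4, 3, 2, 3, 1, 5, 2, 0, 6, 1, 0, 6, 3, 5, 1, 0, 2, 4, 3, 1, 2, 6, 1, 5, 6, 2, 1, 5, 0, 4, 1, 2, 6, 1, 3, 2, 6, 1, 2, 3, 2, 4, 3, 0, 1, 0, 2, 1, 3, 4, 0, 6, 2, 3, 1, 6, 2, 3, 5, 4, 6, 2, 3, 5, 1, 5, 6, 2, 4, 3, 4, 2, 5, 1, 3, 4, 6, 2, 0, 3, 1, 2, 3, 0, 1, 2, 3, 2, 1, 6, 2, 3, 2, 1, 2, 3, 5, 4, 6, 2, 3, 5, 1, 5, 6, 2, 4, 3, 4, 2, 5, 1, 3, 4, 6, 2, 0, 3, 1, 2, 3, 0, 1, 2, 3, 2, 1, 0, 1, 2],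
    [6, 2, 3, 5, 1, 5, 2, 3, 1, 4, 0, 3, 1, 2, 6, 3, 1, 0, 2, 1, 5, 2, 1, 0, 1, 2, 3, 2, 6, 3, 1, 2, 5, 0, 1, 0, 1, 6, 5, 2, 3, 1, 6, 4, 2, 3, 1, 4, 2, 3, 4, 6, 0, 1, 2],
    [6, 2, 3, 5, 1, 5, 2, 3, 1, 4, 0, 3, 1, 2, 6, 3, 1, 0, 2, 1, 5, 2, 1, 0, 1, 2, 3, 2, 6, 3, 1, 2, 5, 0, 1, 0, 1, 6, 5, 2, 3, 1, 6, 4, 2, 3, 1, 4, 2, 3, 4, 6, 0, 1, 3, 2, 0, 1, 0, 1, 4, 0, 1, 3, 2, 1, 3, 4, 0, 2, 1, 0, 6, 2, 3, 2, 1, 2, 3, 5, 4, 6, 2, 3, 5, 1, 5, 6, 2, 4, 3, 4, 2, 5, 1, 3, 4, 6, 2, 0, 3, 1, 2, 3, 0, 1, 2, 3, 2, 1, 0, 1, 2],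
    [6, 2, 3, 5, 1, 5, 2, 3, 1, 4, 0, 3, 1, 2, 6, 3, 1, 0, 2, 1, 5, 2, 1, 0, 1, 2, 3, 2, 6, 3, 1, 2, 5, 0, 1, 0, 1, 6, 5, 2, 3, 1, 6, 4, 2, 3, 1, 4, 2, 3, 4, 6, 0, 1, 6, 1, 3, 2, 6, 1, 2, 3, 2, 4, 3, 0, 1, 0, 2, 1, 3, 4, 0, 3, 5, 4, 6, 2, 3, 5, 1, 5, 6, 2, 4, 3, 4, 2, 5, 1, 3, 4, 6, 2, 0, 3, 1, 2, 3, 0, 1, 2, 3, 2, 1, 0, 1, 2],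
    [6, 2, 3, 5, 1, 5, 2, 3, 1, 4, 0, 3, 1, 2, 6, 3, 1, 0, 2, 1, 5, 2, 1, 0, 1, 2, 3, 2, 6, 3, 1, 2, 5, 0, 1, 0, 1, 6, 5, 2, 3, 1, 6, 4, 2, 3, 1, 4, 2, 3, 4, 2, 3, 2, 1, 2, 1, 4, 0, 3, 2, 1, 4, 0, 1, 2, 4, 3, 4, 3, 2, 3, 2, 3, 2, 1, 0, 1, 2, 3, 2, 1, 0, 3, 2, 1, 3, 0, 2, 6, 3, 1, 4, 6, 2, 3, 4, 2, 1, 3, 0, 2, 6, 3],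
    [6, 2, 3, 5, 1, 5, 2, 3, 1, 4, 0, 3, 1, 2, 6, 3, 1, 0, 2, 1, 5, 2, 1, 0, 1, 2, 3, 2, 6, 3, 1, 2, 5, 0, 1, 0, 1, 6, 5, 2, 3, 1, 6, 4, 2, 3, 1, 4, 2, 3, 4, 6, 0, 1, 3, 2, 0, 1, 0, 1, 4, 0, 1, 3, 2, 1, 3, 4, 0, 2, 6, 1, 3, 2, 6, 1, 2, 3, 2, 4, 3, 0, 1, 0, 2, 1, 3, 4, 0, 2, 1, 0, 1, 2, 3, 2, 1, 0, 3, 2, 1, 3, 0, 2, 6, 3, 1, 4, 6, 2, 3, 4, 2, 1, 3, 0, 2, 6, 3],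
    [6, 2, 3, 5, 1, 5, 2, 3, 1, 4, 0, 3, 1, 2, 6, 3, 1, 0, 2, 1, 5, 2, 1, 0, 1, 2, 3, 2, 6, 3, 1, 2, 5, 0, 1, 0, 1, 6, 5, 2, 3, 1, 6, 4, 2, 3, 1, 4, 2, 3, 4, 6, 0, 1, 2, 1, 4, 0, 3, 2, 1, 4, 0, 1, 2, 4, 3, 4, 3, 2, 3, 2, 3, 2, 1, 0, 6, 2, 3, 2, 0, 1, 2, 3, 2, 1, 0, 3, 2, 1, 3, 0, 2, 6, 3, 1, 4, 6, 2, 3, 4, 2, 1, 3, 0, 2, 6, 3],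
    [6, 2, 3, 5, 1, 5, 2, 3, 1, 4, 0, 3, 1, 2, 6, 3, 1, 0, 2, 1, 5, 2, 1, 0, 1, 2, 3, 2, 6, 3, 1, 2, 5, 0, 1, 0, 1, 6, 5, 2, 3, 1, 6, 4, 2, 3, 1, 4, 2, 3, 4, 6, 0, 1, 2, 1, 4, 0, 3, 2, 1, 4, 0, 1, 2, 4, 3, 4, 3, 2, 3, 2, 3, 2, 1, 0, 1, 2, 3, 2, 1, 0, 3, 2, 1, 3, 0, 2, 6, 3, 1, 4, 6, 2, 3, 4, 2, 1, 3, 0, 2, 6, 3],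
    [6, 2, 3, 5, 1, 5, 2, 3, 1, 4, 0, 3, 1, 2, 6, 3, 1, 0, 2, 1, 5, 2, 1, 0, 1, 2, 3, 2, 6, 3, 1, 2, 5, 0, 1, 0, 1, 6, 5, 2, 3, 1, 6, 4, 2, 3, 1, 4, 2, 3, 4, 6, 0, 1, 2, 3, 5, 4, 6, 2, 3, 5, 1, 5, 6, 2, 4, 3, 4, 2, 5, 1, 3, 4, 6, 2, 0, 3, 1, 2, 3, 0, 1, 2, 3, 2, 1, 6, 2, 3, 2, 0, 1, 2, 3, 2, 1, 0, 3, 2, 1, 3, 0, 2, 6, 3, 1, 4, 6, 2, 3, 4, 2, 1, 3, 0, 2, 6, 3],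
    [6, 2, 3, 5, 1, 5, 2, 3, 1, 4, 0, 3, 1, 2, 6, 3, 1, 0, 2, 1, 5, 2, 1, 0, 1, 2, 3, 2, 6, 3, 1, 2, 5, 0, 1, 0, 1, 6, 5, 2, 3, 1, 6, 4, 2, 3, 1, 4, 2, 3, 4, 2, 3, 2, 1, 2],
    [6, 2, 3, 5, 1, 5, 2, 3, 1, 4, 0, 3, 1, 2, 6, 3, 1, 0, 2, 1, 5, 2, 1, 0, 1, 2, 3, 2, 6, 3, 1, 2, 5, 0, 1, 0, 1, 6, 5, 2, 3, 1, 6, 4, 2, 3, 1, 4, 2, 3, 4, 6, 1, 2, 3, 2, 1, 0, 3, 2, 1, 3, 0, 2, 6, 3, 1, 4, 6, 2, 3, 4, 2, 1, 3, 0, 2, 6, 3, 2, 1, 0, 6, 2, 3, 2, 1, 2, 3, 5, 4, 6, 2, 3, 5, 1, 5, 6, 2, 4, 3, 4, 2, 5, 1, 3, 4, 6, 2, 0, 3, 1, 2, 3, 0, 1, 2, 3, 2, 1, 0, 1, 2],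
    [6, 2, 3, 5, 1, 5, 2, 3, 1, 4, 0, 3, 1, 2, 6, 3, 1, 0, 2, 1, 5, 2, 1, 0, 1, 2, 3, 2, 6, 3, 1, 2, 5, 0, 1, 0, 1, 6, 5, 2, 3, 1, 6, 4, 2, 3, 1, 4, 2, 3, 4, 6, 0, 1, 6, 1, 3, 2, 6, 1, 2, 3, 2, 4, 3, 0, 1, 0, 2, 1, 3, 4, 0, 2, 1, 0, 6, 2, 3, 2, 1, 2, 3, 5, 4, 6, 2, 3, 5, 1, 5, 6, 2, 4, 3, 4, 2, 5, 1, 3, 4, 6, 2, 0, 3, 1, 2, 3, 0, 1, 2, 3, 2, 1, 0, 1, 2],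
    [6, 2, 3, 5, 1, 5, 2, 3, 1, 4, 0, 3, 1, 2, 6, 3, 1, 0, 2, 1, 5, 2, 1, 0, 1, 2, 3, 2, 6, 3, 1, 2, 5, 0, 1, 0, 1, 6, 5, 2, 3, 1, 6, 4, 2, 3, 1, 4, 2, 3, 4, 6, 0, 1, 3, 2, 0, 1, 0, 1, 4, 0, 1, 3, 2, 1, 3, 4, 0, 3, 5, 4, 6, 2, 3, 5, 1, 5, 6, 2, 4, 3, 4, 2, 5, 1, 3, 4, 6, 2, 0, 3, 1, 2, 3, 0, 1, 2, 3, 2, 1, 0, 1, 2]]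

end CfsgLib.Spor.SuzOut
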