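import Cfsg.Agent.Lib.Spor.SuzOut.CheckChainX
import Cfsg.Agent.Lib.Spor.SuzOut.CheckChainZ
import Cfsg.Agent.Lib.Spor.SuzOut.CheckX
import Cfsg.Agent.Lib.Spor.SuzOut.CheckZ
import Cfsg.Agent.Lib.Spor.SuzOut.CheckElts
import Cfsg.Agent.Lib.Spor.SuzOut.CheckCands
import Cfsg.Agent.Lib.Spor.Suz.Order
import Cfsg.Agent.Lib.Spor.Held.Extra

/-!
The outer automorphism group of the Suzuki sporadic group has order two.
-/

set_option autoImplicit false

namespace CfsgLib.Spor.SuzOut

open Cfsg CfsgLib.Spor.TC CfsgLib.Spor.ActCert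

instance neZero_points : NeZero CfsgLib.Spor.Suz.Act0.act.n := ⟨Nat.succ_ne_zero 1781⟩

theorem moved : (2 : ℕ) ≠ Suz.Act0.act.wact [0] 2 := by decide +kernel

theorem rho_injective : Function.Injective Suz.Act0.valid.rho := by
  haveI : IsSimpleGroup (Pres Suz.Act0.act.k Suz.relsG) := Suz.suz.1
  refine (MonoidHom.ker_eq_bot_iff _).1
    (((MonoidHom.normal_ker Suz.Act0.valid.rho).eq_bot_or_eq_top).resolve_right fun h => ?_)
  have h1 : Suz.Act0.valid.rho (el Suz.Act0.act Suz.relsG [0]) = 1 :=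
    MonoidHom.mem_ker.1 (h ▸ Subgroup.mem_top _)
  have h2 := rho_el Suz.Act0.valid (w := [0]) (by decide) ⟨2, by decide⟩
  rw [h1] at h2
  exact absurd h2 moved

theorem exact_of {Ls : List WLevel}
    (h : chainW CfsgLib.Spor.Suz.Act0.act [] Ls = true ∧ chainProd Ls = 448345497600) :
    Exact Suz.Act0.valid Ls :=
  ⟨h.1, rho_injective, by rw [show Nat.card (Pres Suz.Act0.act.k Suz.relsG) = 448345497600 from Suz.suz.2, h.2], by rw [h.2]; norm_num⟩

theorem out_pres : Nat.card (Out (Pres CfsgLib.Spor.Suz.Act0.act.k CfsgLib.Spor.Suz.relsG)) = 2 := by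
  haveI : Fact dat.p.Prime := ⟨by norm_num [dat]⟩
  refine out_two dat (exact_of chainZ_ok) ?_ (by decide) (by decide) ?_ elts_ok (exact_of chainX_ok) modesX_ok
    searchX_ok (exact_of chainZ_ok) modesZ_ok searchZ_ok cands_ok
  · rw [show Nat.card (Pres Suz.Act0.act.k Suz.relsG) = 448345497600 from Suz.suz.2, show dat.p = 13 from rfl,
      show (448345497600 : ℕ) = 13 ^ 1 * 34488115200 by norm_num,
      Nat.factorization_mul (by norm_num) (by norm_num), Nat.factorization_pow, Finsupp.add_apply,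
      Finsupp.smul_apply, Nat.Prime.factorization_self (by norm_num),
      Nat.factorization_eq_zero_of_not_dvd (by norm_num)]
    rfl
  · have h : ∀ k < 13, k ≠ 0 → ∃ i < 6, k * dat.r ^ i % dat.p ∈ dat.S := by decide
    intro k hk h0
    obtain ⟨i, -, hi⟩ := h k hk h0
    exact ⟨i, hi⟩

theorem out_Suz : Nat.card (Out Cfsg.Spor.Suz) = 2 := by
  obtain ⟨e, -⟩ := Suz.coxData.exists_equiv (k := 7) rfl Suz.rels_eq
  exact (out_card_congr e).symm.trans out_pres

end CfsgLib.Spor.SuzOut
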